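import Cfsg.Agent.FiLarge.U62.Tv
import Cfsg.Agent.FiLarge.Thom.Final

/-!
The four-group, its centraliser, and the map of the part commuting with the centre onto the unitary group.
-/

set_option autoImplicit false
set_option quotPrecheck false
set_option maxRecDepth 100000
set_option linter.style.haveILetI false
set_option linter.unusedSectionVars false

open scoped Matrix

namespace CfsgLib.FiLarge.U62

open CfsgLib Subgroup Matrix CfsgLib.Unitary CfsgLib.FiLarge.Thom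
open CfsgLib.FiLarge.Dat (val)

/-- The tail of a vector. -/
def tail (v : V6) : V4 := fun i => v (tl i)

theorem tail_add (u v : V6) : tail (u + v) = tail u + tail v := rfl

/-- The first of the three points. -/
def ptA : Cfsg.GolayPt := Golay.pt 0
/-- The second of the three points. -/
def ptB : Cfsg.GolayPt := Golay.pt 1
/-- The third of the three points. -/
def ptC : Cfsg.GolayPt := Golay.pt 2

theorem abc_ne : ptA ≠ ptB ∧ ptB ≠ ptC ∧ ptA ≠ ptC := by decide +kernel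

theorem balanced_iff : ∀ a : V6, (qn (a + v2) = qn a + qn v2 ∧ qn (a + om • v2) = qn a + qn (om • v2)) ↔
    a 0 = a 1 := by decide +kernel

theorem chars_exist : ∃ t t' : F4,
    (¬ qn ((![t, 0, 0, 0, 0, 0] : V6) + v2) = qn ![t, 0, 0, 0, 0, 0] + qn v2 ∧
      qn ((![t, 0, 0, 0, 0, 0] : V6) + om • v2) = qn ![t, 0, 0, 0, 0, 0] + qn (om • v2)) ∧
    (qn ((![t', 0, 0, 0, 0, 0] : V6) + v2) = qn ![t', 0, 0, 0, 0, 0] + qn v2 ∧
      ¬ qn ((![t', 0, 0, 0, 0, 0] : V6) + om • v2) = qn ![t', 0, 0, 0, 0, 0] + qn (om • v2)) := by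
  decide +kernel

variable {G : Type*} [Group G] [Finite G] {z : G} {Q : Subgroup (centralizer ({z} : Set G))} [Q.Normal]
  {D : Dat z Q}

local notation "HH" => centralizer ({z} : Set G)
local notation "mk" => QuotientGroup.mk' Q

theorem smul_v2_small (T : Std (HH ⧸ Q)) {c : F4} (hc : c ≠ 0) : c • v2 ∈ T.orb ⊤ v2 := by
  rcases (by decide +kernel : ∀ c : F4, c ≠ 0 → c = 1 ∨ c = om ∨ c = om * om) c hc with rfl | rfl | rfl
  · rw [one_smul]; exact T.mem_orb.2 ⟨1, mem_top _, T.r_one _⟩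
  · exact T.mem_orb.2 ⟨T.x, mem_top _, T.x_act _⟩
  · exact T.mem_orb.2 ⟨T.x * T.x, mem_top _, by rw [T.r_mul, T.x_act, T.x_act, smul_smul]⟩

/-- The setting: the labels placed so that the four-group is on the first three points. -/
structure Ctx (D : Dat z Q) where
  /-- The conjugating element. -/
  gs : G
  /-- The conjugate of the centre. -/
  s : Q
  hgs : gs * z * gs⁻¹ = val s
  hsz : val s ≠ z
  hu : Uniq z
  /-- The labels. -/
  L : Label D
  /-- A first element over the short vector. -/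
  qa : Q
  /-- An element over its multiple. -/
  qb : Q
  πa : D.π qa = v2
  πb : D.π qb = om • v2
  ea : val qa = L.lab ptA ptB
  eb : val qb = L.lab ptB ptC

theorem move_three (a b c : Cfsg.GolayPt) (hab : a ≠ b) (hbc : b ≠ c) (hac : a ≠ c) :
    ∃ g : Cfsg.M24, (g : Equiv.Perm Cfsg.GolayPt) a = ptA ∧ (g : Equiv.Perm Cfsg.GolayPt) b = ptB ∧
      (g : Equiv.Perm Cfsg.GolayPt) c = ptC := by
  haveI := Golay.pretransitive_emb 3 (by norm_num)
  let x : Fin 3 ↪ Cfsg.GolayPt := ⟨![a, b, c], by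
    intro i j h; fin_cases i <;> fin_cases j <;> simp_all [eq_comm]⟩
  let y : Fin 3 ↪ Cfsg.GolayPt := ⟨![ptA, ptB, ptC], by
    obtain ⟨h1, h2, h3⟩ := abc_ne
    intro i j h; fin_cases i <;> fin_cases j <;> simp_all [eq_comm]⟩
  obtain ⟨g, hg⟩ := MulAction.exists_smul_eq Cfsg.M24 x y
  have h : ∀ i, (g : Equiv.Perm Cfsg.GolayPt) (x i) = y i := fun i => congrArg (fun e : Fin 3 ↪ _ => e i) hg
  exact ⟨g, h 0, h 1, h 2⟩

/-- Relabelling by an element of the Mathieu group. -/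
noncomputable def relabel (L : Label D) (g : Cfsg.M24) : Label D where
  lab p q := L.lab ((g⁻¹ : Cfsg.M24) • p) ((g⁻¹ : Cfsg.M24) • q)
  ev s := L.ev (s.image fun p => (g⁻¹ : Cfsg.M24) • p)
  φ := (MulAut.conj g).toMonoidHom.comp L.φ
  surj := (MulAut.conj g).surjective.comp L.surj
  ker m := by
    show MulAut.conj g (L.φ m) = 1 ↔ _
    rw [MulEquiv.map_eq_one_iff, L.ker]
  conj m p q := by
    rw [L.conj]
    have h : ∀ p, ((L.φ m : Equiv.Perm Cfsg.GolayPt) ((g⁻¹ : Cfsg.M24) • p)) =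
        (g⁻¹ : Cfsg.M24) • ((MulAut.conj g (L.φ m) : Cfsg.M24) : Equiv.Perm Cfsg.GolayPt) p := fun p => by
      show L.φ m • (g⁻¹ • p) = g⁻¹ • ((MulAut.conj g (L.φ m)) • p)
      simp [smul_smul, mul_assoc]
    rw [h, h]
    rfl
  self p := L.self _
  symm p q := L.symm _ _
  trans p q r := L.trans _ _ _
  mem p q hpq := L.mem _ _ fun e => hpq (smul_left_cancel _ e)
  pair p q hpq := by
    rw [Finset.image_insert, Finset.image_singleton]
    exact L.pair _ _ fun e => hpq (smul_left_cancel _ e)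
  ev_mem s := L.ev_mem _
  ev_add s t := by
    rw [Finset.image_symmDiff _ _ (MulAction.injective _)]
    exact L.ev_add _ _
  octad b hb := by
    refine L.octad _ ?_
    have h2 : (g⁻¹ : Cfsg.M24).1 ∈ Cfsg.setSystemAut Cfsg.octads := Golay.M24_eq_octAut ▸ (g⁻¹ : Cfsg.M24).2
    exact Steiner.mem_aut_iff.1 h2 b hb
  four s hs := L.four _ (by rw [Finset.card_image_of_injective _ (MulAction.injective _), hs])
  exists_pair t ht := by
    obtain ⟨p, q, hpq, h⟩ := L.exists_pair t ht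
    exact ⟨g • p, g • q, fun e => hpq (smul_left_cancel _ e), by simpa [smul_smul] using h⟩
  exists_four a ha hz p := by
    obtain ⟨s, hs, hp, h⟩ := L.exists_four a ha hz ((g⁻¹ : Cfsg.M24) • p)
    refine ⟨s.image fun p => g • p, by rw [Finset.card_image_of_injective _ (MulAction.injective _), hs],
      Finset.mem_image.2 ⟨_, hp, smul_inv_smul g p⟩, ?_⟩
    rw [Finset.image_image]
    rw [show ((fun p => (g⁻¹ : Cfsg.M24) • p) ∘ fun p => g • p) = id from funext fun p => inv_smul_smul g p,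
      Finset.image_id, h]
  stab t ht := by
    obtain ⟨p, q, hpq, h⟩ := L.stab t ht
    refine ⟨g • p, g • q, fun e => hpq (smul_left_cancel _ e), fun m => (h m).trans ?_⟩
    have e : ∀ p, ((MulAut.conj g).toMonoidHom.comp L.φ m : Equiv.Perm Cfsg.GolayPt) (g • p) = g • (L.φ m • p) :=
      fun p => by
        show MulAut.conj g (L.φ m) • g • p = g • L.φ m • p
        simp [smul_smul, mul_assoc]
    simp only [e, smul_left_cancel_iff]
    rfl

theorem exists_ctx (hF : Cfsg.IsOfLargeFischerTypeAt z Q) : ∃ D : Dat z Q, Nonempty (Ctx D) := by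
  classical
  obtain ⟨D, gs, s, hgs, hsz⟩ := exists_setting hF
  have hu := uniq_of hF
  obtain ⟨L⟩ := exists_label D hgs hsz hu
  obtain ⟨qa, ha⟩ := D.π_surj v2
  obtain ⟨qb, hb⟩ := D.π_surj (om • v2)
  have hW : InW v2 := ⟨rfl, rfl, rfl⟩
  have haR : val qa ∈ R0 D := val_mem_R0 D (ha ▸ hW)
  have hbR : val qb ∈ R0 D := val_mem_R0 D (hb ▸ hW.smul om)
  have sa : πG D (val qa) ∈ D.T.orb ⊤ v2 := by
    rw [πG_val, ha]
    simpa only [one_smul] using smul_v2_small D.T (one_ne_zero (α := F4))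
  have sb : πG D (val qb) ∈ D.T.orb ⊤ v2 := by
    rw [πG_val, hb]; exact smul_v2_small D.T (by decide +kernel)
  have sab : πG D (val qa * val qb) ∈ D.T.orb ⊤ v2 := by
    rw [show val qa * val qb = val (qa * qb) from rfl, πG_val, D.π_mul, ha, hb]
    rw [show v2 + om • v2 = (1 + om) • v2 by rw [add_smul, one_smul]]
    exact smul_v2_small D.T (by decide +kernel)
  obtain ⟨a, b, hab, eab⟩ := L.exists_pair _ (R0_mem_nS D hgs hsz haR sa)
  obtain ⟨c, d, hcd, ecd⟩ := L.exists_pair _ (R0_mem_nS D hgs hsz hbR sb)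
  have hne : val qa ≠ val qb := fun e => by
    have := congrArg D.π (Subtype.ext (Subtype.ext e) : qa = qb)
    rw [ha, hb] at this
    exact absurd (congrFun this 0) (by decide +kernel)
  -- a common point
  have hmeet : a = c ∨ a = d ∨ b = c ∨ b = d := by
    by_contra h
    simp only [not_or] at h
    obtain ⟨h1, h2, h3, h4⟩ := h
    have hz := L.four (symmDiff {a, b} {c, d}) (by
      rw [show symmDiff ({a, b} : Finset Cfsg.GolayPt) {c, d} = {a, b, c, d} by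
        ext x; simp only [Finset.mem_symmDiff, Finset.mem_insert, Finset.mem_singleton]
        constructor <;> intro hx <;> rcases hx with hx | hx | hx | hx <;> simp_all [eq_comm]]
      simp [Finset.card_insert_of_notMem, hab, hcd, h1, h2, h3, h4])
    rw [L.ev_add, L.pair _ _ hab, L.pair _ _ hcd, eab, ecd] at hz
    exact ((mem_nS D).1 (R0_mem_nS D hgs hsz (mul_mem haR hbR) sab)).2.2 hz
  obtain ⟨p, q, r, hpq, hqr, hpr, e1, e2⟩ : ∃ p q r, p ≠ q ∧ q ≠ r ∧ p ≠ r ∧ L.lab p q = val qa ∧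
      L.lab q r = val qb := by
    rcases hmeet with rfl | rfl | rfl | rfl
    · exact ⟨b, a, d, hab.symm, hcd, fun e => hne (by rw [← eab, ← ecd, e]), by rw [L.symm, eab], ecd⟩
    · exact ⟨b, a, c, hab.symm, hcd.symm, fun e => hne (by rw [← eab, ← ecd, e, L.symm]), by rw [L.symm, eab],
        by rw [L.symm, ecd]⟩
    · exact ⟨a, b, d, hab, hcd, fun e => hne (by rw [← eab, ← ecd, e, L.symm]), eab, ecd⟩
    · exact ⟨a, b, c, hab, hcd.symm, fun e => hne (by rw [← eab, ← ecd, e]), eab, by rw [L.symm, ecd]⟩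
  obtain ⟨g, g1, g2, g3⟩ := move_three p q r hpq hqr hpr
  have hA : ∀ x y, (g : Equiv.Perm Cfsg.GolayPt) x = y → (g⁻¹ : Cfsg.M24) • y = x := fun x y e => by
    rw [← e]; exact inv_smul_smul g x
  have ea : val qa = (relabel L g).lab ptA ptB := by
    show _ = L.lab _ _
    rw [hA _ _ g1, hA _ _ g2, e1]
  have eb : val qb = (relabel L g).lab ptB ptC := by
    show _ = L.lab _ _
    rw [hA _ _ g2, hA _ _ g3, e2]
  exact ⟨D, ⟨⟨gs, s, hgs, hsz, hu, relabel L g, qa, qb, ha, hb, ea, eb⟩⟩⟩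

namespace Ctx

variable (X : Ctx D)

include X in
theorem hinv : ∃ y, y * D.T.x * y⁻¹ = D.T.x⁻¹ := hinv_of D X.hgs X.hsz

include X in
theorem comm {a b : G} (ha : a ∈ A0 D) (hb : b ∈ A0 D) : Commute a b := comm_A0 D X.hgs X.hsz ha hb

include X in
theorem sq {a : G} (ha : a ∈ A0 D) : a * a = 1 := sq_A0 D X.hgs X.hsz ha

theorem lab_A0 (p q : Cfsg.GolayPt) : X.L.lab p q ∈ A0 D := by
  by_cases h : p = q
  · rw [h, X.L.self]; exact one_mem _
  · exact ((mem_nS D).1 (X.L.mem p q h)).1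

theorem lab_mul_self (p q : Cfsg.GolayPt) : X.L.lab p q * X.L.lab p q = 1 := X.sq (X.lab_A0 p q)

theorem lab_inv (p q : Cfsg.GolayPt) : (X.L.lab p q)⁻¹ = X.L.lab p q :=
  inv_eq_of_mul_eq_one_right (X.lab_mul_self p q)

/-- The four-group. -/
def E : Subgroup G where
  carrier := {g | g = 1 ∨ g = X.L.lab ptA ptB ∨ g = X.L.lab ptB ptC ∨ g = X.L.lab ptA ptC}
  one_mem' := Or.inl rfl
  mul_mem' := by
    intro a b ha hb
    have cm : ∀ p q r u, X.L.lab p q * X.L.lab r u = X.L.lab r u * X.L.lab p q :=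
      fun p q r u => (X.comm (X.lab_A0 p q) (X.lab_A0 r u)).eq
    have k1 : X.L.lab ptA ptB * X.L.lab ptB ptC = X.L.lab ptA ptC := X.L.trans _ _ _
    have k2 : X.L.lab ptA ptB * X.L.lab ptA ptC = X.L.lab ptB ptC := by rw [X.L.symm ptA ptB, X.L.trans]
    have k3 : X.L.lab ptA ptC * X.L.lab ptB ptC = X.L.lab ptA ptB := by rw [X.L.symm ptB ptC, X.L.trans]
    have k4 : X.L.lab ptB ptC * X.L.lab ptA ptB = X.L.lab ptA ptC := by rw [cm, k1]
    have k5 : X.L.lab ptA ptC * X.L.lab ptA ptB = X.L.lab ptB ptC := by rw [cm, k2]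
    have k6 : X.L.lab ptB ptC * X.L.lab ptA ptC = X.L.lab ptA ptB := by rw [cm, k3]
    simp only [Set.mem_ofPred_eq] at ha hb ⊢
    rcases ha with rfl | rfl | rfl | rfl <;> rcases hb with rfl | rfl | rfl | rfl <;>
      simp [X.lab_mul_self, k1, k2, k3, k4, k5, k6]
  inv_mem' := by
    intro a ha
    simp only [Set.mem_ofPred_eq] at ha ⊢
    rcases ha with rfl | rfl | rfl | rfl <;> simp [X.lab_inv]

theorem mem_E {g : G} :
    g ∈ X.E ↔ g = 1 ∨ g = X.L.lab ptA ptB ∨ g = X.L.lab ptB ptC ∨ g = X.L.lab ptA ptC := Iff.rfl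

theorem ab_E : X.L.lab ptA ptB ∈ X.E := Or.inr (Or.inl rfl)
theorem bc_E : X.L.lab ptB ptC ∈ X.E := Or.inr (Or.inr (Or.inl rfl))
theorem ac_E : X.L.lab ptA ptC ∈ X.E := Or.inr (Or.inr (Or.inr rfl))

theorem E_le_A0 : X.E ≤ A0 D := by
  rintro g (rfl | rfl | rfl | rfl)
  exacts [one_mem _, X.lab_A0 _ _, X.lab_A0 _ _, X.lab_A0 _ _]

theorem E_pairs {g : G} (hg : g ∈ X.E) (h1 : g ≠ 1) :
    ∃ p q, p ≠ q ∧ g = X.L.lab p q ∧ ({p, q} : Finset Cfsg.GolayPt) ⊆ {ptA, ptB, ptC} := by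
  obtain ⟨n1, n2, n3⟩ := abc_ne
  rcases hg with rfl | rfl | rfl | rfl
  · exact absurd rfl h1
  · exact ⟨_, _, n1, rfl, by simp [Finset.insert_subset_iff]⟩
  · exact ⟨_, _, n2, rfl, by simp [Finset.insert_subset_iff]⟩
  · exact ⟨_, _, n3, rfl, by simp [Finset.insert_subset_iff]⟩

theorem E_nS {g : G} (hg : g ∈ X.E) (h1 : g ≠ 1) : g ∈ nS D := by
  obtain ⟨p, q, hpq, rfl, -⟩ := X.E_pairs hg h1
  exact X.L.mem p q hpq

theorem not_z {g : G} (hg : g ∈ X.E) (h1 : g ≠ 1) : ¬ IsConj z g := ((mem_nS D).1 (X.E_nS hg h1)).2.2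

theorem z_notMem : z ∉ X.E := fun h => X.not_z h (z_ne D) (IsConj.refl z)

/-- An element of the four-group over a multiple of the short vector. -/
theorem E_val {g : G} (hg : g ∈ X.E) : ∃ q : Q, val q = g ∧ ∃ c : F4, D.π q = c • v2 ∧ (g ≠ 1 → c ≠ 0) := by
  rcases hg with rfl | rfl | rfl | rfl
  · exact ⟨1, rfl, 0, by rw [π_one D, zero_smul], fun h => absurd rfl h⟩
  · exact ⟨X.qa, X.ea, 1, by rw [X.πa, one_smul], fun _ => one_ne_zero⟩
  · exact ⟨X.qb, X.eb, om, X.πb, fun _ => by decide +kernel⟩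
  · refine ⟨X.qa * X.qb, ?_, 1 + om, ?_, fun _ => by decide +kernel⟩
    · show val X.qa * val X.qb = _
      rw [X.ea, X.eb, X.L.trans]
    · rw [D.π_mul, X.πa, X.πb, add_smul, one_smul]

theorem E_le_Q : X.E ≤ Q.map (Subgroup.subtype HH) := fun g hg => by
  obtain ⟨q, rfl, -⟩ := X.E_val hg
  exact mem_map_of_mem _ q.2

theorem E_z {g : G} (hg : g ∈ X.E) (h1 : g ≠ 1) : ¬ IsConj z (z * g) := by
  obtain ⟨q, rfl, c, hc, hc0⟩ := X.E_val hg
  obtain ⟨zq, hzq, hz0⟩ := exists_zQ D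
  rw [show z * val q = val (zq * q) from congrArg (· * val q) hzq.symm]
  refine small_not_z D ?_
  rw [D.π_mul, hz0, zero_add, hc]
  exact smul_v2_small D.T (hc0 h1)

theorem card_E : Nat.card X.E = 4 := by
  classical
  have h : (X.E : Set G) = ↑({1, X.L.lab ptA ptB, X.L.lab ptB ptC, X.L.lab ptA ptC} : Finset G) := by
    ext g; simp [mem_E]
  rw [← SetLike.coe_sort_coe, Nat.card_coe_set_eq, h, Set.ncard_coe_finset]
  have huA := X.lab_A0 ptA ptB
  have hwA := X.lab_A0 ptB ptC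
  obtain ⟨n1, n2, n3⟩ := abc_ne
  have hu1 := ((mem_nS D).1 (X.L.mem _ _ n1)).2.1
  have hw1 := ((mem_nS D).1 (X.L.mem _ _ n2)).2.1
  have hne : X.L.lab ptA ptB ≠ X.L.lab ptB ptC := fun e => ((mem_nS D).1 (X.L.mem _ _ n3)).2.1
    (by rw [← X.L.trans ptA ptB ptC, ← e, X.lab_mul_self])
  have := four_distinct D X.hgs X.hsz (one_mem (A0 D)) hu1 hw1 hne huA hwA
  rwa [one_mul, one_mul, X.L.trans] at this

/-- The centraliser of the four-group. -/
def C : Subgroup G := centralizer (X.E : Set G)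

theorem mem_C {g : G} : g ∈ X.C ↔ Commute g (X.L.lab ptA ptB) ∧ Commute g (X.L.lab ptB ptC) := by
  constructor
  · exact fun h => ⟨(mem_centralizer_iff.1 h _ X.ab_E).symm, (mem_centralizer_iff.1 h _ X.bc_E).symm⟩
  · rintro ⟨h1, h2⟩
    refine mem_centralizer_iff.2 ?_
    rintro _ (rfl | rfl | rfl | rfl)
    exacts [by rw [one_mul, mul_one], h1.eq.symm, h2.eq.symm,
      by rw [← X.L.trans ptA ptB ptC]; exact (h1.mul_right h2).eq.symm]

theorem C_comm {g s : G} (hg : g ∈ X.C) (hs : s ∈ X.E) : Commute g s := (mem_centralizer_iff.1 hg s hs).symm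

theorem A0_le_C : A0 D ≤ X.C := fun _ ha => X.mem_C.2 ⟨X.comm ha (X.lab_A0 _ _), X.comm ha (X.lab_A0 _ _)⟩

theorem E_le_C : X.E ≤ X.C := X.E_le_A0.trans X.A0_le_C

include X in
theorem z_mem_A0 : z ∈ A0 D := R0_le_A0 D (z_mem_R0 D)

theorem z_mem_C : z ∈ X.C := X.A0_le_C X.z_mem_A0

theorem conj_fix_E {g s : G} (hg : g ∈ X.C) (hs : s ∈ X.E) : g * s * g⁻¹ = s :=
  mul_inv_eq_iff_eq_mul.2 (X.C_comm hg hs).eq

/-- The class of the centre in the centraliser. -/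
def DD : Set G := {x | ∃ g ∈ X.C, g * z * g⁻¹ = x}

theorem z_mem : z ∈ X.DD := ⟨1, one_mem _, by group⟩

theorem DD_conj {x g : G} (hx : x ∈ X.DD) (hg : g ∈ X.C) : g * x * g⁻¹ ∈ X.DD := by
  obtain ⟨k, hk, rfl⟩ := hx
  exact ⟨g * k, mul_mem hg hk, by group⟩

theorem DD_C {x : G} (hx : x ∈ X.DD) : x ∈ X.C := by
  obtain ⟨k, hk, rfl⟩ := hx
  exact mul_mem (mul_mem hk X.z_mem_C) (inv_mem hk)

theorem DD_z {x : G} (hx : x ∈ X.DD) : IsConj z x := by
  obtain ⟨k, -, rfl⟩ := hx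
  exact isConj_iff.2 ⟨k, rfl⟩

theorem DD_sq {x : G} (hx : x ∈ X.DD) : x * x = 1 := by
  obtain ⟨k, -, rfl⟩ := hx
  rw [show k * z * k⁻¹ * (k * z * k⁻¹) = k * (z * z) * k⁻¹ by group, z_sq D]
  group

theorem DD_inv {x : G} (hx : x ∈ X.DD) : x⁻¹ = x := inv_eq_of_mul_eq_one_right (X.DD_sq hx)

theorem DD_ne {x : G} (hx : x ∈ X.DD) : x ≠ 1 := fun e => not_conj_one D (e ▸ X.DD_z hx)

theorem DD_conj' {x y : G} (hx : x ∈ X.DD) (hy : y ∈ X.DD) : x * y * x ∈ X.DD := by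
  have := X.DD_conj hy (X.DD_C hx)
  rwa [X.DD_inv hx] at this

theorem DD_E {x s : G} (hx : x ∈ X.DD) (hs : s ∈ X.E) (h1 : s ≠ 1) : ¬ IsConj z (x * s) := by
  obtain ⟨k, hk, rfl⟩ := hx
  rw [show k * z * k⁻¹ * s = k * z * k⁻¹ * (k * s * k⁻¹) by rw [X.conj_fix_E hk hs],
    show k * z * k⁻¹ * (k * s * k⁻¹) = k * (z * s) * k⁻¹ by group, conj_z_conj]
  exact X.E_z hs h1

/-- The part of the centraliser commuting with the centre. -/
def KK : Subgroup G := X.C ⊓ HH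

theorem mem_KK {g : G} : g ∈ X.KK ↔ g ∈ X.C ∧ Commute g z := by
  rw [KK, mem_inf, mem_centralizer_singleton_iff]
  rfl

theorem KK_C {g : G} (hg : g ∈ X.KK) : g ∈ X.C := hg.1

theorem KK_z {g : G} (hg : g ∈ X.KK) : Commute g z := (X.mem_KK.1 hg).2

theorem KK_fix {g : G} (hg : g ∈ X.KK) : g * z * g⁻¹ = z := mul_inv_eq_iff_eq_mul.2 (X.KK_z hg).eq

theorem A0_le_KK : A0 D ≤ X.KK := le_inf X.A0_le_C (A0_le_cz D)

theorem conj_qab {c : HH} (hc : (c : G) ∈ X.C) : D.T.r (mk c) v2 = v2 ∧ D.T.r (mk c) (om • v2) = om • v2 := by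
  constructor
  · rw [← X.πa]
    exact D.π_conj_eq (by rw [X.ea]; exact X.conj_fix_E hc X.ab_E)
  · rw [← X.πb]
    exact D.π_conj_eq (by rw [X.eb]; exact X.conj_fix_E hc X.bc_E)

theorem mk_lstab {c : HH} (hc : (c : G) ∈ X.C) : mk c ∈ D.T.lstab := by
  obtain ⟨h1, h2⟩ := X.conj_qab hc
  refine ⟨h1, mem_M_of_lin D.T X.hinv ((D.T.semi (mk c)).resolve_right fun h => ?_)⟩
  have e : D.T.r (mk c) (om • v2) = D.T.r (D.T.x⁻¹) v2 := by
    rw [← D.T.x_act, ← D.T.r_mul, show mk c * D.T.x = D.T.x⁻¹ * mk c by rw [← h]; group, D.T.r_mul, h1]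
  have e2 := congrArg (D.T.r D.T.x) (h2.symm.trans e)
  rw [← D.T.r_mul D.T.x D.T.x⁻¹, mul_inv_cancel, D.T.r_one, D.T.x_act, smul_smul] at e2
  exact absurd (congrFun e2 0) (by decide +kernel)

theorem mk_KK {g : G} (hg : g ∈ X.KK) : mk ⟨g, hg.2⟩ ∈ D.T.lstab := X.mk_lstab hg.1

open scoped Classical in
/-- The map onto the unitary group. -/
noncomputable def ph (g : G) : Cfsg.SU 4 F4 2 :=
  if h : g ∈ X.KK then D.T.toSU ⟨mk ⟨g, h.2⟩, X.mk_KK h⟩ else 1

theorem ph_def {g : G} (h : g ∈ X.KK) : X.ph g = D.T.toSU ⟨mk ⟨g, h.2⟩, X.mk_KK h⟩ := dif_pos h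

theorem ph_mul {g k : G} (hg : g ∈ X.KK) (hk : k ∈ X.KK) : X.ph (g * k) = X.ph g * X.ph k := by
  rw [X.ph_def hg, X.ph_def hk, X.ph_def (mul_mem hg hk), ← map_mul]
  rfl

theorem ph_one : X.ph 1 = 1 := by
  have h := X.ph_mul (one_mem X.KK) (one_mem X.KK)
  rw [one_mul] at h
  exact mul_eq_left.1 h.symm

theorem ph_inv {g : G} (hg : g ∈ X.KK) : X.ph g⁻¹ = (X.ph g)⁻¹ :=
  eq_inv_of_mul_eq_one_left (by rw [← X.ph_mul (inv_mem hg) hg, inv_mul_cancel, ph_one])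

theorem ph_conj {g k : G} (hg : g ∈ X.KK) (hk : k ∈ X.KK) :
    X.ph (g * k * g⁻¹) = X.ph g * X.ph k * (X.ph g)⁻¹ := by
  rw [X.ph_mul (mul_mem hg hk) (inv_mem hg), X.ph_mul hg hk, X.ph_inv hg]

theorem ph_commute {g k : G} (hg : g ∈ X.KK) (hk : k ∈ X.KK) (h : Commute g k) :
    Commute (X.ph g) (X.ph k) := by
  show _ * _ = _ * _
  rw [← X.ph_mul hg hk, ← X.ph_mul hk hg, h.eq]

theorem ph_eq {g : G} (hg : g ∈ X.KK) {h : Hx} (e : X.ph g = suElt (umat h) (umat_isU h)) :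
    mk ⟨g, hg.2⟩ = ovr D.T (umat h) (umat_isU h) :=
  eq_of_toSU D.T (X.mk_KK hg) (ovr_lstab _ _ _) (by rw [← X.ph_def hg, e, ovr_spec])

theorem ph_eq_one {g : G} (hg : g ∈ X.KK) : X.ph g = 1 ↔ ∃ q : Q, val q = g := by
  rw [X.ph_def hg]
  constructor
  · intro h
    have h' : mk ⟨g, hg.2⟩ = 1 :=
      congrArg Subtype.val (D.T.toSU_bijective.1 (h.trans (map_one _).symm))
    exact ⟨⟨⟨g, hg.2⟩, (QuotientGroup.eq_one_iff _).1 h'⟩, rfl⟩
  · rintro ⟨q, hq⟩
    have h' : mk ⟨g, hg.2⟩ = 1 := by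
      rw [show (⟨g, hg.2⟩ : HH) = (q : HH) from Subtype.ext hq.symm]
      exact (QuotientGroup.eq_one_iff _).2 q.2
    rw [show (⟨mk ⟨g, hg.2⟩, X.mk_KK hg⟩ : D.T.lstab) = 1 from Subtype.ext h', map_one]

/-- The elements of `Q` centralising the four-group. -/
theorem val_KK {q : Q} : val q ∈ X.KK ↔ D.π q 0 = D.π q 1 := by
  rw [← balanced_iff, mem_KK, and_iff_left (commute_zQ D q), mem_C, ← X.ea, ← X.eb]
  refine and_congr ?_ ?_
  · rw [← X.πa, ← D.comm_iff]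
    exact ⟨fun h => Subtype.ext (Subtype.ext h), fun h => congrArg val h⟩
  · rw [← X.πb, ← D.comm_iff]
    exact ⟨fun h => Subtype.ext (Subtype.ext h), fun h => congrArg val h⟩

theorem E_KK {g : G} (hg : g ∈ X.E) : g ∈ X.KK := X.A0_le_KK (X.E_le_A0 hg)

/-- Every element of the stabiliser lifts. -/
theorem lift {l : HH ⧸ Q} (hl : l ∈ D.T.lstab) : ∃ g, ∃ hg : g ∈ X.KK, mk ⟨g, hg.2⟩ = l := by
  obtain ⟨c, rfl⟩ := QuotientGroup.mk'_surjective Q l
  obtain ⟨t, t', ⟨ta, tb⟩, ta', tb'⟩ := chars_exist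
  obtain ⟨u, hu⟩ := D.π_surj ![t, 0, 0, 0, 0, 0]
  obtain ⟨u', hu'⟩ := D.π_surj ![t', 0, 0, 0, 0, 0]
  have hflip : ∀ (u : Q) (v : Q), (¬ qn (D.π u + D.π v) = qn (D.π u) + qn (D.π v)) →
      val u * val v * (val u)⁻¹ = val v * z := by
    intro u v h
    refine (eq_mul_z D v (MulAut.conjNormal (u : HH) v) rfl rfl
      (by rw [D.act]; exact (D.π_inner u v).symm)).resolve_left fun e => h ?_
    refine (D.comm_iff u v).1 (Subtype.ext (Subtype.ext ?_))
    exact mul_inv_eq_iff_eq_mul.1 e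
  have hkeep : ∀ (u : Q) (v : Q), qn (D.π u + D.π v) = qn (D.π u) + qn (D.π v) →
      val u * val v * (val u)⁻¹ = val v := fun u v h =>
    mul_inv_eq_iff_eq_mul.2 (congrArg val ((D.comm_iff u v).2 h))
  have hca := eq_mul_z D X.qa (MulAut.conjNormal c X.qa) rfl rfl (by rw [D.act, X.πa]; exact hl.1.symm)
  have hcb := eq_mul_z D X.qb (MulAut.conjNormal c X.qb) rfl rfl
    (by
      rw [D.act, X.πb]
      show om • v2 = D.T.r (mk c) (om • v2)
      rw [D.T.semilinear (D.T.lin hl.2), (hl.1 : D.T.r (mk c) v2 = v2)])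
  obtain ⟨c1, hc1, h1a, h1b⟩ : ∃ c1 : HH, mk c1 = mk c ∧ (c1 : G) * val X.qa * (c1 : G)⁻¹ = val X.qa ∧
      ((c1 : G) * val X.qb * (c1 : G)⁻¹ = val X.qb ∨ (c1 : G) * val X.qb * (c1 : G)⁻¹ = val X.qb * z) := by
    rcases hca with e | e
    · exact ⟨c, rfl, e, hcb⟩
    · refine ⟨(u : HH) * c, ?_, ?_, ?_⟩
      · rw [map_mul, show mk (u : HH) = 1 from (QuotientGroup.eq_one_iff _).2 u.2, one_mul]
      · show val u * (c : G) * val X.qa * (val u * (c : G))⁻¹ = _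
        rw [show val u * (c : G) * val X.qa * (val u * (c : G))⁻¹ =
          val u * ((c : G) * val X.qa * (c : G)⁻¹) * (val u)⁻¹ by group]
        change (c : G) * val X.qa * (c : G)⁻¹ = _ at e
        rw [e, conj_mul_z (commute_zQ D u) (hflip u X.qa (by rw [hu, X.πa]; exact ta)), mul_assoc, z_sq D,
          mul_one]
      · show val u * (c : G) * val X.qb * (val u * (c : G))⁻¹ = _ ∨
          val u * (c : G) * val X.qb * (val u * (c : G))⁻¹ = _
        rw [show val u * (c : G) * val X.qb * (val u * (c : G))⁻¹ =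
          val u * ((c : G) * val X.qb * (c : G)⁻¹) * (val u)⁻¹ by group]
        have hk := hkeep u X.qb (by rw [hu, X.πb]; exact tb)
        rcases hcb with e | e <;> change (c : G) * val X.qb * (c : G)⁻¹ = _ at e <;> rw [e]
        · exact Or.inl hk
        · exact Or.inr (conj_mul_z (commute_zQ D u) hk)
  rcases h1b with e | e
  · refine ⟨c1, mem_inf.2 ⟨X.mem_C.2 ⟨?_, ?_⟩, c1.2⟩, hc1⟩
    · rw [← X.ea]; exact mul_inv_eq_iff_eq_mul.1 h1a
    · rw [← X.eb]; exact mul_inv_eq_iff_eq_mul.1 e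
  · refine ⟨val u' * (c1 : G), mem_inf.2 ⟨X.mem_C.2 ⟨?_, ?_⟩, mul_mem (u' : HH).2 c1.2⟩, ?_⟩
    · rw [← X.ea]
      refine mul_inv_eq_iff_eq_mul.1 ?_
      rw [show val u' * (c1 : G) * val X.qa * (val u' * (c1 : G))⁻¹ =
        val u' * ((c1 : G) * val X.qa * (c1 : G)⁻¹) * (val u')⁻¹ by group, h1a,
        hkeep u' X.qa (by rw [hu', X.πa]; exact ta')]
    · rw [← X.eb]
      refine mul_inv_eq_iff_eq_mul.1 ?_
      rw [show val u' * (c1 : G) * val X.qb * (val u' * (c1 : G))⁻¹ =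
        val u' * ((c1 : G) * val X.qb * (c1 : G)⁻¹) * (val u')⁻¹ by group, e,
        conj_mul_z (commute_zQ D u') (hflip u' X.qb (by rw [hu', X.πb]; exact tb')), mul_assoc, z_sq D, mul_one]
    · show mk ((u' : HH) * c1) = _
      rw [map_mul, show mk (u' : HH) = 1 from (QuotientGroup.eq_one_iff _).2 u'.2, one_mul, hc1]

theorem ph_surj (u : Cfsg.SU 4 F4 2) : ∃ g ∈ X.KK, X.ph g = u := by
  obtain ⟨l, hl⟩ := D.T.toSU_bijective.2 u
  obtain ⟨g, hg, e⟩ := X.lift l.2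
  refine ⟨g, hg, ?_⟩
  rw [X.ph_def hg, ← hl]
  exact congrArg _ (Subtype.ext e)

/-- A lift of a matrix normalising the plane normalises the abelian subgroup. -/
theorem lift_gen (i : Fin 3) : ∃ g ∈ X.KK, X.ph g = suElt (gmat i) (gmat_isU i) ∧
    g ∈ normalizer (A0 D : Set G) := by
  obtain ⟨g, hg, e⟩ := X.lift (ovr_lstab D.T (gmat i) (gmat_isU i))
  refine ⟨g, hg, ?_, N0_le_normalizer D ((mem_N0 D).2 ⟨⟨g, hg.2⟩, ?_, rfl⟩)⟩
  · rw [X.ph_def hg]
    exact (congrArg _ (Subtype.ext e)).trans (ovr_spec D.T (gmat i) (gmat_isU i))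
  · rw [e]; exact gen_nbar D.T i

/-- The action on tails. -/
theorem tail_conj {g : G} (hg : g ∈ X.KK) {q q' : Q} (hq : D.π q 0 = D.π q 1)
    (e : g * val q * g⁻¹ = val q') :
    D.π q' 0 = D.π q' 1 ∧
      ∃ d : F4, d ≠ 0 ∧ tail (D.π q') = d • (suMat (X.ph g) *ᵥ tail (D.π q)) := by
  have hl := X.mk_KK hg
  have hr : D.T.r (mk ⟨g, hg.2⟩) (D.π q) = D.π q' := D.π_conj_eq (c := ⟨g, hg.2⟩) e
  refine ⟨hr ▸ D.T.balanced hl hq, (D.T.mat4S (mk ⟨g, hg.2⟩)).det, D.T.det_ne hl, ?_⟩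
  have hm : suMat (X.ph g) = (D.T.mat4S (mk ⟨g, hg.2⟩)).det⁻¹ • D.T.mat4S (mk ⟨g, hg.2⟩) := by
    rw [X.ph_def hg]; rfl
  funext i
  rw [hm, Matrix.smul_mulVec, smul_smul, mul_inv_cancel₀ (D.T.det_ne hl), one_smul, ← hr]
  exact D.T.rest hl hq i

end Ctx

end CfsgLib.FiLarge.U62
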