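import Cfsg.Agent.FiLarge.U62.Local
import Cfsg.Agent.Fischer.Basic

/-!
The component of the centre in the commuting graph of the class: a connected twin-free class of transpositions.
-/

set_option autoImplicit false
set_option quotPrecheck false
set_option maxRecDepth 100000
set_option linter.style.haveILetI false
set_option linter.unusedSectionVars false

open scoped Matrix

namespace CfsgLib.FiLarge.U62

open CfsgLib Subgroup Matrix CfsgLib.Unitary CfsgLib.FiLarge.Thom
open CfsgLib.FiLarge.Dat (val)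

variable {G : Type*} [Group G] [Finite G] {z : G} {Q : Subgroup (centralizer ({z} : Set G))} [Q.Normal]
  {D : Dat z Q}

namespace Ctx

variable (X : Ctx D)

/-- Members with a common neighbour. -/
def Near (a b : G) : Prop := ∃ v ∈ X.DD, Commute v a ∧ Commute v b

theorem Near.symm {a b : G} (h : X.Near a b) : X.Near b a :=
  let ⟨v, hv, h1, h2⟩ := h; ⟨v, hv, h2, h1⟩

theorem near_of_commute {a b : G} (hb : b ∈ X.DD) (h : Commute a b) : X.Near a b :=
  ⟨b, hb, h.symm, Commute.refl b⟩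

/-- The neighbour relation has diameter two. -/
theorem near_step {a x y : G} (ha : a ∈ X.DD) (hx : x ∈ X.DD) (hy : y ∈ X.DD) (h : X.Near a x)
    (cxy : Commute x y) : X.Near a y := by
  obtain ⟨w, hw, cwa, cwx⟩ := h
  by_cases cwy : Commute w y
  · exact ⟨w, hw, cwa, cwy⟩
  by_cases cxa : Commute x a
  · exact ⟨x, hx, cxa, cxy⟩
  obtain ⟨v, hv, hvx, cvx, cvw, cvy⟩ := X.common hx hw hy cwx cxy.symm
  by_cases cva : Commute v a
  · exact ⟨v, hv, cva, cvy⟩
  obtain ⟨u, hu, cua, hl⟩ := X.gamma hw hx hv ha cwx cvw.symm cwa cvx.symm (Ne.symm hvx) fun h => cxa h.symm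
  exact ⟨u, hu, cua, (X.lin_commute hx hv hu hy (Ne.symm hvx) cvx.symm hl cxy.symm cvy.symm).symm⟩

/-- The component of the centre. -/
def Om : Set G := {x | x ∈ X.DD ∧ X.Near z x}

theorem Om_DD {x : G} (h : x ∈ X.Om) : x ∈ X.DD := h.1

theorem z_Om : z ∈ X.Om := ⟨X.z_mem, X.near_of_commute X.z_mem (Commute.refl z)⟩

theorem Om_step {x y : G} (hx : x ∈ X.Om) (hy : y ∈ X.DD) (h : Commute x y) : y ∈ X.Om :=
  ⟨hy, X.near_step X.z_mem hx.1 hy hx.2 h⟩

theorem Om_KK {x : G} (hx : x ∈ X.DD) (h : Commute x z) : x ∈ X.Om := X.Om_step X.z_Om hx h.symm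

theorem Om_near {a b : G} (ha : a ∈ X.Om) (hb : b ∈ X.Om) : X.Near a b := by
  obtain ⟨v, hv, cvz, cvb⟩ := hb.2
  exact X.near_step ha.1 hv hb.1 (X.near_step ha.1 X.z_mem hv (Near.symm X ha.2) cvz.symm) cvb

theorem Om_cube {a b : G} (ha : a ∈ X.Om) (hb : b ∈ X.Om) (h : ¬ Commute a b) : (a * b) ^ 3 = 1 := by
  obtain ⟨v, hv, h1, h2⟩ := X.Om_near ha hb
  exact X.cube hv ha.1 hb.1 h1 h2 h

theorem Om_conj {a b : G} (ha : a ∈ X.Om) (hb : b ∈ X.Om) : a * b * a ∈ X.Om := by
  obtain ⟨v, hv, h1, h2⟩ := X.Om_near ha hb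
  exact X.Om_step (X.Om_step ha hv h1.symm) (X.DD_conj' ha.1 hb.1) ((h1.mul_right h2).mul_right h1)

theorem orderOf_DD {a : G} (ha : a ∈ X.DD) : orderOf a = 2 :=
  orderOf_eq_prime (by rw [pow_two]; exact X.DD_sq ha) (X.DD_ne ha)

theorem Om_closed : Fischer.Closed X.Om where
  tts := by
    refine ⟨fun d hd => X.orderOf_DD hd.1, fun a ha b hb => ?_⟩
    by_cases h : Commute a b
    · exact Or.inl (ThreeT.sq_of_commute (X.orderOf_DD ha.1) (X.orderOf_DD hb.1) h)
    · exact Or.inr (X.Om_cube ha hb h)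
  conj a ha b hb := X.Om_conj ha hb

theorem Om_conn : Fischer.Conn X.Om := by
  intro a ha b hb
  obtain ⟨v, hv, h1, h2⟩ := X.Om_near ha hb
  have hvO := X.Om_step ha hv h1.symm
  exact Relation.ReflTransGen.tail (Fischer.Link.of_commute ha hvO h1.symm) ⟨hvO, hb, h2⟩

theorem Om_edge : Fischer.Edge X.Om := by
  obtain ⟨d, hd⟩ := X.fib_nonempty p0_pt
  exact ⟨z, X.z_Om, d, X.Om_KK hd.1 (X.KK_z hd.2.1), fun e => X.fib_ne_z p0_pt hd e.symm, (X.KK_z hd.2.1).symm⟩

theorem braid_conj {a b : G} (ha : a ∈ X.Om) (hb : b ∈ X.Om) (h : ¬ Commute a b) :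
    a * b * a * (a * b)⁻¹ = b := by
  rw [X.Om_closed.braid ha hb h]
  group

theorem Om_class : Fischer.OneClass X.Om := by
  intro a ha b hb
  by_cases h : Commute a b
  · by_cases hne : a = b
    · exact ⟨1, one_mem _, by rw [hne]; group⟩
    obtain ⟨x, hx, hax, hbx, cax, cbx, -⟩ := X.third ha.1 hb.1 h hne
    obtain ⟨d, hd, cdx, cda, cdb⟩ := X.apart hx ha.1 hb.1 cax cbx hax hbx
    have hdO : d ∈ X.Om := X.Om_step (X.Om_step ha hx cax) hd cdx.symm
    refine ⟨(d * b) * (a * d), mul_mem (mul_mem (subset_closure hdO) (subset_closure hb))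
      (mul_mem (subset_closure ha) (subset_closure hdO)), ?_⟩
    have e1 : a * d * a * (a * d)⁻¹ = d := X.braid_conj ha hdO fun q => cda q.symm
    have e2 : d * b * d * (d * b)⁻¹ = b := X.braid_conj hdO hb cdb
    calc d * b * (a * d) * a * (d * b * (a * d))⁻¹
        = d * b * (a * d * a * (a * d)⁻¹) * (d * b)⁻¹ := by group
      _ = _ := by rw [e1, e2]
  · exact ⟨a * b, mul_mem (subset_closure ha) (subset_closure hb), X.braid_conj ha hb h⟩

theorem Om_noTwins : Fischer.NoTwins X.Om := by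
  constructor
  · intro a ha b hb hab
    by_contra hne
    have h : Commute a b := (hab b hb).2 (Commute.refl b)
    obtain ⟨d, hd, cda, cdb, -⟩ := X.apart ha.1 hb.1 hb.1 h.symm h.symm (Ne.symm hne) (Ne.symm hne)
    have hdO := X.Om_step ha hd cda.symm
    exact cdb ((hab d hdO).1 cda.symm).symm
  · intro a ha b hb hab
    by_contra hne
    by_cases h : Commute a b
    · have hm : b ∈ ThreeT.Prod.nb X.Om a := ⟨hb, Ne.symm hne, h⟩
      rw [hab] at hm
      exact hm.2.1 rfl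
    obtain ⟨v, hv, cva, cvb⟩ := X.Om_near ha hb
    have hva : v ≠ a := fun e => h (e ▸ cvb)
    obtain ⟨c, hc, hvc, hac, cvc, cac, hl⟩ := X.third hv ha.1 cva hva
    have hcO : c ∈ X.Om := X.Om_step ha hc cac
    have hm : c ∈ ThreeT.Prod.nb X.Om a := ⟨hcO, Ne.symm hac, cac⟩
    rw [hab] at hm
    refine h (X.one_or_all hv hc ha.1 hb.1 hvc hva (Ne.symm hac) cvc cva cac.symm ?_ cvb.symm hm.2.2).symm
    rwa [mul_assoc, cac.symm.eq, ← mul_assoc]

theorem nb_z : ThreeT.Prod.nb X.Om z = {d | ∃ p, IsPt4 p ∧ d ∈ X.fib p} := by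
  ext d
  constructor
  · rintro ⟨hd, hne, hc⟩
    exact X.exists_fib hd.1 (X.KK_DD hd.1 hc.symm) hne
  · rintro ⟨p, hp, hd⟩
    exact ⟨X.Om_KK hd.1 (X.KK_z hd.2.1), X.fib_ne_z hp hd, (X.KK_z hd.2.1).symm⟩

theorem scalars : ∀ p : V4, IsPt4 p →
    ((Finset.univ.filter fun q : V4 => IsPt4 q).filter fun q => ∃ c : F4, c ≠ 0 ∧ q = c • p).card = 3 := by
  decide +kernel

theorem nb_card : (ThreeT.Prod.nb X.Om z).ncard = 180 := by
  classical
  haveI := Fintype.ofFinite G
  set N := (ThreeT.Prod.nb X.Om z).toFinset with hN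
  set P := Finset.univ.filter fun q : V4 => IsPt4 q
  have hmemN : ∀ d, d ∈ N ↔ ∃ p, IsPt4 p ∧ d ∈ X.fib p := fun d => by
    rw [hN, Set.mem_toFinset, X.nb_z]; rfl
  have h1 : ∀ p ∈ P, (N.filter fun d => d ∈ X.fib p).card = 4 := by
    intro p hp
    have hp' : IsPt4 p := (Finset.mem_filter.1 hp).2
    rw [show N.filter (fun d => d ∈ X.fib p) = (X.fib p).toFinset by
      ext d
      simp only [Finset.mem_filter, hmemN, Set.mem_toFinset]
      exact ⟨fun h => h.2, fun h => ⟨⟨p, hp', h⟩, h⟩⟩, ← Set.ncard_eq_toFinset_card', X.fib_card hp']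
  have h2 : ∀ d ∈ N, (P.filter fun p => d ∈ X.fib p).card = 3 := by
    intro d hd
    obtain ⟨p, hp, hdp⟩ := (hmemN d).1 hd
    rw [← scalars p hp]
    refine congrArg Finset.card (Finset.filter_congr fun q hq => ?_)
    constructor
    · exact fun h => tvp_eq_smul hp (Finset.mem_filter.1 hq).2 (hdp.2.2.symm.trans h.2.2)
    · rintro ⟨c, hc, rfl⟩
      exact (X.fib_smul hp hc).symm ▸ hdp
  have hsum : ∑ p ∈ P, (N.filter fun d => d ∈ X.fib p).card = ∑ d ∈ N, (P.filter fun p => d ∈ X.fib p).card := by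
    simp only [Finset.card_filter]
    rw [Finset.sum_comm]
  rw [Finset.sum_const_nat h1, Finset.sum_const_nat h2, pts_card] at hsum
  rw [Set.ncard_eq_toFinset_card', ← hN]
  omega

theorem Om_odd : Odd X.Om.ncard := by
  classical
  haveI := Fintype.ofFinite G
  haveI : Fact (Nat.Prime 2) := ⟨Nat.prime_two⟩
  set O := X.Om.toFinset with hO
  let σ : Equiv.Perm O :=
    { toFun := fun x => ⟨z * x * z, Set.mem_toFinset.2 (X.Om_conj X.z_Om (Set.mem_toFinset.1 x.2))⟩
      invFun := fun x => ⟨z * x * z, Set.mem_toFinset.2 (X.Om_conj X.z_Om (Set.mem_toFinset.1 x.2))⟩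
      left_inv := fun x => Subtype.ext (X.Om_closed.conj_conj X.z_Om _)
      right_inv := fun x => Subtype.ext (X.Om_closed.conj_conj X.z_Om _) }
  have hσ : σ ^ 2 ^ 1 = 1 := Equiv.ext fun x => Subtype.ext (X.Om_closed.conj_conj X.z_Om _)
  have h := Equiv.Perm.card_compl_support_modEq (p := 2) (n := 1) hσ
  have hfix : (σ.supportᶜ).map (Function.Embedding.subtype _) = insert z (ThreeT.Prod.nb X.Om z).toFinset := by
    ext x
    simp only [Finset.mem_map, Finset.mem_compl, Equiv.Perm.mem_support, not_not, Finset.mem_insert,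
      Set.mem_toFinset, Function.Embedding.coe_subtype]
    constructor
    · rintro ⟨y, hy, rfl⟩
      by_cases e : (y : G) = z
      · exact Or.inl e
      · exact Or.inr ⟨Set.mem_toFinset.1 y.2, e, (X.Om_closed.fix_iff X.z_Om _).1 (congrArg Subtype.val hy)⟩
    · intro hx
      have hxO : x ∈ X.Om := hx.elim (fun e => e ▸ X.z_Om) fun h => h.1
      refine ⟨⟨x, Set.mem_toFinset.2 hxO⟩, Subtype.ext ((X.Om_closed.fix_iff X.z_Om _).2 ?_), rfl⟩
      exact hx.elim (fun e => e.symm ▸ Commute.refl z) fun h => h.2.2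
  have hc := congrArg Finset.card hfix
  rw [Finset.card_map, Finset.card_insert_of_notMem (fun h => (Set.mem_toFinset.1 h).2.1 rfl),
    ← Set.ncard_eq_toFinset_card', X.nb_card] at hc
  rw [hc, Fintype.card_coe] at h
  rw [Set.ncard_eq_toFinset_card', ← hO, Nat.odd_iff]
  exact h.symm

/-- An involution permuting the component fixes a member. -/
theorem exists_fixed_point {d : G} (hd2 : d * d = 1) (hstab : ∀ x ∈ X.Om, d * x * d⁻¹ ∈ X.Om) :
    ∃ w ∈ X.Om, Commute d w := by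
  classical
  haveI := Fintype.ofFinite G
  haveI : Fact (Nat.Prime 2) := ⟨Nat.prime_two⟩
  have dinv : d⁻¹ = d := inv_eq_of_mul_eq_one_right hd2
  have hcc : ∀ x : G, d * (d * x * d⁻¹) * d⁻¹ = x := fun x => by
    rw [dinv, show d * (d * x * d) * d = d * d * x * (d * d) by group, hd2, one_mul, mul_one]
  let σ : Equiv.Perm X.Om.toFinset :=
    { toFun := fun x => ⟨d * x * d⁻¹, Set.mem_toFinset.2 (hstab _ (Set.mem_toFinset.1 x.2))⟩
      invFun := fun x => ⟨d * x * d⁻¹, Set.mem_toFinset.2 (hstab _ (Set.mem_toFinset.1 x.2))⟩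
      left_inv := fun x => Subtype.ext (hcc _)
      right_inv := fun x => Subtype.ext (hcc _) }
  have hσ : σ ^ 2 ^ 1 = 1 := Equiv.ext fun x => Subtype.ext (hcc _)
  have h := Equiv.Perm.card_compl_support_modEq (p := 2) (n := 1) hσ
  have hodd := X.Om_odd
  rw [Set.ncard_eq_toFinset_card', Nat.odd_iff, ← Fintype.card_coe] at hodd
  obtain ⟨x, hx⟩ := Finset.card_pos.1 (show 0 < σ.supportᶜ.card by
    rcases Nat.eq_zero_or_pos σ.supportᶜ.card with e | e
    · rw [e] at h
      have h' : 0 % 2 = Fintype.card X.Om.toFinset % 2 := h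
      omega
    · exact e)
  simp only [Finset.mem_compl, Equiv.Perm.mem_support, not_not] at hx
  exact ⟨x, Set.mem_toFinset.1 x.2, mul_inv_eq_iff_eq_mul.1 (congrArg Subtype.val hx)⟩

/-- Members permuting the component belong to it. -/
theorem DD_stab {d : G} (hd : d ∈ X.DD) (hstab : ∀ x ∈ X.Om, d * x * d⁻¹ ∈ X.Om) : d ∈ X.Om := by
  obtain ⟨w, hw, hc⟩ := X.exists_fixed_point (X.DD_sq hd) hstab
  exact X.Om_step hw hd hc.symm

end Ctx

end CfsgLib.FiLarge.U62
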