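import Cfsg.Agent.FiLarge.U62.Triangle

/-!
A centraliser leaving the stabiliser of the component gives a subgroup of the abelian group which meets every
translate of a pair in a six-element set.
-/

set_option autoImplicit false
set_option quotPrecheck false
set_option maxRecDepth 100000
set_option linter.style.haveILetI false
set_option linter.unusedSectionVars false

namespace CfsgLib.FiLarge.U62

open CfsgLib Subgroup CfsgLib.FiLarge.Thom
open CfsgLib.FiLarge.Dat (val)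

variable {G : Type*} [Group G] [Finite G] {z : G} {Q : Subgroup (centralizer ({z} : Set G))} [Q.Normal]
  {D : Dat z Q}

namespace Ctx

variable (X : Ctx D)

/-- The family of the descent. -/
def Fam (V : Subgroup G) : Prop :=
  X.E ≤ V ∧ V ≤ A0 D ∧ (∃ g ∈ centralizer (V : Set G), g ∉ X.N) ∧
    (V = X.E ∨ ∃ a b d, IsPoint a ∧ IsPoint b ∧ IsPoint d ∧ a ≠ b ∧ a ≠ d ∧ b ≠ d ∧
      IsConj z (X.dX a * X.dX b * X.dX d) ∧ X.dX a * X.dX b * X.dX d ∈ V)

theorem mem_cent_sup {V : Subgroup G} {k c : G} (h1 : k ∈ centralizer (V : Set G)) (h2 : Commute k c) :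
    k ∈ centralizer ((V ⊔ zpowers c : Subgroup G) : Set G) := by
  have hle : V ⊔ zpowers c ≤ centralizer ({k} : Set G) :=
    sup_le (fun v hv => mem_centralizer_singleton_iff.2 (mem_centralizer_iff.1 h1 v hv))
      (zpowers_le.2 (mem_centralizer_singleton_iff.2 h2.symm.eq))
  exact mem_centralizer_iff.2 fun v hv => mem_centralizer_singleton_iff.1 (hle hv)

theorem pair_step {V : Subgroup G} (hV : X.Fam V) (hmax : ∀ V', V < V' → ¬ X.Fam V') {x y : Cfsg.GolayPt}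
    (hx : IsPoint x) (hy : IsPoint y) (hxy : x ≠ y) :
    ∃ e, IsPoint e ∧ e ≠ x ∧ e ≠ y ∧ X.dX x * X.dX y * X.dX e ∈ V := by
  classical
  obtain ⟨hE, hA, ⟨g, hg, hgN⟩, hshape⟩ := hV
  set L := centralizer (V : Set G) with hL
  have hLC : ∀ {k}, k ∈ L → k ∈ X.C := fun {k} hk =>
    mem_centralizer_iff.2 fun v hv => mem_centralizer_iff.1 hk v (hE hv)
  have hA0L : A0 D ≤ L := fun k hk => mem_centralizer_iff.2 fun v hv => (X.comm (hA hv) hk).eq
  have hxO := X.dX_Om hx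
  have hyO := X.dX_Om hy
  have hne : X.dX x ≠ X.dX y := fun e => hxy (X.dX_inj e)
  set u := X.dX x * X.dX y with hu
  have huA : u ∈ A0 D := mul_mem (X.dX_A0 x) (X.dX_A0 y)
  set u' := g * u * g⁻¹ with hu'
  have hu'L : u' ∈ L := mul_mem (mul_mem hg (hA0L huA)) (inv_mem hg)
  have hu'N : u' ∉ X.N := fun h => hgN (X.pair_conj hxO hyO hne (X.dX_comm x y) (hLC hg) h)
  have hzL : z ∈ L := hA0L X.z_mem_A0
  have hz2 : orderOf z = 2 := X.orderOf_DD X.z_mem
  have hu1 : u ≠ 1 := ((mem_nS D).1 (X.mul_nS hxy)).2.1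
  have hu'2 : orderOf u' = 2 :=
    (Invol.orderOf_conj_eq g u).trans (Invol.orderOf_eq_two (X.sq huA) hu1)
  have hnc : ¬ IsConj z u' := fun h => X.pair_not_z ((conj_z_conj g u).1 h)
  obtain ⟨n, hn⟩ := Invol.even_orderOf_mul_of_not_isConj hz2 hu'2 hnc
  obtain ⟨hi2, hiz, hiu⟩ := Invol.half_props hz2 hu'2 ⟨n, hn⟩
  rw [show orderOf (z * u') / 2 = n by omega] at hi2 hiz hiu
  set a := z * u' with ha
  set i' := a ^ n with hi'
  have haL : a ∈ L := mul_mem hzL hu'L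
  have hiL : i' ∈ L := pow_mem haL n
  have hi1 : i' ≠ 1 := Invol.ne_one hi2
  have hiK : i' ∈ X.KK := X.mem_KK.2 ⟨hLC hiL, hiz⟩
  have hzz := Invol.mul_self_eq_one hz2
  have hu'u' := Invol.mul_self_eq_one hu'2
  have inv1 : z * a * z⁻¹ = a⁻¹ := Invol.conj_mul_inv hz2 hu'2
  have inv2 : u' * a * u'⁻¹ = a⁻¹ := by
    rw [ha, Invol.mul_inv_rev_invol hz2 hu'2, Invol.inv_eq_self hu'2, mul_assoc, mul_assoc z, hu'u', mul_one]
  rcases Nat.even_or_odd' n with ⟨j, rfl | rfl⟩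
  · -- a product of the centre and a member
    exfalso
    have e := Invol.zpow_conj_invol hzz inv1 (-(j : ℤ))
    rw [show -(2 * -(j : ℤ)) = ((2 * j : ℕ) : ℤ) by push_cast; ring, zpow_natCast] at e
    have hp : z * i' ∈ X.DD := ⟨_, hLC (zpow_mem haL _), e⟩
    have hpO : z * i' ∈ X.Om := X.Om_KK hp ((Commute.refl z).mul_left hiz)
    refine hu'N (X.pair_cent X.z_Om hpO (fun q => hi1 (mul_eq_left.1 q.symm)) ((Commute.refl z).mul_right hiz.symm)
      (hLC hu'L) ?_)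
    rw [← mul_assoc, hzz, one_mul]
    exact hiu.symm
  -- a conjugate of the pair
  have e := Invol.zpow_conj_invol hu'u' inv2 (-(j : ℤ))
  rw [show -(2 * -(j : ℤ)) = ((2 * j : ℕ) : ℤ) by push_cast; ring, zpow_natCast] at e
  have hw : z * i' = u' * a ^ (2 * j) := by
    rw [hi', pow_succ', ← mul_assoc]
    congr 1
    rw [ha, ← mul_assoc, hzz, one_mul]
  rw [← hw] at e
  set l := a ^ (-(j : ℤ)) * g with hl
  have hlL : l ∈ L := mul_mem (zpow_mem haL _) hg
  have ew : l * u * l⁻¹ = z * i' := by rw [← e, hl, hu']; group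
  have hwK : z * i' ∈ X.KK := mul_mem X.z_KK hiK
  have hlN : l ∈ X.N := X.pair_conj hxO hyO hne (X.dX_comm x y) (hLC hlL) (ew ▸ X.KK_N hwK)
  set p := l * X.dX x * l⁻¹ with hp
  set q := l * X.dX y * l⁻¹ with hq
  have hpO : p ∈ X.Om := X.N_stab hlN hxO
  have hqO : q ∈ X.Om := X.N_stab hlN hyO
  have hpq : p ≠ q := fun h => hne (mul_left_cancel (mul_right_cancel h))
  have cpq : Commute p q := (ThreeT.commute_conj_iff l _ _).2 (X.dX_comm x y)
  have epq : p * q = z * i' := by rw [hp, hq, Thom.conj_mul]; exact ew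
  obtain ⟨czp, czq⟩ := (ThreeT.commute_mul_iff X.Om_closed.tts hpO hqO X.z_Om cpq hpq).1
    (epq ▸ X.KK_z hwK)
  have ei : i' = z * p * q := by rw [mul_assoc, epq, ← mul_assoc, hzz, one_mul]
  have hzp : z ≠ p := fun h => hu'N (X.cent_N (hLC hu'L) hqO (by
    have : i' = q := ei.trans ((congrArg (fun v => z * v * q) h.symm).trans (by rw [hzz, one_mul]))
    exact this ▸ hiu.symm))
  have hzq : z ≠ q := fun h => hu'N (X.cent_N (hLC hu'L) hpO (by
    have : i' = p := by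
      rw [ei, mul_assoc, cpq.eq]
      exact ((congrArg (fun v => z * (v * p)) h.symm).trans (by rw [← mul_assoc, hzz, one_mul]))
    exact this ▸ hiu.symm))
  obtain ⟨k, hk, k1, k2, k3⟩ := X.triple_A0 X.z_mem hpO.1 hqO.1 czp.symm czq.symm cpq
  have hkN : k ∈ X.N := ⟨hk, X.DD_A0_Om (X.DD_conj X.z_mem hk) k1⟩
  obtain ⟨p1, hp1, e1⟩ := X.exists_point (X.DD_conj X.z_mem hk) k1
  obtain ⟨p2, hp2, e2⟩ := X.exists_point (X.DD_conj hpO.1 hk) k2
  obtain ⟨p3, hp3, e3⟩ := X.exists_point (X.DD_conj hqO.1 hk) k3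
  have inj : ∀ {s t : G} {a b : Cfsg.GolayPt}, k * s * k⁻¹ = X.dX a → k * t * k⁻¹ = X.dX b → s ≠ t → a ≠ b :=
    fun h1 h2 h3 h => h3 (mul_left_cancel (mul_right_cancel (h1.trans ((congrArg X.dX h).trans h2.symm))))
  have n12 := inj e1 e2 hzp
  have n13 := inj e1 e3 hzq
  have n23 := inj e2 e3 hpq
  have ec : k * i' * k⁻¹ = X.dX p1 * X.dX p2 * X.dX p3 := by
    rw [ei, ← Thom.conj_mul, ← Thom.conj_mul, e1, e2, e3]
  have hkC : k * u' * k⁻¹ ∈ X.C := mul_mem (mul_mem hk (hLC hu'L)) (inv_mem hk)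
  have hku : Commute (k * u' * k⁻¹) (k * i' * k⁻¹) := (ThreeT.commute_conj_iff k _ _).2 hiu.symm
  have hkN' : k * u' * k⁻¹ ∉ X.N := fun h => hu'N (by
    have := mul_mem (mul_mem (inv_mem hkN) h) hkN
    rwa [show k⁻¹ * (k * u' * k⁻¹) * k = u' by group] at this)
  have htri : IsConj z (X.dX p1 * X.dX p2 * X.dX p3) := by
    by_contra hl'
    obtain ⟨htri, hline⟩ := X.triple_iff hp1 hp2 hp3 n12 n13 n23
    obtain ⟨r, t, hr, ht, hrt, ert⟩ := hline (htri.1 hl')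
    exact hkN' (X.pair_cent (X.dX_Om hr) (X.dX_Om ht) (fun h => hrt (X.dX_inj h)) (X.dX_comm r t) hkC
      (by rw [← ert, ← ec]; exact hku))
  rcases hshape with hVE | ⟨pa, pb, pd, ha', hb', hd', nab, nad, nbd, hzc, hc⟩
  · exfalso
    set c' := k * i' * k⁻¹ with hc'
    have hc'A : c' ∈ A0 D := ec ▸ mul_mem (mul_mem (X.dX_A0 p1) (X.dX_A0 p2)) (X.dX_A0 p3)
    have hc'E : c' ∉ X.E := fun h => by
      refine (X.not_z h ?_) (ec ▸ htri)
      exact fun h1 => not_conj_one D (h1 ▸ ec ▸ htri)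
    refine hmax (V ⊔ zpowers c') (lt_of_le_of_ne le_sup_left fun h => hc'E ?_)
      ⟨hE.trans le_sup_left, sup_le hA (zpowers_le.2 hc'A), ⟨_, mem_cent_sup ?_ hku, hkN'⟩,
        Or.inr ⟨p1, p2, p3, hp1, hp2, hp3, n12, n13, n23, htri, ec ▸ mem_sup_right (mem_zpowers c')⟩⟩
    · rw [← hVE, h]; exact mem_sup_right (mem_zpowers c')
    · exact mem_centralizer_iff.2 fun v hv => (X.C_comm hkC (hVE ▸ hv)).symm.eq
  -- conjugation normalises the abelian subgroup
  set c := X.dX pa * X.dX pb * X.dX pd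
  have hlc : Commute l c := (mem_centralizer_iff.1 hlL c hc).symm
  have hmove : ∀ {v : Cfsg.GolayPt}, IsPoint v → Commute (X.dX v) c → l * X.dX v * l⁻¹ ∈ A0 D := fun {v} hv hvc =>
    X.tri_A0 ha' hb' hd' nab nad nbd hzc (X.N_stab hlN (X.dX_Om hv)) (by
      have := (ThreeT.commute_conj_iff l _ _).2 hvc
      rwa [hlc.eq, mul_inv_cancel_right] at this)
  have hcA : c ∈ A0 D := hA hc
  have hpA : p ∈ A0 D := hmove hx (X.comm (X.dX_A0 x) hcA)
  have hqA : q ∈ A0 D := hmove hy (X.comm (X.dX_A0 y) hcA)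
  have hiA : i' ∈ A0 D := ei ▸ mul_mem (mul_mem X.z_mem_A0 hpA) hqA
  have hiV : i' ∈ V := by
    by_contra h
    exact hmax (V ⊔ zpowers i') (lt_of_le_of_ne le_sup_left fun h' => h (h'.symm ▸ mem_sup_right (mem_zpowers i')))
      ⟨hE.trans le_sup_left, sup_le hA (zpowers_le.2 hiA), ⟨u', mem_cent_sup hu'L hiu.symm, hu'N⟩,
        Or.inr ⟨pa, pb, pd, ha', hb', hd', nab, nad, nbd, hzc, mem_sup_left hc⟩⟩
  have hli : Commute l i' := (mem_centralizer_iff.1 hlL i' hiV).symm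
  have ez : l⁻¹ * z * l⁻¹⁻¹ = i' * u := by
    have : u = l⁻¹ * (z * i') * l := by rw [← ew]; group
    rw [this, ← mul_assoc i', ← mul_assoc i', ← (hli.inv_left).eq, mul_assoc l⁻¹ i', ← mul_assoc i' z,
      hiz.eq, mul_assoc z i' i', Invol.mul_self_eq_one hi2, mul_one, inv_inv]
  obtain ⟨e', he', ee⟩ := X.exists_point (ez ▸ X.DD_conj X.z_mem (inv_mem (hLC hlL))) (mul_mem hiA huA)
  have ei' : X.dX x * X.dX y * X.dX e' = i' := by
    rw [← ee, ← mul_assoc, (X.comm huA hiA).eq, mul_assoc, X.sq huA, mul_one]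
  refine ⟨e', he', fun h => ?_, fun h => ?_, ei'.symm ▸ hiV⟩
  · refine hu'N (X.cent_N (hLC hu'L) hyO ?_)
    have : X.dX y = i' := by rw [← ei', h, (X.dX_comm x y).eq, mul_assoc, X.dX_sq, mul_one]
    exact this ▸ hiu.symm
  · refine hu'N (X.cent_N (hLC hu'L) hxO ?_)
    have : X.dX x = i' := by rw [← ei', h, mul_assoc, X.dX_sq, mul_one]
    exact this ▸ hiu.symm

/-- Members and pairs avoid the subgroup. -/
theorem fam_avoid {V : Subgroup G} (hV : X.Fam V) :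
    (∀ x, IsPoint x → ∀ s ∈ X.E, X.dX x * s ∉ V) ∧
      ∀ x y, IsPoint x → IsPoint y → x ≠ y → ∀ s ∈ X.E, X.dX x * X.dX y * s ∉ V := by
  obtain ⟨hE, -, ⟨g, hg, hgN⟩, -⟩ := hV
  have hgC : g ∈ X.C := mem_centralizer_iff.2 fun v hv => mem_centralizer_iff.1 hg v (hE hv)
  have key : ∀ v s : G, s ∈ X.E → v * s ∈ V → Commute g v := fun v s hs h => by
    have hv : v ∈ V := by simpa using mul_mem h (inv_mem (hE hs))
    exact (mem_centralizer_iff.1 hg v hv).symm
  exact ⟨fun x hx s hs h => hgN (X.cent_N hgC (X.dX_Om hx) (key _ s hs h)),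
    fun x y hx hy hxy s hs h => hgN (X.pair_cent (X.dX_Om hx) (X.dX_Om hy) (fun e => hxy (X.dX_inj e))
      (X.dX_comm x y) hgC (key _ s hs h))⟩

end Ctx

end CfsgLib.FiLarge.U62
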