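import Cfsg.Agent.FiLarge.U62.Plane
import Cfsg.Agent.Spor3T.Basic

/-!
The members of the class commuting with the centre lie in fours over the isotropic points.
-/

set_option autoImplicit false
set_option quotPrecheck false
set_option maxRecDepth 100000
set_option linter.style.haveILetI false
set_option linter.unusedSectionVars false

open scoped Matrix

namespace CfsgLib.FiLarge.U62

open CfsgLib Subgroup Matrix CfsgLib.Unitary CfsgLib.FiLarge.Thom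
open CfsgLib.FiLarge.Dat (val)

theorem shift_small : ∀ k : Fin 5, 2 ≤ k → ∀ v : V6, v 0 = v 1 → qn v = 0 → v ≠ 0 → kind v ≠ some 0 →
    kind v ≠ some k → ∃ c : F4, c ≠ 0 ∧ qn (v + c • v2) = 0 ∧
      (v + c • v2 = 0 ∨ (kind (v + c • v2) ≠ some 0 ∧ kind (v + c • v2) ≠ some k)) := by
  decide +kernel

theorem fix_swap : ∀ a b c d : F4,
    (umat (1, 0, 0) *ᵥ (![a, b, c, d] : V4) = ![a, b, c, d] → a = b) ∧
    (umat (1, 0, 1) *ᵥ (![a, b, c, d] : V4) = ![a, b, c, d] → a = b ∧ c = d) := by decide +kernel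

theorem five_points : ∀ b c : F4, IsPt4 ![b, b, c, c] → ∃ k : F4, k ≠ 0 ∧
    ((![b, b, c, c] : V4) = k • p0 ∨ (![b, b, c, c] : V4) = k • (gmat 2 *ᵥ p0) ∨
      (![b, b, c, c] : V4) = k • (gmat 0 *ᵥ (gmat 2 *ᵥ p0)) ∨
      (![b, b, c, c] : V4) = k • (gmat 1 *ᵥ (gmat 0 *ᵥ (gmat 2 *ᵥ p0))) ∨
      (![b, b, c, c] : V4) = k • (gmat 1 *ᵥ (gmat 1 *ᵥ (gmat 0 *ᵥ (gmat 2 *ᵥ p0))))) := by
  decide +kernel

/-- A point of the standard line. -/
def InPl (q : V4) : Prop := IsPt4 q ∧ q 0 = q 1 ∧ q 2 = q 3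

instance (q : V4) : Decidable (InPl q) := by unfold InPl; infer_instance

theorem v4_eta (q : V4) : (![q 0, q 1, q 2, q 3] : V4) = q := by
  funext i; fin_cases i <;> rfl

theorem inPl_perp : ∀ a b c d : F4, InPl ![a, a, b, b] → InPl ![c, c, d, d] →
    h4 ![a, a, b, b] ![c, c, d, d] = 0 := by decide +kernel

/-- The diagonal moving a point orthogonal to the base point into the line. -/
def lam (k : F4) : Matrix (Fin 4) (Fin 4) F4 :=
  !![k, 0, 0, 0; 0, k, 0, 0; 0, 0, 1, 0; 0, 0, 0, k]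

theorem lam_isU : ∀ k : F4, k ≠ 0 → IsU (lam k) := by decide +kernel

theorem lam_moves : ∀ b s t : F4, s ≠ 0 → t ≠ 0 → ∃ k : F4, k ≠ 0 ∧
    (lam k *ᵥ ![b, b, s, t]) 0 = (lam k *ᵥ ![b, b, s, t]) 1 ∧
    (lam k *ᵥ ![b, b, s, t]) 2 = (lam k *ᵥ ![b, b, s, t]) 3 ∧
    lam k *ᵥ p0 = k • p0 := by decide +kernel

theorem base_mats : gmat 0 * umat (1, 0, 1) = umat (0, 1, 1) * gmat 0 ∧
    umat (1, 0, 1) ≠ umat (0, 1, 1) ∧ tmat p0 = umat (1, 0, 0) := by decide +kernel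

theorem suElt_mulVec {M : Matrix (Fin 4) (Fin 4) F4} (h : IsU M) (x : V4) :
    suMat (suElt M h) *ᵥ x = M *ᵥ x := rfl

theorem tvp_p0_elt : tvp p0 = suElt (umat (1, 0, 0)) (umat_isU _) :=
  Subtype.ext (Subtype.ext (by
    show suMat (tvp p0) = umat (1, 0, 0)
    rw [tvp_mat p0_pt, tvp_p0]))

/-- A point orthogonal to the base point moves into the line fixing the base point. -/
theorem exists_to_line {q : V4} (hq : IsPt4 q) (hp : h4 q p0 = 0) :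
    ∃ g : Cfsg.SU 4 F4 2, (∃ k : F4, k ≠ 0 ∧ suMat g *ᵥ p0 = k • p0) ∧ InPl (suMat g *ᵥ q) := by
  obtain ⟨h01, ⟨h2, h3⟩ | ⟨h2, h3⟩⟩ := p0_perp q hq hp
  · refine ⟨1, ⟨1, one_ne_zero, by rw [suMat_one, Matrix.one_mulVec, one_smul]⟩, ?_⟩
    rw [suMat_one, Matrix.one_mulVec]
    exact ⟨hq, h01, h2.trans h3.symm⟩
  · obtain ⟨k, hk, e1, e2, e3⟩ := lam_moves (q 0) (q 2) (q 3) h2 h3
    have e : (![q 0, q 0, q 2, q 3] : V4) = q := by conv_rhs => rw [← v4_eta q, ← h01]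
    rw [e] at e1 e2
    exact ⟨suElt (lam k) (lam_isU k hk), ⟨k, hk, by rw [suElt_mulVec]; exact e3⟩, pt_map hq _, e1, e2⟩

variable {G : Type*} [Group G] [Finite G] {z : G} {Q : Subgroup (centralizer ({z} : Set G))} [Q.Normal]
  {D : Dat z Q}

local notation "HH" => centralizer ({z} : Set G)
local notation "mk" => QuotientGroup.mk' Q

theorem small_kind (T : Std (HH ⧸ Q)) : ∃ k : Fin 5, 2 ≤ k ∧
    ∀ a, qn a = 0 → a ≠ 0 → (a ∈ T.orb ⊤ v2 ↔ kind a = some 0 ∨ kind a = some k) := by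
  obtain ⟨I, hsum, hI, h | h⟩ := T.exists_I (le_top : T.M ≤ ⊤) Std.v2_sing.1 Std.v2_sing.2
  swap
  · exact absurd ((hI 0).2 (T.mem_orb.2 ⟨1, one_mem _, T.r_one _⟩)) h.1
  obtain ⟨k, hk, hIk⟩ := (by decide +kernel : ∀ I : Finset (Fin 5), 0 ∈ I → ∑ j ∈ I, sizeK j = 378 →
      ∃ k : Fin 5, 2 ≤ k ∧ ∀ j, j ∈ I ↔ (j = 0 ∨ j = k)) I h.1 (hsum.symm.trans h.2.1)
  refine ⟨k, hk, fun a ha h0 => ?_⟩
  obtain ⟨j, hj⟩ := Option.isSome_iff_exists.1 ((singular_iff a).1 ⟨ha, h0⟩)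
  obtain ⟨d, -, hd⟩ := T.exists_mono hj
  rw [← hd, orb_closed_iff, ← hI, hIk, hd, hj, Option.some_inj, Option.some_inj]

namespace Ctx

variable (X : Ctx D)

theorem z_KK : z ∈ X.KK := X.mem_KK.2 ⟨X.z_mem_C, Commute.refl z⟩

theorem KK_DD {d : G} (hd : d ∈ X.DD) (h : Commute d z) : d ∈ X.KK := X.mem_KK.2 ⟨X.DD_C hd, h⟩

theorem ph_z : X.ph z = 1 := by
  obtain ⟨q, hq, -⟩ := exists_zQ D
  exact (X.ph_eq_one X.z_KK).2 ⟨q, hq⟩

/-- A member of the class in `Q` is the centre. -/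
theorem DD_Q {q : Q} (hd : val q ∈ X.DD) : val q = z := by
  by_contra hne
  have h0 : D.π q ≠ 0 := D.π_ne_zero (X.DD_ne hd) hne
  have hb : D.π q 0 = D.π q 1 := X.val_KK.1 (X.KK_DD hd (commute_zQ D q))
  have hq : qn (D.π q) = 0 := (D.sq_iff q).1 (Subtype.ext (Subtype.ext (X.DD_sq hd)))
  obtain ⟨k, hk, hS⟩ := small_kind D.T
  have hns : ¬ (kind (D.π q) = some 0 ∨ kind (D.π q) = some k) := fun h =>
    small_not_z D ((hS _ hq h0).2 h) (X.DD_z hd)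
  rw [not_or] at hns
  obtain ⟨c, hc, hqc, h⟩ := shift_small k hk _ hb hq h0 hns.1 hns.2
  obtain ⟨u, hu, hπu⟩ : ∃ u : Q, (val u ∈ X.E ∧ val u ≠ 1) ∧ D.π u = c • v2 := by
    obtain ⟨n1, n2, n3⟩ := abc_ne
    rcases (by decide +kernel : ∀ c : F4, c ≠ 0 → c = 1 ∨ c = om ∨ c = 1 + om) c hc with rfl | rfl | rfl
    · refine ⟨X.qa, ⟨X.ea ▸ X.ab_E, ?_⟩, by rw [X.πa, one_smul]⟩
      rw [X.ea]; exact ((mem_nS D).1 (X.L.mem _ _ n1)).2.1
    · refine ⟨X.qb, ⟨X.eb ▸ X.bc_E, ?_⟩, X.πb⟩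
      rw [X.eb]; exact ((mem_nS D).1 (X.L.mem _ _ n2)).2.1
    · have e : val (X.qa * X.qb) = X.L.lab ptA ptC := by
        show val X.qa * val X.qb = _
        rw [X.ea, X.eb, X.L.trans]
      refine ⟨X.qa * X.qb, ⟨e ▸ X.ac_E, ?_⟩, by rw [D.π_mul, X.πa, X.πb, add_smul, one_smul]⟩
      rw [e]; exact ((mem_nS D).1 (X.L.mem _ _ n3)).2.1
  have hπ : D.π (q * u) = D.π q + c • v2 := by rw [D.π_mul, hπu]
  refine X.DD_E hd hu.1 hu.2 ?_
  show IsConj z (val (q * u))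
  rcases h with h | ⟨h1, h2⟩
  · exfalso
    have e : D.π q = c • v2 := funext fun i => eq_of_add_F4 _ _ (congrFun h i)
    exact small_not_z D (e ▸ smul_v2_small D.T hc) (X.DD_z hd)
  · have hne0 : D.π q + c • v2 ≠ 0 := fun e => by
      have e' : D.π q = c • v2 := funext fun i => eq_of_add_F4 _ _ (congrFun e i)
      exact small_not_z D (e' ▸ smul_v2_small D.T hc) (X.DD_z hd)
    refine large_z D X.hgs X.hsz (hπ ▸ hqc) (hπ ▸ hne0) (hπ ▸ fun hs => ?_)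
    exact ((hS _ hqc hne0).1 hs).elim h1 h2

/-- The chosen element over the base transvection. -/
noncomputable def P : Rep D := (exists_rep D X.hinv).some

theorem e_mem : X.P.e ∈ A0 D := X.P.mem

theorem mk_e : mk ⟨X.P.e, A0_le_cz D X.e_mem⟩ = ovr D.T (umat (1, 0, 0)) (umat_isU _) := by
  refine eq_ovr D.T X.hinv (mk_fix D (c := ⟨X.P.e, A0_le_cz D X.e_mem⟩) X.e_mem) (Matrix.ext fun i j => ?_)
  rw [Std.mat4S, Matrix.of_apply, X.P.eact]
  fin_cases i <;> fin_cases j <;> decide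

theorem ph_e : X.ph X.P.e = tvp p0 := by
  rw [X.ph_def (X.A0_le_KK X.e_mem), tvp_p0_elt, ← ovr_spec D.T (umat (1, 0, 0)) (umat_isU _)]
  exact congrArg _ (Subtype.ext X.mk_e)

/-- A lift over an element of the pointwise stabiliser. -/
theorem split {d a : G} (hd : d ∈ X.KK) (hd2 : d * d = 1) (ha : a ∈ A0 D) {h : Hx}
    (hh : X.ph d = suElt (umat h) (umat_isU h)) (hha : mk ⟨a, A0_le_cz D ha⟩ = ovr D.T (umat h) (umat_isU h)) :
    ∃ q : Q, d = a * val q ∧ D.π q 0 = D.π q 1 ∧ umat h *ᵥ tail (D.π q) = tail (D.π q) := by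
  have he := X.ph_eq hd hh
  have hQ : (⟨a, A0_le_cz D ha⟩ : HH)⁻¹ * ⟨d, hd.2⟩ ∈ Q :=
    (QuotientGroup.eq_one_iff _).1 (show mk _ = 1 by rw [map_mul, map_inv, hha, he, inv_mul_cancel])
  set q : Q := ⟨_, hQ⟩
  have hv : val q = a⁻¹ * d := rfl
  have hb : D.π q 0 = D.π q 1 := X.val_KK.1 (hv ▸ mul_mem (inv_mem (X.A0_le_KK ha)) hd)
  refine ⟨q, by rw [hv, mul_inv_cancel_left], hb, ?_⟩
  have hinv : a⁻¹ = a := inv_eq_of_mul_eq_one_right (X.sq ha)
  have hdinv : d⁻¹ = d := inv_eq_of_mul_eq_one_right hd2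
  have hconj : a * val q * a⁻¹ = val q⁻¹ := by
    show a * val q * a⁻¹ = (val q)⁻¹
    rw [hv, _root_.mul_inv_rev, inv_inv, mul_inv_cancel_left, hinv, hdinv]
  have hr := D.π_conj_eq (c := ⟨a, A0_le_cz D ha⟩) hconj
  rw [π_inv D] at hr
  change D.T.r (mk ⟨a, A0_le_cz D ha⟩) (D.π q) = D.π q at hr
  rw [hha] at hr
  funext i
  have := D.T.rest (ovr_lstab D.T (umat h) (umat_isU h)) hb i
  rw [hr, mat_ovr_fix] at this
  exact this.symm

/-- A linear element commuting with the base transvection moves the representative inside the subgroup. -/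
theorem conj_e {c : HH} (hc : mk c ∈ D.T.M)
    (hcomm : Commute (mk c) (mk ⟨X.P.e, A0_le_cz D X.e_mem⟩)) :
    ∃ k : Q, (c : G) * X.P.e * (c : G)⁻¹ = X.P.e * val k ∧ InL (D.π k) := by
  set ec : HH := ⟨X.P.e, A0_le_cz D X.e_mem⟩ with hec
  have hQ : ec⁻¹ * (c * ec * c⁻¹) ∈ Q := (QuotientGroup.eq_one_iff _).1 (show mk _ = 1 by
    rw [map_mul, map_inv, map_mul, map_mul, map_inv, hcomm.eq, mul_inv_cancel_right, inv_mul_cancel])
  set k : Q := ⟨_, hQ⟩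
  have hv : (c : G) * X.P.e * (c : G)⁻¹ = X.P.e * val k := (mul_inv_cancel_left X.P.e _).symm
  refine ⟨k, hv, ?_⟩
  have einv : X.P.e⁻¹ = X.P.e := inv_eq_of_mul_eq_one_right (X.sq X.e_mem)
  have hsq : X.P.e * val k * (X.P.e * val k) = 1 := by
    rw [← hv, show (c : G) * X.P.e * (c : G)⁻¹ * ((c : G) * X.P.e * (c : G)⁻¹) =
      (c : G) * (X.P.e * X.P.e) * (c : G)⁻¹ by group, X.sq X.e_mem]
    group
  have hconj : X.P.e * val k * X.P.e⁻¹ = val k⁻¹ := by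
    show _ = (val k)⁻¹
    rw [einv]
    refine eq_inv_of_mul_eq_one_left ?_
    rw [← hsq]; group
  have hr := D.π_conj_eq (c := ⟨X.P.e, A0_le_cz D X.e_mem⟩) hconj
  rw [π_inv D] at hr
  have hr' : (![D.π k 1, D.π k 0, D.π k 3, D.π k 2, D.π k 4, D.π k 5] : V6) = D.π k :=
    (X.P.eact (D.π k)).symm.trans hr
  -- the scalar
  have hyc : Commute (mk X.P.y) (mk c) := by
    refine D.T.inj (LinearEquiv.ext fun v => ?_)
    obtain ⟨b, rfl⟩ := D.π_surj v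
    have hy : ∀ b : Q, D.T.r (mk X.P.y) (D.π b) = X.P.w • D.π b := fun b => (D.act _ b).symm.trans (X.P.yπ b)
    obtain ⟨b', hb'⟩ := D.π_surj (D.T.r (mk c) (D.π b))
    rw [map_mul, map_mul]
    show D.T.r (mk X.P.y) (D.T.r (mk c) (D.π b)) = D.T.r (mk c) (D.T.r (mk X.P.y) (D.π b))
    rw [← hb', hy, hy, hb', D.T.semilinear (D.T.lin hc)]
  have hQ0 : X.P.y⁻¹ * (c * X.P.y * c⁻¹) ∈ Q := (QuotientGroup.eq_one_iff _).1 (show mk _ = 1 by
    rw [map_mul, map_inv, map_mul, map_mul, map_inv, hyc.symm.eq, mul_inv_cancel_right, inv_mul_cancel])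
  set q0 : Q := ⟨_, hQ0⟩
  have hq0 : (X.P.y : G) * val q0 = (c : G) * (X.P.y : G) * (c : G)⁻¹ := mul_inv_cancel_left _ _
  obtain ⟨k0, hk0, hk0π⟩ := Rep.conj_Q D X.P q0
  set k' : Q := MulAut.conjNormal (q0 : HH) k
  have hfix : (X.P.y : G) * val q0 * (X.P.e * val k) * ((X.P.y : G) * val q0)⁻¹ = X.P.e * val k := by
    rw [hq0, ← hv]
    calc (c : G) * (X.P.y : G) * (c : G)⁻¹ * ((c : G) * X.P.e * (c : G)⁻¹) *
        ((c : G) * (X.P.y : G) * (c : G)⁻¹)⁻¹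
        = (c : G) * ((X.P.y : G) * X.P.e * (X.P.y : G)⁻¹) * (c : G)⁻¹ := by group
      _ = _ := by rw [X.P.yfix]
  have hfix2 : X.P.e * val (MulAut.conjNormal X.P.y (k0 * k')) = X.P.e * val k := by
    rw [← hfix]
    show X.P.e * ((X.P.y : G) * (val k0 * (val q0 * val k * (val q0)⁻¹)) * (X.P.y : G)⁻¹) = _
    calc X.P.e * ((X.P.y : G) * (val k0 * (val q0 * val k * (val q0)⁻¹)) * (X.P.y : G)⁻¹)
        = (X.P.y : G) * X.P.e * (X.P.y : G)⁻¹ *
            ((X.P.y : G) * (val k0 * (val q0 * val k * (val q0)⁻¹)) * (X.P.y : G)⁻¹) := by rw [X.P.yfix]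
      _ = (X.P.y : G) * (X.P.e * val k0) * (val q0 * val k * (val q0)⁻¹) * (X.P.y : G)⁻¹ := by group
      _ = (X.P.y : G) * (val q0 * X.P.e * (val q0)⁻¹) * (val q0 * val k * (val q0)⁻¹) * (X.P.y : G)⁻¹ := by
          rw [hk0]
      _ = _ := by group
  have hπ : X.P.w • (D.π k0 + D.π k) = D.π k := by
    have e2 : MulAut.conjNormal X.P.y (k0 * k') = k := Subtype.ext (Subtype.ext (mul_left_cancel hfix2))
    conv_rhs => rw [← e2]
    rw [X.P.yπ, D.π_mul, D.act]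
    congr 2
    exact (D.π_inner q0 k).symm
  have hz0 : ∀ w x : F4, (w = om ∨ w = om * om) → w * (0 + x) = x → x = 0 := by decide +kernel
  have g4 : D.π k 4 = 0 := by
    refine hz0 _ _ X.P.w_eq ?_
    have h := congrFun hπ 4
    rw [Pi.smul_apply, Pi.add_apply, hk0π] at h
    simpa [add_self_F4] using h
  have g5 : D.π k 5 = 0 := by
    refine hz0 _ _ X.P.w_eq ?_
    have h := congrFun hπ 5
    rw [Pi.smul_apply, Pi.add_apply, hk0π] at h
    simpa [add_self_F4] using h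
  exact ⟨⟨(congrFun hr' 1 : D.π k 0 = D.π k 1), (congrFun hr' 3 : D.π k 2 = D.π k 3), g4.trans g5.symm⟩, g4⟩

/-- Members of the class over the base transvection lie over the trace. -/
theorem not_off {k : Q} (hd : X.P.e * val k ∈ X.DD) (hk : InW (D.π k)) : InL (D.π k) := by
  by_contra hL
  obtain ⟨-, -, hoff⟩ := main_count D X.hgs X.hsz X.P X.hinv X.hu
  refine X.DD_E hd X.ab_E ((mem_nS D).1 (X.L.mem _ _ abc_ne.1)).2.1 ?_
  rw [← X.ea, mul_assoc, show val k * val X.qa = val (k * X.qa) from rfl]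
  have hW : InW (D.π (k * X.qa)) := by rw [D.π_mul, X.πa]; exact hk.add ⟨rfl, rfl, rfl⟩
  refine hoff _ (val_mem_R0 D hW) fun h => hL ⟨hk, ?_⟩
  rw [πG_val, D.π_mul, X.πa] at h
  simpa [v2, nf] using h.2

/-- Members over the base transvection. -/
theorem base_split {d : G} (hd : d ∈ X.DD) (hK : d ∈ X.KK) (hp : X.ph d = tvp p0) :
    ∃ q : Q, d = X.P.e * val q ∧ InL (D.π q) := by
  rw [tvp_p0_elt] at hp
  obtain ⟨q, rfl, hb, ht⟩ := X.split hK (X.DD_sq hd) X.e_mem hp X.mk_e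
  have h23 : D.π q 2 = D.π q 3 := by
    rw [← v4_eta (tail (D.π q))] at ht
    exact (fix_swap _ _ _ _).1 ht
  suffices h45 : D.π q 4 = 0 ∧ D.π q 5 = 0 from
    ⟨q, rfl, ⟨⟨hb, h23, h45.1.trans h45.2.symm⟩, h45.1⟩⟩
  obtain ⟨r, hr⟩ := D.π_surj ![D.π q 0, D.π q 0, D.π q 2, D.π q 2, 0, 0]
  set q1 : Q := r⁻¹ * q
  have hq1 : D.π q1 = ![0, 0, 0, 0, D.π q 4, D.π q 5] := by
    rw [D.π_mul, π_inv D, hr]
    funext i; fin_cases i <;> simp [hb, h23, add_self_F4]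
  have hrW : InW (D.π r) := by rw [hr]; exact ⟨rfl, rfl, rfl⟩
  have hrR := val_mem_R0 D hrW
  have hq : val q = val r * val q1 := by
    show _ = val r * ((val r)⁻¹ * val q); rw [mul_inv_cancel_left]
  have hq1e : Commute (val q1) X.P.e := mul_inv_eq_iff_eq_mul.1
    (Rep.fix_of_zero D X.P (by rw [hq1]; rfl) (by rw [hq1]; rfl) (by rw [hq1]; rfl) (by rw [hq1]; rfl))
  have hrq : Commute (val r) (val q1) := congrArg val ((D.comm_iff r q1).2 (by
    rw [hr, hq1]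
    generalize D.π q 0 = a
    generalize D.π q 2 = b
    generalize D.π q 4 = c
    generalize D.π q 5 = e
    revert a b c e
    decide +kernel))
  have her : Commute X.P.e (val r) := X.comm X.e_mem (R0_le_A0 D hrR)
  have hsq1 : val q1 * val q1 = 1 := by
    have h := X.DD_sq hd
    rw [hq, show X.P.e * (val r * val q1) = X.P.e * val r * val q1 by group] at h
    have hc : Commute (X.P.e * val r) (val q1) := hq1e.symm.mul_left hrq
    rw [show X.P.e * val r * val q1 * (X.P.e * val r * val q1) =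
      X.P.e * val r * (val q1 * (X.P.e * val r)) * val q1 by group, ← hc.eq,
      show X.P.e * val r * (X.P.e * val r * val q1) * val q1 =
        X.P.e * val r * (X.P.e * val r) * (val q1 * val q1) by group,
      X.sq (mul_mem X.e_mem (R0_le_A0 D hrR)), one_mul] at h
    exact h
  have hqn := (D.sq_iff q1).1 (Subtype.ext (Subtype.ext hsq1))
  rw [hq1] at hqn
  by_contra hne
  obtain ⟨hc4, hc5⟩ : D.π q 4 ≠ 0 ∧ D.π q 5 ≠ 0 := by
    revert hne hqn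
    generalize D.π q 4 = c
    generalize D.π q 5 = e
    revert c e
    decide +kernel
  obtain ⟨kk, hkk⟩ := (by decide +kernel : ∀ c e : F4, c ≠ 0 → e ≠ 0 → ∃ k : ZMod 3, omp k * e = c) _ _ hc4 hc5
  obtain ⟨l, hlM, hl⟩ := D.T.diag ![0, 0, kk, kk, 0, kk]
    ((by decide +kernel : ∀ k : ZMod 3, ∑ i, (![0, 0, k, k, 0, k] : Fin 6 → ZMod 3) i = 0) kk)
  have hl2 : l ∈ D.T.lstab := ⟨by
    show D.T.r l v2 = v2
    rw [hl]; exact (by decide +kernel : ∀ kk : ZMod 3, dmul ![0, 0, kk, kk, 0, kk] v2 = v2) kk, hlM⟩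
  obtain ⟨g, hg, hgl⟩ := X.lift hl2
  have hcomm : Commute (mk ⟨g, hg.2⟩) (mk ⟨X.P.e, A0_le_cz D X.e_mem⟩) := by
    refine D.T.inj (LinearEquiv.ext fun v => ?_)
    rw [hgl, map_mul, map_mul]
    show D.T.r l (D.T.r _ v) = D.T.r _ (D.T.r l v)
    rw [X.P.eact, X.P.eact, hl, hl]
    funext i
    fin_cases i <;> simp [dmul]
  obtain ⟨k, hk, hkL⟩ := X.conj_e (c := ⟨g, hg.2⟩) (hgl ▸ hlM) hcomm
  set k2 : Q := MulAut.conjNormal (⟨g, hg.2⟩ : HH) q
  have e : g * (X.P.e * val q) * g⁻¹ = X.P.e * val (k * k2) := by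
    show _ = X.P.e * (val k * (g * val q * g⁻¹))
    change g * X.P.e * g⁻¹ = _ at hk
    rw [show X.P.e * (val k * (g * val q * g⁻¹)) = X.P.e * val k * (g * val q * g⁻¹) by group, ← hk]; group
  have hk2 : D.π k2 = dmul ![0, 0, kk, kk, 0, kk] (D.π q) := by
    rw [D.act]; exact (congrArg (D.T.r · (D.π q)) hgl).trans (hl _)
  have hW : InW (D.π (k * k2)) := by
    rw [D.π_mul, hk2]
    refine hkL.1.add ⟨?_, ?_, ?_⟩
    · simp [dmul, hb]
    · simp [dmul, h23]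
    · simpa [dmul, omp_zero] using hkk.symm
  have h4 := (X.not_off (e ▸ X.DD_conj hd hg.1) hW).2
  rw [D.π_mul, Pi.add_apply, hkL.2, zero_add, hk2] at h4
  simp [dmul, omp_zero] at h4
  exact hc4 h4

theorem base_A0 {d : G} (hd : d ∈ X.DD) (hK : d ∈ X.KK) (hp : X.ph d = tvp p0) : d ∈ A0 D := by
  obtain ⟨q, rfl, hq⟩ := X.base_split hd hK hp
  exact mul_mem X.e_mem (R0_le_A0 D (val_mem_R0 D hq.1))

theorem ph_mat {g : G} (hg : g ∈ X.KK) {M : Matrix (Fin 4) (Fin 4) F4} (hM : IsU M)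
    (h : X.ph g = suElt M hM) (x : V4) : suMat (X.ph g) *ᵥ x = M *ᵥ x := by rw [h]; rfl

theorem Q_normalises {q : Q} {a : G} (ha : a ∈ A0 D) : val q * a * (val q)⁻¹ ∈ A0 D :=
  N0_conj_A0 D (QG_le_N0 D (mem_map_of_mem _ q.2)) ha

/-- No member lies over the second class of involutions. -/
theorem no_t2 {d : G} (hd : d ∈ X.DD) (hK : d ∈ X.KK) : X.ph d ≠ t2 := by
  classical
  intro hp
  obtain ⟨a, ha⟩ := exists_over D X.hinv (ovr_fix D.T (1, 0, 1))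
  rw [bar_mk] at ha
  obtain ⟨q, e, hb, ht⟩ := X.split hK (X.DD_sq hd) a.2 hp ha
  rw [← v4_eta (tail (D.π q))] at ht
  obtain ⟨h2, h4⟩ := (fix_swap _ _ _ _).2 ht
  have hdA : d ∈ A0 D := e ▸ mul_mem a.2 (R0_le_A0 D (val_mem_R0 D ⟨hb, h2, h4⟩))
  have hqt : ∀ t : F4 × F4, ∃ u : Q, D.π u = ![0, 0, t.1, 0, t.2, 0] := fun t => D.π_surj _
  choose u hu using hqt
  have huK : ∀ t, val (u t) ∈ X.KK := fun t => X.val_KK.2 (by rw [hu]; rfl)
  let dd : F4 × F4 → G := fun t => val (u t) * d * (val (u t))⁻¹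
  have hphd : ∀ t, X.ph (dd t) = t2 := fun t => by
    show X.ph (val (u t) * d * (val (u t))⁻¹) = _
    rw [X.ph_conj (huK t) hK, (X.ph_eq_one (huK t)).2 ⟨_, rfl⟩, hp]
    group
  have hinj : Function.Injective dd := by
    intro t t' h
    set w : Q := (u t')⁻¹ * u t
    have hwd : d * val w * d⁻¹ = val w := by
      refine mul_inv_eq_iff_eq_mul.2 ?_
      show d * ((val (u t'))⁻¹ * val (u t)) = (val (u t'))⁻¹ * val (u t) * d
      calc d * ((val (u t'))⁻¹ * val (u t))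
          = (val (u t'))⁻¹ * (val (u t') * d * (val (u t'))⁻¹) * val (u t) := by group
        _ = (val (u t'))⁻¹ * (val (u t) * d * (val (u t))⁻¹) * val (u t) := by
            rw [show val (u t') * d * (val (u t'))⁻¹ = dd t' from rfl, ← h]
        _ = _ := by group
    have hr : D.T.r (mk ⟨d, hK.2⟩) (D.π w) = D.π w := D.π_conj_eq (c := ⟨d, hK.2⟩) hwd
    rw [X.ph_eq hK hp] at hr
    have hwb : D.π w 0 = D.π w 1 := by rw [D.π_mul, π_inv D, hu, hu]; rfl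
    have hfix : umat (1, 0, 1) *ᵥ tail (D.π w) = tail (D.π w) := funext fun i => by
      have := D.T.rest (ovr_lstab D.T (umat (1, 0, 1)) (umat_isU _)) hwb i
      rw [hr, mat_ovr_fix] at this
      exact this.symm
    rw [← v4_eta (tail (D.π w))] at hfix
    obtain ⟨f2, f4⟩ := (fix_swap _ _ _ _).2 hfix
    have f2' : D.π w 2 = D.π w 3 := f2
    have f4' : D.π w 4 = D.π w 5 := f4
    rw [D.π_mul, π_inv D, hu, hu] at f2' f4'
    simp at f2' f4'
    exact Prod.ext (eq_of_add_F4 _ _ f2').symm (eq_of_add_F4 _ _ f4').symm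
  obtain ⟨g, hg, hgp, hgN⟩ := X.lift_gen 0
  let F : Bool × (F4 × F4) → G := fun x => cond x.1 (g * dd x.2 * g⁻¹) (dd x.2)
  have hdA' : ∀ t, dd t ∈ A0 D := fun t => Q_normalises hdA
  have hdDD : ∀ t, dd t ∈ X.DD := fun t => X.DD_conj hd (huK t).1
  have hne : ∀ t t', g * dd t * g⁻¹ ≠ dd t' := by
    intro t t' h
    have h1 := congrArg X.ph h
    rw [X.ph_conj hg (X.A0_le_KK (hdA' t)), hphd, hphd, hgp, mul_inv_eq_iff_eq_mul] at h1
    have h2 : gmat 0 * umat (1, 0, 1) = umat (1, 0, 1) * gmat 0 := congrArg suMat h1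
    rw [base_mats.1] at h2
    refine base_mats.2.1 ?_
    have h3 := congrArg (fun M => M * suMat (suElt (gmat 0) (gmat_isU 0))⁻¹) h2
    have h4 : gmat 0 * suMat (suElt (gmat 0) (gmat_isU 0))⁻¹ = 1 := by
      show suMat (suElt (gmat 0) (gmat_isU 0)) * suMat (suElt (gmat 0) (gmat_isU 0))⁻¹ = 1
      rw [← suMat_mul, mul_inv_cancel, suMat_one]
    simp only [Matrix.mul_assoc, h4, Matrix.mul_one] at h3
    exact h3.symm
  have hF : Function.Injective F := by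
    rintro ⟨x, t⟩ ⟨y, t'⟩ h
    cases x <;> cases y <;> simp only [F, cond_true, cond_false] at h
    · rw [hinj h]
    · exact absurd h.symm (hne _ _)
    · exact absurd h (hne _ _)
    · rw [hinj (mul_left_cancel (mul_right_cancel h))]
  have hFA : ∀ x, F x ∈ X.DD ∧ F x ∈ A0 D := by
    rintro ⟨_ | _, t⟩ <;> simp only [F, cond_true, cond_false]
    · exact ⟨hdDD t, hdA' t⟩
    · exact ⟨X.DD_conj (hdDD t) hg.1, (mem_normalizer_iff.1 hgN _).1 (hdA' t)⟩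
  choose pnt hpt hpe using fun x => X.exists_point (hFA x).1 (hFA x).2
  have hle := Finset.card_le_card_of_injOn (s := (Finset.univ : Finset (Bool × (F4 × F4))))
    (t := Finset.univ.filter fun x => IsPoint x) pnt
    (fun x _ => Finset.mem_filter.2 ⟨Finset.mem_univ _, hpt x⟩)
    (fun x _ y _ h => hF (by rw [hpe x, hpe y, h]))
  rw [card_points, Finset.card_univ, Fintype.card_prod, Fintype.card_prod, Fintype.card_bool, card_F4] at hle
  norm_num at hle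

/-- A neighbour of the centre lies over a point. -/
theorem exists_pt {d : G} (hd : d ∈ X.DD) (hK : d ∈ X.KK) (hne : d ≠ z) :
    ∃ p, IsPt4 p ∧ X.ph d = tvp p := by
  have h1 : X.ph d ≠ 1 := fun h => by
    obtain ⟨q, rfl⟩ := (X.ph_eq_one hK).1 h
    exact hne (X.DD_Q hd)
  have hsq : X.ph d * X.ph d = 1 := by rw [← X.ph_mul hK hK, X.DD_sq hd, ph_one]
  refine (invol_cases hsq h1).resolve_right ?_
  rintro ⟨u, hu⟩
  obtain ⟨g, hg, rfl⟩ := X.ph_surj u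
  exact X.no_t2 (X.DD_conj hd hg.1) (mul_mem (mul_mem hg hK) (inv_mem hg)) (by rw [X.ph_conj hg hK, hu])

/-- The members over a point. -/
def fib (p : V4) : Set G := {d | d ∈ X.DD ∧ d ∈ X.KK ∧ X.ph d = tvp p}

theorem fib_ne_z {p : V4} (hp : IsPt4 p) {d : G} (hd : d ∈ X.fib p) : d ≠ z := fun e =>
  tvp_ne_one hp (by rw [← hd.2.2, e, X.ph_z])

theorem fib_smul {p : V4} (hp : IsPt4 p) {c : F4} (hc : c ≠ 0) : X.fib (c • p) = X.fib p := by
  rw [fib, fib, tvp_smul hp hc]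

theorem fib_conj {p : V4} (hp : IsPt4 p) {d g : G} (hd : d ∈ X.fib p) (hg : g ∈ X.KK) :
    g * d * g⁻¹ ∈ X.fib (suMat (X.ph g) *ᵥ p) :=
  ⟨X.DD_conj hd.1 hg.1, mul_mem (mul_mem hg hd.2.1) (inv_mem hg), by rw [X.ph_conj hg hd.2.1, hd.2.2, tvp_conj hp]⟩

theorem conj_back {p : V4} {g : G} (hg : g ∈ X.KK) :
    suMat (X.ph g⁻¹) *ᵥ (suMat (X.ph g) *ᵥ p) = p := by
  rw [Matrix.mulVec_mulVec, ← suMat_mul, X.ph_inv hg, inv_mul_cancel, suMat_one, Matrix.one_mulVec]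

/-- Members over a point of the line lie in the abelian subgroup. -/
theorem plane_A0 {q : V4} (hq : InPl q) {d : G} (hd : d ∈ X.fib q) : d ∈ A0 D := by
  have step : ∀ (q : V4) (i : Fin 3), IsPt4 q → (∀ d ∈ X.fib q, d ∈ A0 D) →
      IsPt4 (gmat i *ᵥ q) ∧ ∀ d ∈ X.fib (gmat i *ᵥ q), d ∈ A0 D := by
    intro q i hq hgood
    refine ⟨suElt_mulVec (gmat_isU i) q ▸ pt_map hq _, fun d hd => ?_⟩
    obtain ⟨g, hg, hgp, hgN⟩ := X.lift_gen i
    rw [← X.ph_mat hg (gmat_isU i) hgp] at hd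
    have h := X.fib_conj (pt_map hq _) hd (inv_mem hg)
    rw [X.conj_back hg, inv_inv] at h
    have := (mem_normalizer_iff.1 hgN _).1 (hgood _ h)
    rwa [show g * (g⁻¹ * d * g) * g⁻¹ = d by group] at this
  have b0 : IsPt4 p0 ∧ ∀ d ∈ X.fib p0, d ∈ A0 D := ⟨p0_pt, fun d hd => X.base_A0 hd.1 hd.2.1 hd.2.2⟩
  have b2 := step _ 2 b0.1 b0.2
  have b3 := step _ 0 b2.1 b2.2
  have b4 := step _ 1 b3.1 b3.2
  have b5 := step _ 1 b4.1 b4.2
  obtain ⟨hpt, h01, h23⟩ := hq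
  have e : (![q 0, q 0, q 2, q 2] : V4) = q := by
    conv_rhs => rw [← v4_eta q, ← h01, ← h23]
  obtain ⟨k, hk, h⟩ := five_points (q 0) (q 2) (e.symm ▸ hpt)
  rw [e] at h
  rcases h with h | h | h | h | h <;> rw [h] at hd
  exacts [b0.2 _ (X.fib_smul b0.1 hk ▸ hd), b2.2 _ (X.fib_smul b2.1 hk ▸ hd),
    b3.2 _ (X.fib_smul b3.1 hk ▸ hd), b4.2 _ (X.fib_smul b4.1 hk ▸ hd), b5.2 _ (X.fib_smul b5.1 hk ▸ hd)]

theorem fib_nonempty {p : V4} (hp : IsPt4 p) : ∃ d, d ∈ X.fib p := by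
  obtain ⟨x0, h0, hz0⟩ := X.exists_x0
  obtain ⟨x, hx⟩ : ∃ x, IsPoint x ∧ x ≠ x0 := by
    by_contra h
    push Not at h
    have : (Finset.univ.filter fun x => IsPoint x).card ≤ 1 := Finset.card_le_one.2 fun a ha b hb =>
      (h a (Finset.mem_filter.1 ha).2).trans (h b (Finset.mem_filter.1 hb).2).symm
    rw [card_points] at this
    norm_num at this
  have hdd := X.dX_mem hx.1
  obtain ⟨q, hq, hph⟩ := X.exists_pt hdd (X.A0_le_KK (X.dX_A0 x))
    (fun e => hx.2 (X.dX_inj (e.trans hz0)))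
  have hd : X.dX x ∈ X.fib q := ⟨hdd, X.A0_le_KK (X.dX_A0 x), hph⟩
  obtain ⟨u, c, hc, hu⟩ := U62.exists_move hq
  obtain ⟨w, c', hc', hw⟩ := U62.exists_move hp
  obtain ⟨g, hg, hgp⟩ := X.ph_surj (w⁻¹ * u)
  refine ⟨_, X.fib_smul hp (mul_ne_zero hc (inv_ne_zero hc')) ▸ (?_ :
    g * X.dX x * g⁻¹ ∈ X.fib ((c * c'⁻¹) • p))⟩
  have e : suMat (X.ph g) *ᵥ q = (c * c'⁻¹) • p := by
    have h2 : suMat w⁻¹ *ᵥ (c' • p0) = p := by
      rw [← hw, Matrix.mulVec_mulVec, ← suMat_mul, inv_mul_cancel, suMat_one, Matrix.one_mulVec]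
    rw [hgp, suMat_mul, ← Matrix.mulVec_mulVec, hu, ← h2, Matrix.mulVec_smul, Matrix.mulVec_smul, smul_smul,
      mul_assoc, inv_mul_cancel₀ hc', mul_one]
  exact e ▸ X.fib_conj hq hd hg

/-- A member commuting with the centre moves into the abelian subgroup. -/
theorem one_A0 {p : V4} (hp : IsPt4 p) {d : G} (hd : d ∈ X.fib p) : ∃ g ∈ X.KK, g * d * g⁻¹ ∈ A0 D := by
  obtain ⟨u, c, hc, hu⟩ := U62.exists_move hp
  obtain ⟨g, hg, rfl⟩ := X.ph_surj u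
  refine ⟨g, hg, ?_⟩
  have h := X.fib_conj hp hd hg
  rw [hu, X.fib_smul p0_pt hc] at h
  exact X.base_A0 h.1 h.2.1 h.2.2

/-- Two members over orthogonal points move into the abelian subgroup together. -/
theorem two_A0 {p q : V4} (hp : IsPt4 p) (hq : IsPt4 q) (h : h4 p q = 0) {d d' : G} (hd : d ∈ X.fib p)
    (hd' : d' ∈ X.fib q) : ∃ g ∈ X.KK, g * d * g⁻¹ ∈ A0 D ∧ g * d' * g⁻¹ ∈ A0 D := by
  obtain ⟨u, c, hc, hu⟩ := U62.exists_move hp
  have hperp : h4 (suMat u *ᵥ q) p0 = 0 := by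
    have e : h4 (suMat u *ᵥ q) (suMat u *ᵥ p) = 0 := by
      rw [← h4_eq, su_preserves, h4_eq]; exact h4_zero_iff.1 h
    rw [hu, h4_smul_right] at e
    exact (mul_eq_zero.1 e).resolve_left (mul_ne_zero hc hc)
  obtain ⟨v, ⟨k, hk, hv⟩, hvq⟩ := exists_to_line (pt_map hq u) hperp
  obtain ⟨g, hg, hgp⟩ := X.ph_surj (v * u)
  refine ⟨g, hg, ?_, ?_⟩
  · have h1 := X.fib_conj hp hd hg
    rw [hgp, suMat_mul, ← Matrix.mulVec_mulVec, hu, Matrix.mulVec_smul, hv, smul_smul,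
      X.fib_smul p0_pt (mul_ne_zero hc hk)] at h1
    exact X.base_A0 h1.1 h1.2.1 h1.2.2
  · have h1 := X.fib_conj hq hd' hg
    rw [hgp, suMat_mul, ← Matrix.mulVec_mulVec] at h1
    exact X.plane_A0 hvq h1

/-- Commutation is orthogonality of the points. -/
theorem fib_comm {p q : V4} (hp : IsPt4 p) (hq : IsPt4 q) {d d' : G} (hd : d ∈ X.fib p) (hd' : d' ∈ X.fib q) :
    Commute d d' ↔ h4 p q = 0 := by
  constructor
  · intro h
    rw [← tvp_comm_iff hp hq, ← hd.2.2, ← hd'.2.2]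
    exact X.ph_commute hd.2.1 hd'.2.1 h
  · intro h
    obtain ⟨g, -, h1, h2⟩ := X.two_A0 hp hq h hd hd'
    exact (CfsgLib.ThreeT.commute_conj_iff g _ _).1 (X.comm h1 h2)

theorem pair_ne_E {x y : Cfsg.GolayPt} (hx : IsPoint x) (hy : IsPoint y) (hxy : x ≠ y) {s : G} (hs : s ∈ X.E) :
    X.dX x * X.dX y ≠ s := by
  intro e
  by_cases h1 : s = 1
  · exact ((mem_nS D).1 (X.mul_nS hxy)).2.1 (e.trans h1)
  obtain ⟨p, q, hpq, rfl, hsub⟩ := X.E_pairs hs h1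
  obtain ⟨hp, hq⟩ := Finset.insert_subset_iff.1 hsub
  rw [Finset.singleton_subset_iff] at hq
  refine not_conj_one D ?_
  rw [← X.lab_mul_self p q]
  nth_rw 1 [← e]
  rw [X.dX_mul]
  refine X.four_z ?_
  have : ∀ a b, IsPoint a → b ∈ abc → a ≠ b := fun a b ha hb e => isPoint_iff.1 ha (e ▸ hb)
  simp [Finset.card_insert_of_notMem, hxy, hpq, this x p hx hp, this x q hx hq, this y p hy hp, this y q hy hq]

/-- A product of two points and an element of the four-group is not in the class. -/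
theorem pair_notMem {x y : Cfsg.GolayPt} (hx : IsPoint x) (hy : IsPoint y) (hxy : x ≠ y) {s : G}
    (hs : s ∈ X.E) : X.dX x * X.dX y * s ∉ X.DD := by
  intro h
  by_cases h1 : s = 1
  · rw [h1, mul_one] at h
    exact X.pair_not_z (X.DD_z h)
  obtain ⟨w, hw, e⟩ := X.exists_point h (mul_mem (mul_mem (X.dX_A0 x) (X.dX_A0 y)) (X.E_le_A0 hs))
  have e' : X.dX x * X.dX y * X.dX w = s := by
    rw [← e, show X.dX x * X.dX y * (X.dX x * X.dX y * s) = X.dX x * X.dX y * (X.dX x * X.dX y) * s by group,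
      X.sq (mul_mem (X.dX_A0 x) (X.dX_A0 y)), one_mul]
  have hns : ¬ IsConj z s := X.not_z hs h1
  by_cases hxw : x = w
  · subst hxw
    refine hns ?_
    rw [← e', (X.dX_comm x y).eq, mul_assoc, X.dX_sq, mul_one]
    exact X.dX_z hy
  by_cases hyw : y = w
  · subst hyw
    refine hns ?_
    rw [← e', mul_assoc, X.dX_sq, mul_one]
    exact X.dX_z hx
  obtain ⟨hz, hline⟩ := X.triple_iff hx hy hw hxy hxw hyw
  obtain ⟨r, t, hr, ht, hrt, e2⟩ := hline (hz.1 (e'.symm ▸ hns))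
  exact X.pair_ne_E hr ht hrt hs (e2.symm.trans e')

/-- Two members differing by a multiple of the short vector are equal. -/
theorem coset_unique {p : V4} (hp : IsPt4 p) {d d' : G} (hd : d ∈ X.fib p) (hd' : d' ∈ X.DD) {u : Q}
    (e : d' = d * val u) (hb : D.π u 0 = D.π u 1) (ht : tail (D.π u) = 0) : d' = d := by
  obtain ⟨g, hg, hgd⟩ := X.one_A0 hp hd
  set u' : Q := MulAut.conjNormal (⟨g, hg.2⟩ : HH) u
  obtain ⟨hb', dd, -, ht'⟩ := X.tail_conj hg hb (q' := u') rfl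
  rw [ht, Matrix.mulVec_zero, smul_zero] at ht'
  obtain ⟨s, hs, hu'⟩ : ∃ s ∈ X.E, val u' = s ∨ val u' = s * z := by
    have hπ : D.π u' = D.π u' 0 • v2 := by
      funext i
      fin_cases i
      · simp [v2, nf]
      · simp [v2, nf, hb']
      all_goals simp [v2, nf]
      exacts [congrFun ht' 0, congrFun ht' 1, congrFun ht' 2, congrFun ht' 3]
    have : ∀ c : F4, ∃ s : Q, val s ∈ X.E ∧ D.π s = c • v2 := fun c => by
      rcases (by decide +kernel : ∀ c : F4, c = 0 ∨ c = 1 ∨ c = om ∨ c = 1 + om) c with rfl | rfl | rfl | rfl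
      · exact ⟨1, one_mem _, by rw [π_one D, zero_smul]⟩
      · exact ⟨X.qa, X.ea ▸ X.ab_E, by rw [X.πa, one_smul]⟩
      · exact ⟨X.qb, X.eb ▸ X.bc_E, X.πb⟩
      · refine ⟨X.qa * X.qb, ?_, by rw [D.π_mul, X.πa, X.πb, add_smul, one_smul]⟩
        show val X.qa * val X.qb ∈ X.E
        rw [X.ea, X.eb, X.L.trans]; exact X.ac_E
    obtain ⟨s, hs, hsπ⟩ := this (D.π u' 0)
    exact ⟨val s, hs, D.eq_of_π (hsπ.trans hπ.symm)⟩
  suffices h : g * d' * g⁻¹ = g * d * g⁻¹ from mul_left_cancel (mul_right_cancel h)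
  have e2 : g * d' * g⁻¹ = g * d * g⁻¹ * val u' := by
    show _ = g * d * g⁻¹ * (g * val u * g⁻¹); rw [e]; group
  have hDd' := X.DD_conj hd' hg.1
  obtain ⟨x, hx, ex⟩ := X.exists_point (X.DD_conj hd.1 hg.1) hgd
  obtain ⟨x0, h0, hz0⟩ := X.exists_x0
  rw [e2] at hDd' ⊢
  rcases hu' with h | h <;> rw [h] at hDd' ⊢
  · by_cases h1 : s = 1
    · rw [h1, mul_one]
    · exact absurd (X.DD_z hDd') (X.DD_E (X.DD_conj hd.1 hg.1) hs h1)
  · exfalso
    have hxne : x ≠ x0 := fun e' => X.fib_ne_z hp hd (by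
      refine mul_left_cancel (mul_right_cancel (a := g * d) (b := g⁻¹) (c := g * z) ?_)
      rw [ex, e', X.KK_fix hg]
      exact hz0.symm)
    rw [ex, ← (X.comm X.z_mem_A0 (X.E_le_A0 hs)).eq, ← mul_assoc] at hDd'
    rw [show X.dX x * z = X.dX x * X.dX x0 from congrArg (X.dX x * ·) hz0] at hDd'
    exact X.pair_notMem hx h0 hxne hs hDd'

/-- The members over the base point form one orbit of four. -/
theorem base_fib {d : G} (hd : d ∈ X.fib p0) (d' : G) :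
    (d' ∈ X.fib p0 ↔ ∃ (α : F4) (u : Q), D.π u = ![0, 0, α, 0, 0, 0] ∧ d' = val u * d * (val u)⁻¹) ∧
      ∀ u : Q, ∀ α : F4, D.π u = ![0, 0, α, 0, 0, 0] →
        ∃ k : Q, d * (val u * d * (val u)⁻¹) = val k ∧ D.π k = ![0, 0, α, α, 0, 0] := by
  obtain ⟨q, hq, hqL⟩ := X.base_split hd.1 hd.2.1 hd.2.2
  have key : ∀ (u : Q) (α : F4), D.π u = ![0, 0, α, 0, 0, 0] →
      val u * d * (val u)⁻¹ ∈ X.fib p0 ∧
        ∃ k : Q, val u * d * (val u)⁻¹ = d * val k ∧ D.π k = ![0, 0, α, α, 0, 0] := by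
    intro u α hu
    have huK : val u ∈ X.KK := X.val_KK.2 (by rw [hu]; rfl)
    refine ⟨⟨X.DD_conj hd.1 huK.1, mul_mem (mul_mem huK hd.2.1) (inv_mem huK), by
      rw [X.ph_conj huK hd.2.1, (X.ph_eq_one huK).2 ⟨u, rfl⟩, hd.2.2]; group⟩, ?_⟩
    obtain ⟨k0, hk0, hk0π⟩ := Rep.conj_Q D X.P u
    refine ⟨q⁻¹ * (k0 * MulAut.conjNormal (u : HH) q), ?_, ?_⟩
    · show _ = d * ((val q)⁻¹ * (val k0 * (val u * val q * (val u)⁻¹)))
      rw [hq, show X.P.e * val q * ((val q)⁻¹ * (val k0 * (val u * val q * (val u)⁻¹))) =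
        X.P.e * val k0 * (val u * val q * (val u)⁻¹) by group, ← hk0]
      group
    · rw [D.π_mul, D.π_mul, π_inv D, D.act, show D.T.r (QuotientGroup.mk (u : HH)) (D.π q) = D.π q from
        D.π_inner u q, hk0π, hu]
      rw [← w3_eq hqL.1]
      generalize D.π q 0 = a
      generalize D.π q 2 = b
      generalize D.π q 4 = c
      revert α a b c
      intro α _ a b c
      exact (by decide +kernel : ∀ α a b c : F4,
        w3 a b c + ((![(![0, 0, α, 0, 0, 0] : V6) 1, (![0, 0, α, 0, 0, 0] : V6) 0, (![0, 0, α, 0, 0, 0] : V6) 3,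
          (![0, 0, α, 0, 0, 0] : V6) 2, (![0, 0, α, 0, 0, 0] : V6) 4, (![0, 0, α, 0, 0, 0] : V6) 5] : V6) +
          ![0, 0, α, 0, 0, 0] + w3 a b c) = ![0, 0, α, α, 0, 0]) α a b c
  refine ⟨⟨fun hd' => ?_, ?_⟩, fun u α hu => ?_⟩
  · obtain ⟨q', hq', hq'L⟩ := X.base_split hd'.1 hd'.2.1 hd'.2.2
    obtain ⟨u, hu⟩ := D.π_surj ![0, 0, D.π q 2 + D.π q' 2, 0, 0, 0]
    obtain ⟨hfu, k, hk, hkπ⟩ := key u _ hu
    refine ⟨_, u, hu, ?_⟩
    set v : Q := k⁻¹ * q⁻¹ * q'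
    have hv : D.π v = D.π k + D.π q + D.π q' := by rw [D.π_mul, D.π_mul, π_inv D, π_inv D]
    have hz : ∀ a b a' b' : F4,
        (![0, 0, b + b', b + b', 0, 0] + w3 a b 0 + w3 a' b' 0 : V6) 0 =
          (![0, 0, b + b', b + b', 0, 0] + w3 a b 0 + w3 a' b' 0 : V6) 1 ∧
        tail (![0, 0, b + b', b + b', 0, 0] + w3 a b 0 + w3 a' b' 0) = 0 := by decide +kernel
    have eL : ∀ v : V6, InL v → w3 (v 0) (v 2) 0 = v := fun v hv => by
      conv_rhs => rw [← w3_eq hv.1, hv.2]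
    obtain ⟨z1, z2⟩ := hz (D.π q 0) (D.π q 2) (D.π q' 0) (D.π q' 2)
    rw [eL _ hqL, eL _ hq'L, ← hkπ, ← hv] at z1 z2
    refine X.coset_unique p0_pt hfu hd'.1 (u := v) ?_ z1 z2
    show _ = _ * ((val k)⁻¹ * (val q)⁻¹ * val q')
    rw [hk, hq', hq]; group
  · rintro ⟨α, u, hu, rfl⟩
    exact (key u α hu).1
  · obtain ⟨-, k, hk, hkπ⟩ := key u α hu
    exact ⟨k, by rw [hk, ← mul_assoc, X.DD_sq hd.1, one_mul], hkπ⟩

theorem base_card {d : G} (hd : d ∈ X.fib p0) : (X.fib p0).ncard = 4 := by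
  classical
  choose u hu using fun α : F4 => D.π_surj ![0, 0, α, 0, 0, 0]
  let f : F4 → G := fun α => val (u α) * d * (val (u α))⁻¹
  have hinj : Function.Injective f := by
    intro α β h
    obtain ⟨k, hk, hkπ⟩ := (X.base_fib hd d).2 (u α) α (hu α)
    obtain ⟨l, hl, hlπ⟩ := (X.base_fib hd d).2 (u β) β (hu β)
    have : k = l := Subtype.ext (Subtype.ext (by
      show val k = val l
      rw [← hk, ← hl]
      exact congrArg (d * ·) h))
    rw [this, hlπ] at hkπ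
    exact (congrFun hkπ 2).symm
  have hrange : X.fib p0 = Set.range f := by
    ext d'
    rw [(X.base_fib hd d').1]
    constructor
    · rintro ⟨α, v, hv, rfl⟩
      refine ⟨α, ?_⟩
      rcases D.eq_of_π (hv.trans (hu α).symm) with e | e
      · show val (u α) * d * (val (u α))⁻¹ = _; rw [e]
      · show val (u α) * d * (val (u α))⁻¹ = _
        rw [e, show val v * z * d * (val v * z)⁻¹ = val v * (z * d * z⁻¹) * (val v)⁻¹ by group,
          (X.KK_z hd.2.1).symm.eq, mul_inv_cancel_right]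
    · rintro ⟨α, rfl⟩
      exact ⟨α, u α, hu α, rfl⟩
  rw [hrange, ← Nat.card_coe_set_eq, Nat.card_range_of_injective hinj, Nat.card_eq_fintype_card, card_F4]

theorem fib_move {p : V4} (hp : IsPt4 p) : ∃ g ∈ X.KK, (∃ c : F4, c ≠ 0 ∧ suMat (X.ph g) *ᵥ p = c • p0) ∧
    ∀ d, d ∈ X.fib p ↔ g * d * g⁻¹ ∈ X.fib p0 := by
  obtain ⟨u, c, hc, hu⟩ := U62.exists_move hp
  obtain ⟨g, hg, rfl⟩ := X.ph_surj u
  refine ⟨g, hg, ⟨c, hc, hu⟩, fun d => ⟨fun h => ?_, fun h => ?_⟩⟩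
  · rw [← X.fib_smul p0_pt hc, ← hu]; exact X.fib_conj hp h hg
  · rw [← X.fib_smul p0_pt hc, ← hu] at h
    have h2 := X.fib_conj (pt_map hp _) h (inv_mem hg)
    rwa [X.conj_back hg, show g⁻¹ * (g * d * g⁻¹) * g⁻¹⁻¹ = d by group] at h2

theorem fib_card {p : V4} (hp : IsPt4 p) : (X.fib p).ncard = 4 := by
  obtain ⟨g, -, -, h⟩ := X.fib_move hp
  obtain ⟨d, hd⟩ := X.fib_nonempty hp
  rw [← X.base_card ((h d).1 hd)]
  refine Set.ncard_congr (fun d _ => g * d * g⁻¹) (fun d hd => (h d).1 hd)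
    (fun a b _ _ e => mul_left_cancel (mul_right_cancel e)) fun b hb => ?_
  have e : g * (g⁻¹ * b * g) * g⁻¹ = b := by group
  exact ⟨g⁻¹ * b * g, (h _).2 (e.symm ▸ hb), e⟩

/-- Differences inside a fibre. -/
theorem fib_diff {p : V4} (hp : IsPt4 p) {d : G} (hd : d ∈ X.fib p) :
    (∀ d' ∈ X.fib p, ∃ u : Q, d * d' = val u ∧ D.π u 0 = D.π u 1 ∧ ∃ α : F4, tail (D.π u) = α • p) ∧
      ∀ α : F4, ∃ d' ∈ X.fib p, ∃ u : Q, d * d' = val u ∧ D.π u 0 = D.π u 1 ∧ tail (D.π u) = α • p := by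
  obtain ⟨g, hg, ⟨c, hc, hgp⟩, hm⟩ := X.fib_move hp
  have hd0 := (hm d).1 hd
  have hback : suMat (X.ph g⁻¹) *ᵥ p0 = c⁻¹ • p := by
    have h := X.conj_back (p := p) hg
    rw [hgp, Matrix.mulVec_smul] at h
    rw [← h, smul_smul, inv_mul_cancel₀ hc, one_smul]
  have htail : ∀ α : F4, tail (![0, 0, α, α, 0, 0] : V6) = α • p0 := fun α => funext fun i => by
    fin_cases i <;> simp [tail, tl, p0, tv2]
  have trans : ∀ (k : Q) (α : F4) (d' : G), D.π k = ![0, 0, α, α, 0, 0] →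
      g * d * g⁻¹ * (g * d' * g⁻¹) = val k →
      ∃ u : Q, d * d' = val u ∧ D.π u 0 = D.π u 1 ∧ ∃ e : F4, e ≠ 0 ∧ tail (D.π u) = (e * α) • p := by
    intro k α d' hk e
    set u : Q := MulAut.conjNormal (⟨g⁻¹, inv_mem hg.2⟩ : HH) k
    have hu : g⁻¹ * val k * g⁻¹⁻¹ = val u := rfl
    obtain ⟨hb, dd, hdd, ht⟩ := X.tail_conj (inv_mem hg) (q := k) (q' := u) (by rw [hk]; rfl) hu
    refine ⟨u, by rw [← hu, ← e]; group, hb, dd * c⁻¹, mul_ne_zero hdd (inv_ne_zero hc), ?_⟩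
    rw [ht, hk, htail, Matrix.mulVec_smul, hback, smul_smul, smul_smul]
    congr 1; ring
  constructor
  · intro d' hd'
    obtain ⟨α, v, hv, e⟩ := ((X.base_fib hd0 _).1).1 ((hm d').1 hd')
    obtain ⟨k, hk, hkπ⟩ := (X.base_fib hd0 d).2 v α hv
    rw [← e] at hk
    obtain ⟨u, h1, h2, w, -, h3⟩ := trans k α d' hkπ hk
    exact ⟨u, h1, h2, _, h3⟩
  · intro α
    have hl := X.mk_KK (inv_mem hg)
    obtain ⟨k, hkπ⟩ := D.π_surj ![0, 0, 1, 1, 0, 0]
    set u1 : Q := MulAut.conjNormal (⟨g⁻¹, inv_mem hg.2⟩ : HH) k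
    obtain ⟨-, dd, hdd, ht⟩ := X.tail_conj (inv_mem hg) (q := k) (q' := u1) (by rw [hkπ]; rfl) rfl
    rw [hkπ, htail, one_smul, hback, smul_smul] at ht
    set w := dd * c⁻¹
    have hw : w ≠ 0 := mul_ne_zero hdd (inv_ne_zero hc)
    obtain ⟨v', hv'⟩ := D.π_surj ![0, 0, α * w⁻¹, 0, 0, 0]
    obtain ⟨k', hk', hk'π⟩ := (X.base_fib hd0 d).2 v' _ hv'
    set u : Q := MulAut.conjNormal (⟨g⁻¹, inv_mem hg.2⟩ : HH) k'
    obtain ⟨hb, -⟩ := X.tail_conj (inv_mem hg) (q := k') (q' := u) (by rw [hk'π]; rfl) rfl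
    have hlin : D.π u = (α * w⁻¹) • D.π u1 := by
      rw [D.act, D.act, hk'π, hkπ]
      refine Eq.trans (congrArg _ ?_) (D.T.semilinear (D.T.lin hl.2) _ _)
      funext i; fin_cases i <;> simp
    refine ⟨g⁻¹ * (val v' * (g * d * g⁻¹) * (val v')⁻¹) * g, ?_, u, ?_, hb, ?_⟩
    · refine (hm _).2 ?_
      rw [show g * (g⁻¹ * (val v' * (g * d * g⁻¹) * (val v')⁻¹) * g) * g⁻¹ =
        val v' * (g * d * g⁻¹) * (val v')⁻¹ by group]
      exact ((X.base_fib hd0 _).1).2 ⟨_, v', hv', rfl⟩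
    · show _ = g⁻¹ * val k' * g⁻¹⁻¹
      rw [← hk']; group
    · rw [hlin, show tail ((α * w⁻¹) • D.π u1) = (α * w⁻¹) • tail (D.π u1) from rfl, ht, smul_smul,
        mul_assoc, inv_mul_cancel₀ hw, mul_one]

end Ctx

end CfsgLib.FiLarge.U62
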