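import Cfsg.Agent.FiLarge.U62.Search
import Cfsg.Agent.Unitary.Simple
import Cfsg.Prelude.Def_CaseTheorems
import Mathlib.GroupTheory.IsPerfect

/-!
The centraliser of the four-group is quasisimple over the six-dimensional unitary group.
-/

set_option autoImplicit false
set_option quotPrecheck false
set_option maxRecDepth 100000
set_option linter.style.haveILetI false
set_option linter.unusedSectionVars false

namespace CfsgLib.FiLarge.U62

open CfsgLib Subgroup CfsgLib.FiLarge.Thom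
open CfsgLib.FiLarge.Dat (val)

variable {G : Type*} [Group G] [Finite G] {z : G} {Q : Subgroup (centralizer ({z} : Set G))} [Q.Normal]
  {D : Dat z Q}

open scoped commutatorElement

namespace Ctx

variable (X : Ctx D)

theorem elementary : Cfsg.IsElementaryAbelian 2 X.E :=
  ⟨⟨⟨fun a b => Subtype.ext (X.comm (X.E_le_A0 a.2) (X.E_le_A0 b.2)).eq⟩⟩,
    fun a ha => by rw [pow_two]; exact X.sq (X.E_le_A0 ha)⟩

theorem exists_t : ∃ t ∈ X.E, orderOf t = 2 ∧ ¬ IsConj z t := by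
  have h1 : X.L.lab ptA ptB ≠ 1 := ((mem_nS D).1 (X.L.mem _ _ abc_ne.1)).2.1
  exact ⟨_, X.ab_E, orderOf_eq_prime (by rw [pow_two]; exact X.lab_mul_self _ _) h1, X.not_z X.ab_E h1⟩

theorem C_eq : X.C = X.Y ⊔ X.E := by
  refine le_antisymm (fun g hg => ?_) (sup_le X.Y_le_C X.E_le_C)
  obtain ⟨h, hh, e⟩ := X.Om_class z X.z_Om _ (X.C_Om hg X.z_Om)
  have hgK : h⁻¹ * g ∈ X.KK := X.mem_KK.2 ⟨mul_mem (inv_mem (X.Y_le_C hh)) hg, mul_inv_eq_iff_eq_mul.1 (by
    rw [show h⁻¹ * g * z * (h⁻¹ * g)⁻¹ = h⁻¹ * (g * z * g⁻¹) * h by group, ← e]; group)⟩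
  rw [show g = h * (h⁻¹ * g) by group]
  exact mul_mem (mem_sup_left hh) (X.KK_le hgK)

theorem normal_E : (X.E.subgroupOf X.C).Normal :=
  ⟨fun n hn k => mem_subgroupOf.2 (by
    show (k : G) * (n : G) * (k : G)⁻¹ ∈ X.E
    rw [X.conj_fix_E k.2 (mem_subgroupOf.1 hn)]
    exact mem_subgroupOf.1 hn)⟩

theorem center_C : Subgroup.center ↥X.C = X.E.subgroupOf X.C := by
  ext g
  constructor
  · intro h
    refine mem_subgroupOf.2 (X.fix_Om g.2 fun x hx => ?_)
    exact (congrArg Subtype.val (mem_center_iff.1 h ⟨x, X.DD_C hx.1⟩)).symm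
  · intro h
    exact mem_center_iff.2 fun k => Subtype.ext (X.C_comm k.2 (mem_subgroupOf.1 h)).eq

theorem exists_iso : ∃ (_ : (X.E.subgroupOf X.C).Normal) (K : Type) (_ : Field K) (_ : Fintype K),
    Fintype.card K = 4 ∧ Nonempty (↥X.C ⧸ X.E.subgroupOf X.C ≃* Cfsg.PSU 6 K 2) := by
  classical
  haveI hn := X.normal_E
  obtain ⟨K, _, _, hK, ⟨e⟩⟩ := X.exists_model
  let φ : ↥X.Y →* ↥X.C ⧸ X.E.subgroupOf X.C :=
    (QuotientGroup.mk' (X.E.subgroupOf X.C)).comp (Subgroup.inclusion X.Y_le_C)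
  have hsurj : Function.Surjective φ := by
    intro q
    obtain ⟨k, rfl⟩ := QuotientGroup.mk'_surjective _ q
    have hnorm : X.Y ≤ normalizer (X.E : Set G) := fun g hg => mem_normalizer_iff.2 fun s =>
      ⟨fun hs => by rw [X.conj_fix_E (X.Y_le_C hg) hs]; exact hs, fun hs => by
        have h := X.conj_fix_E (inv_mem (X.Y_le_C hg)) hs
        rw [show g⁻¹ * (g * s * g⁻¹) * g⁻¹⁻¹ = s by group] at h
        exact h.symm ▸ hs⟩
    obtain ⟨a, ha, s, hs, has⟩ := (Solvable.mem_sup_of_le_normalizer hnorm).1 (X.C_eq.le k.2)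
    refine ⟨⟨a, ha⟩, QuotientGroup.eq.2 (mem_subgroupOf.2 ?_)⟩
    show a⁻¹ * (k : G) ∈ X.E
    rwa [← has, inv_mul_cancel_left]
  have hker : φ.ker = Subgroup.center ↥X.Y := by
    ext g
    simp only [φ, MonoidHom.mem_ker, MonoidHom.comp_apply, QuotientGroup.mk'_apply, QuotientGroup.eq_one_iff,
      mem_subgroupOf, Subgroup.coe_inclusion]
    constructor
    · intro h
      exact mem_center_iff.2 fun k => Subtype.ext (X.C_comm (X.Y_le_C k.2) h).eq
    · intro h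
      exact X.center_Y g.2 fun k hk => (congrArg Subtype.val (mem_center_iff.1 h ⟨k, hk⟩)).symm
  exact ⟨hn, K, _, _, hK, ⟨((QuotientGroup.quotientKerEquivOfSurjective φ hsurj).symm.trans
    (QuotientGroup.quotientMulEquivOfEq hker)).trans e⟩⟩

theorem quasisimple : Cfsg.IsQuasisimple ↥X.C := by
  classical
  obtain ⟨hn, K, _, _, hK, ⟨e⟩⟩ := X.exists_iso
  have hF : Nat.card K = 2 ^ 2 := by rw [Nat.card_eq_fintype_card, hK]; norm_num
  haveI hS : IsSimpleGroup (Cfsg.PSU 6 K 2) := Unitary.isSimpleGroup_PSU hF (by norm_num) (by omega)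
  haveI : Nontrivial (↥X.C ⧸ X.E.subgroupOf X.C) := e.toEquiv.nontrivial
  haveI : Nontrivial (↥X.C ⧸ Subgroup.center ↥X.C) := (QuotientGroup.quotientMulEquivOfEq X.center_C).toEquiv.nontrivial
  haveI : IsSimpleGroup (↥X.C ⧸ X.E.subgroupOf X.C) := IsSimpleGroup.isSimpleGroup_of_surjective e.symm.toMonoidHom e.symm.surjective
  refine ⟨⟨?_⟩, IsSimpleGroup.isSimpleGroup_of_surjective
    (QuotientGroup.quotientMulEquivOfEq X.center_C.symm).toMonoidHom (MulEquiv.surjective _)⟩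
  have hpair : ∀ x y, IsPoint x → IsPoint y → X.dX x * X.dX y ∈ (commutator ↥X.C).map X.C.subtype := by
    intro x y hx hy
    obtain ⟨m, hm, -, he⟩ := X.exists_move hy hx
    refine ⟨⁅(⟨m, hm⟩ : ↥X.C), ⟨X.dX y, X.A0_le_C (X.dX_A0 y)⟩⁆,
      commutator_mem_commutator (mem_top _) (mem_top _), ?_⟩
    show m * X.dX y * m⁻¹ * (X.dX y)⁻¹ = _
    rw [he, inv_eq_of_mul_eq_one_right (X.dX_sq y)]
  have hE : X.E.subgroupOf X.C ≤ commutator ↥X.C := fun s hs => by
    obtain ⟨s', hs', es⟩ := X.E_gen hpair (mem_subgroupOf.1 hs)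
    exact (Subtype.ext es : s' = s) ▸ hs'
  rcases Normal.eq_bot_or_eq_top (inferInstance :
      ((commutator ↥X.C).map (QuotientGroup.mk' (X.E.subgroupOf X.C))).Normal) with h | h
  · exfalso
    obtain ⟨x, hx, y, hy, hxy⟩ : ∃ x, IsPoint x ∧ ∃ y, IsPoint y ∧ x ≠ y :=
      ⟨_, pt_three.1, _, (pt_three.2 18 (by simp)).1, (pt_three.2 18 (by simp)).2⟩
    obtain ⟨c, hc, ec⟩ := hpair x y hx hy
    have h1 : QuotientGroup.mk' (X.E.subgroupOf X.C) c ∈
        (commutator ↥X.C).map (QuotientGroup.mk' (X.E.subgroupOf X.C)) := mem_map_of_mem _ hc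
    rw [h, mem_bot, QuotientGroup.mk'_apply, QuotientGroup.eq_one_iff, mem_subgroupOf] at h1
    exact X.pair_ne_E hx hy hxy h1 (by rw [← ec]; rfl)
  · refine eq_top_iff.2 fun g _ => ?_
    obtain ⟨c, hc, ec⟩ : QuotientGroup.mk' (X.E.subgroupOf X.C) g ∈
        (commutator ↥X.C).map (QuotientGroup.mk' (X.E.subgroupOf X.C)) := h ▸ mem_top _
    rw [show g = c * (c⁻¹ * g) by group]
    exact mul_mem hc (hE (QuotientGroup.eq.1 ec))

end Ctx

/-- The four-group of a group of large Fischer type. -/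
theorem exists_four_group {G : Type*} [Group G] [Finite G] (z : G)
    (Q : Subgroup (centralizer ({z} : Set G))) [Q.Normal] (hF : Cfsg.IsOfLargeFischerTypeAt z Q) :
    ∃ E : Subgroup G, E ≤ Q.map (centralizer ({z} : Set G)).subtype ∧ Cfsg.IsElementaryAbelian 2 E ∧
      Nat.card E = 4 ∧ z ∉ E ∧ (∃ t ∈ E, orderOf t = 2 ∧ ¬ IsConj z t) ∧
      Cfsg.IsQuasisimple ↥(centralizer (E : Set G)) ∧
      ∃ (_ : (E.subgroupOf (centralizer (E : Set G))).Normal) (K : Type) (_ : Field K) (_ : Fintype K),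
        Fintype.card K = 4 ∧
        Nonempty (↥(centralizer (E : Set G)) ⧸ E.subgroupOf (centralizer (E : Set G)) ≃* Cfsg.PSU 6 K 2) := by
  obtain ⟨D, ⟨X⟩⟩ := exists_ctx hF
  exact ⟨X.E, X.E_le_Q, X.elementary, X.card_E, X.z_notMem, X.exists_t, X.quasisimple, X.exists_iso⟩

end CfsgLib.FiLarge.U62
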