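import Cfsg.Agent.FiLarge.U62.Component
import Cfsg.Agent.Fischer.Start
import Cfsg.Agent.Fischer.UniCount
import Cfsg.Agent.Fischer.UniLocal
import Cfsg.Agent.Fischer.ModelsUnitary
import Cfsg.Agent.Solvable.Basics
import Cfsg.Agent.Unitary.Special

/-!
The group generated by the component: its quotient by the centre is the six-dimensional unitary group, and it
covers the part commuting with the centre.
-/

set_option autoImplicit false
set_option quotPrecheck false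
set_option maxRecDepth 100000
set_option linter.style.haveILetI false
set_option linter.unusedSectionVars false

open scoped Matrix

namespace CfsgLib.FiLarge.U62

open CfsgLib Subgroup Matrix CfsgLib.Unitary CfsgLib.FiLarge.Thom
open CfsgLib.FiLarge.Dat (val)

theorem span_four : ∀ a b : F4, ∃ α β : F4, α + β = a ∧ α + β * om = b := by decide +kernel

theorem line_pts : IsPt4 ![1, 1, 0, 0] ∧ IsPt4 ![1, om, 0, 0] ∧ IsPt4 ![0, 0, 1, 1] ∧ IsPt4 ![0, 0, 1, om] := by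
  decide +kernel

theorem perp_line_pts : ∀ v : V4, h4 v ![1, 1, 0, 0] = 0 → h4 v ![1, om, 0, 0] = 0 → h4 v ![0, 0, 1, 1] = 0 →
    h4 v ![0, 0, 1, om] = 0 → v = 0 := by
  decide +kernel

theorem four_sum : ∀ a b c d α β γ δ : F4, α + β = a → α + β * om = b → γ + δ = c → γ + δ * om = d →
    (![a, b, c, d] : V4) = α • ![1, 1, 0, 0] + β • ![1, om, 0, 0] + γ • ![0, 0, 1, 1] + δ • ![0, 0, 1, om] := by
  rintro a b c d α β γ δ rfl rfl rfl rfl
  funext i
  fin_cases i <;> simp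

variable {G : Type*} [Group G] [Finite G] {z : G} {Q : Subgroup (centralizer ({z} : Set G))} [Q.Normal]
  {D : Dat z Q}

local notation "HH" => centralizer ({z} : Set G)

namespace Ctx

variable (X : Ctx D)

/-- The neighbours of the centre. -/
abbrev S1 : Set G := ThreeT.Prod.nb X.Om z

/-- The group generated by the component. -/
abbrev Y : Subgroup G := closure X.Om

theorem Om_le_Y : X.Om ⊆ X.Y := subset_closure

theorem z_Y : z ∈ X.Y := subset_closure X.z_Om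

theorem Y_le_C : X.Y ≤ X.C := (closure_le _).2 fun _ h => X.DD_C h.1

theorem fib_S1 {p : V4} (hp : IsPt4 p) {d : G} (hd : d ∈ X.fib p) : d ∈ X.S1 := by
  rw [S1, X.nb_z]; exact ⟨p, hp, hd⟩

theorem S1_KK {d : G} (hd : d ∈ X.S1) : d ∈ X.KK := X.KK_DD hd.1.1 hd.2.2.symm

theorem closure_S1_KK : closure X.S1 ≤ X.KK := (closure_le _).2 fun _ h => X.S1_KK h

theorem closure_S1_Y : closure X.S1 ≤ X.Y := closure_mono fun _ h => h.1

/-- The neighbours of the centre generate the unitary group. -/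
theorem ph_closure_S1 (u : Cfsg.SU 4 F4 2) : ∃ g ∈ closure X.S1, X.ph g = u := by
  let T : Subgroup (Cfsg.SU 4 F4 2) :=
    { carrier := {u | ∃ g ∈ closure X.S1, X.ph g = u}
      one_mem' := ⟨1, one_mem _, X.ph_one⟩
      mul_mem' := fun {a b} ha hb => by
        obtain ⟨g, hg, rfl⟩ := ha
        obtain ⟨k, hk, rfl⟩ := hb
        exact ⟨g * k, mul_mem hg hk, X.ph_mul (X.closure_S1_KK hg) (X.closure_S1_KK hk)⟩
      inv_mem' := fun {a} ha => by
        obtain ⟨g, hg, rfl⟩ := ha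
        exact ⟨g⁻¹, inv_mem hg, X.ph_inv (X.closure_S1_KK hg)⟩ }
  have h : T = ⊤ := by
    rw [eq_top_iff, ← closure_tvp, closure_le]
    rintro _ ⟨p, hp, rfl⟩
    obtain ⟨d, hd⟩ := X.fib_nonempty hp
    exact ⟨d, subset_closure (X.fib_S1 hp hd), hd.2.2⟩
  exact (h ▸ mem_top u : u ∈ T)

/-- Every tail occurs in the group generated by the neighbours. -/
theorem tail_closure_S1 (v : V4) :
    ∃ u : Q, val u ∈ closure X.S1 ∧ D.π u 0 = D.π u 1 ∧ tail (D.π u) = v := by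
  have line : ∀ p, IsPt4 p → ∀ α : F4, ∃ u : Q, val u ∈ closure X.S1 ∧ D.π u 0 = D.π u 1 ∧
      tail (D.π u) = α • p := by
    intro p hp α
    obtain ⟨d, hd⟩ := X.fib_nonempty hp
    obtain ⟨d', hd', u, hu, hb, ht⟩ := (X.fib_diff hp hd).2 α
    exact ⟨u, hu ▸ mul_mem (subset_closure (X.fib_S1 hp hd)) (subset_closure (X.fib_S1 hp hd')), hb, ht⟩
  obtain ⟨l1, l2, l3, l4⟩ := line_pts
  obtain ⟨α, β, h1, h2⟩ := span_four (v 0) (v 1)
  obtain ⟨γ, δ, h3, h4'⟩ := span_four (v 2) (v 3)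
  obtain ⟨a, a1, a2, a3⟩ := line _ l1 α
  obtain ⟨b, b1, b2, b3⟩ := line _ l2 β
  obtain ⟨c, c1, c2, c3⟩ := line _ l3 γ
  obtain ⟨d, d1, d2, d3⟩ := line _ l4 δ
  refine ⟨a * b * c * d, mul_mem (mul_mem (mul_mem a1 b1) c1) d1, ?_, ?_⟩
  · simp only [D.π_mul, Pi.add_apply, a2, b2, c2, d2]
  · rw [D.π_mul, D.π_mul, D.π_mul, tail_add, tail_add, tail_add, a3, b3, c3, d3,
      ← four_sum _ _ _ _ α β γ δ h1 h2 h3 h4', v4_eta]

/-- Balanced elements without a tail. -/
theorem tail_zero {q : Q} (hb : D.π q 0 = D.π q 1) (ht : tail (D.π q) = 0) :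
    val q ∈ X.E ∨ val q * z ∈ X.E := by
  have hπ : D.π q = D.π q 0 • v2 := by
    funext i
    fin_cases i
    · simp [v2, nf]
    · simp [v2, nf, hb]
    all_goals simp [v2, nf]
    exacts [congrFun ht 0, congrFun ht 1, congrFun ht 2, congrFun ht 3]
  obtain ⟨s, hs, hsπ⟩ : ∃ s : Q, val s ∈ X.E ∧ D.π s = D.π q 0 • v2 := by
    rcases (by decide +kernel : ∀ c : F4, c = 0 ∨ c = 1 ∨ c = om ∨ c = 1 + om) (D.π q 0) with e | e | e | e <;>
      rw [e]
    · exact ⟨1, one_mem _, by rw [π_one D, zero_smul]⟩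
    · exact ⟨X.qa, X.ea ▸ X.ab_E, by rw [X.πa, one_smul]⟩
    · exact ⟨X.qb, X.eb ▸ X.bc_E, X.πb⟩
    · refine ⟨X.qa * X.qb, ?_, by rw [D.π_mul, X.πa, X.πb, add_smul, one_smul]⟩
      show val X.qa * val X.qb ∈ X.E
      rw [X.ea, X.eb, X.L.trans]; exact X.ac_E
  rcases D.eq_of_π (hsπ.trans hπ.symm) with e | e
  · exact Or.inl (e ▸ hs)
  · exact Or.inr (by rwa [e, mul_assoc, z_sq D, mul_one])

theorem KK_le : X.KK ≤ X.Y ⊔ X.E := by
  intro g hg
  have hY : closure X.S1 ≤ X.Y ⊔ X.E := X.closure_S1_Y.trans le_sup_left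
  obtain ⟨h, hh, eh⟩ := X.ph_closure_S1 (X.ph g)
  have hhK := X.closure_S1_KK hh
  obtain ⟨q, hq⟩ := (X.ph_eq_one (mul_mem (inv_mem hhK) hg)).1
    (by rw [X.ph_mul (inv_mem hhK) hg, X.ph_inv hhK, eh, inv_mul_cancel])
  have hb := X.val_KK.1 (hq ▸ mul_mem (inv_mem hhK) hg : val q ∈ X.KK)
  obtain ⟨u, hu, hub, hut⟩ := X.tail_closure_S1 (tail (D.π q))
  have hzE : val (u⁻¹ * q) ∈ X.Y ⊔ X.E := by
    rcases X.tail_zero (q := u⁻¹ * q) (by simp only [D.π_mul, π_inv D, Pi.add_apply, hb, hub])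
      (by rw [D.π_mul, π_inv D, tail_add, hut, v4_self]) with e | e
    · exact mem_sup_right e
    · rw [show val (u⁻¹ * q) = val (u⁻¹ * q) * z * z by rw [mul_assoc, z_sq D, mul_one]]
      exact mul_mem (mem_sup_right e) (mem_sup_left X.z_Y)
  have e : g = h * val u * val (u⁻¹ * q) := by
    rw [show val (u⁻¹ * q) = (val u)⁻¹ * val q from rfl, hq]; group
  rw [e]
  exact mul_mem (mul_mem (hY hh) (hY hu)) hzE

theorem exists_far : ∃ d ∈ X.Om, ¬ Commute z d := by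
  by_contra h
  push Not at h
  obtain ⟨a, ha⟩ := X.fib_nonempty p0_pt
  obtain ⟨g, hg, e⟩ := X.Om_class z X.z_Om a (X.fib_S1 p0_pt ha).1
  have hc : Commute g z := ThreeT.Prod.commute_of_closure (fun y hy => (h y hy).symm) g hg
  exact X.fib_ne_z p0_pt ha (by rw [← e, hc.eq, mul_inv_cancel_right])

/-- Elements of the centraliser fixing the component lie in the four-group. -/
theorem fix_Om {g : G} (hg : g ∈ X.C) (h : ∀ x ∈ X.Om, Commute g x) : g ∈ X.E := by
  have hK : g ∈ X.KK := X.mem_KK.2 ⟨hg, h z X.z_Om⟩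
  have hcen : X.ph g ∈ Subgroup.center (Cfsg.SU 4 F4 2) := by
    refine mem_center_iff.2 fun u => ?_
    obtain ⟨k, hk, rfl⟩ := X.ph_closure_S1 u
    exact (X.ph_commute (X.closure_S1_KK hk) hK
      (ThreeT.Prod.commute_of_closure (fun y hy => (h y hy.1).symm) k hk)).eq
  have h1 : Subgroup.center (Cfsg.SU 4 F4 2) = ⊥ :=
    eq_bot_of_card_eq _ (by rw [card_center_SU F4_natcard (by norm_num)]; rfl)
  rw [h1, mem_bot] at hcen
  obtain ⟨q, rfl⟩ := (X.ph_eq_one hK).1 hcen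
  have hb := X.val_KK.1 hK
  have hperp : ∀ p, IsPt4 p → h4 (tail (D.π q)) p = 0 := by
    intro p hp
    obtain ⟨d, hd⟩ := X.fib_nonempty hp
    have hcd : Commute (val q) d := h d (X.fib_S1 hp hd).1
    obtain ⟨-, c, hc, ht⟩ := X.tail_conj hd.2.1 hb (q' := q) (by rw [hcd.symm.eq, mul_inv_cancel_right])
    rw [hd.2.2, tvp_apply hp] at ht
    generalize tail (D.π q) = v at ht ⊢
    have h2 := congrArg (fun x => h4 x p) ht
    simp only [h4_smul_left, h4_add_left, hp.2, mul_zero, add_zero] at h2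
    by_contra hne
    have hc1 : c = 1 := mul_right_cancel₀ hne (by rw [one_mul]; exact h2.symm)
    rw [hc1, one_smul, eq_comm, add_eq_left, smul_eq_zero] at ht
    exact ht.elim hne hp.1
  obtain ⟨l1, l2, l3, l4⟩ := line_pts
  have ht := perp_line_pts _ (hperp _ l1) (hperp _ l2) (hperp _ l3) (hperp _ l4)
  refine (X.tail_zero hb ht).resolve_right fun e => ?_
  obtain ⟨d, hd, hcd⟩ := X.exists_far
  refine hcd ?_
  have := (h d hd).inv_left.mul_left (X.C_comm (X.DD_C hd.1) e).symm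
  rwa [← mul_assoc, inv_mul_cancel, one_mul] at this

theorem center_Y {g : G} (hg : g ∈ X.Y) (h : ∀ k ∈ X.Y, Commute g k) : g ∈ X.E :=
  X.fix_Om (X.Y_le_C hg) fun x hx => h x (subset_closure hx)

theorem qimg_fi : Fischer.Fi (Fischer.qimg X.Om) :=
  Fischer.fi_quot X.Om_closed X.Om_noTwins X.Om_conn X.Om_class X.Om_edge

theorem qnb_card : (ThreeT.Prod.nb (Fischer.qimg X.Om) (Fischer.qmap X.Om z)).ncard = 180 := by
  rw [← ((Fischer.SIso.qmap X.Om_closed X.Om_noTwins).nb X.z_Om).bij.ncard_eq, X.nb_card]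

/-- The neighbourhood has a non-central two-core. -/
theorem qnb_core : ¬ Cfsg.pCore 2 ↥(closure (ThreeT.Prod.nb (Fischer.qimg X.Om) (Fischer.qmap X.Om z))) ≤
    Subgroup.center ↥(closure (ThreeT.Prod.nb (Fischer.qimg X.Om) (Fischer.qmap X.Om z))) := by
  intro hle
  set π := QuotientGroup.mk' (Subgroup.center ↥X.Y)
  set T : Set ↥X.Y := {x | (x : G) ∈ X.S1}
  have hnb : ThreeT.Prod.nb (Fischer.qimg X.Om) (Fischer.qmap X.Om z) = π '' T := by
    rw [← ((Fischer.SIso.qmap X.Om_closed X.Om_noTwins).nb X.z_Om).bij.image_eq]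
    ext q
    constructor
    · rintro ⟨x, hx, rfl⟩
      exact ⟨⟨x, subset_closure hx.1⟩, hx, (Fischer.qmap_eq hx.1).symm⟩
    · rintro ⟨x, hx, rfl⟩
      exact ⟨x, hx, Fischer.qmap_eq hx.1⟩
  set W := closure (ThreeT.Prod.nb (Fischer.qimg X.Om) (Fischer.qmap X.Om z))
  have hW : W = (closure T).map π := by rw [MonoidHom.map_closure, ← hnb]
  have hT : ∀ w ∈ closure T, (w : G) ∈ closure X.S1 := fun w hw => by
    have := mem_map_of_mem X.Y.subtype hw
    rw [MonoidHom.map_closure] at this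
    exact closure_mono (by rintro _ ⟨x, hx, rfl⟩; exact hx) this
  set N : Subgroup ↥W := (((Q.map (Subgroup.subtype HH)).subgroupOf X.Y ⊓ closure T).map π).subgroupOf W
  have hN : N.Normal := by
    refine ⟨fun n hn w => ?_⟩
    obtain ⟨m, ⟨hmQ, hmT⟩, em⟩ := mem_subgroupOf.1 hn
    obtain ⟨w0, hw0, ew⟩ : (w : Fischer.QG X.Om) ∈ (closure T).map π := hW ▸ w.2
    refine mem_subgroupOf.2 ⟨w0 * m * w0⁻¹, ⟨?_, (show w0 * m * w0⁻¹ ∈ closure T from mul_mem (mul_mem hw0 hmT) (inv_mem hw0))⟩, ?_⟩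
    · obtain ⟨q, hq, eq⟩ := mem_subgroupOf.1 hmQ
      let c : HH := ⟨(w0 : G), (X.closure_S1_KK (hT _ hw0)).2⟩
      refine mem_subgroupOf.2 ⟨c * q * c⁻¹, Normal.conj_mem inferInstance q hq c, ?_⟩
      simp [c, ← eq]
    · simp [← em, ← ew]
  have hp : IsPGroup 2 N := by
    intro n
    obtain ⟨m, ⟨hmQ, -⟩, em⟩ := mem_subgroupOf.1 n.2
    obtain ⟨q, hq, eq⟩ := mem_subgroupOf.1 hmQ
    obtain ⟨k, hk⟩ := IsPGroup.of_card D.cardQ ⟨q, hq⟩
    refine ⟨k, Subtype.ext (Subtype.ext ?_)⟩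
    have hq1 : q ^ 2 ^ k = 1 := by simpa using congrArg Subtype.val hk
    have hm1 : m ^ 2 ^ k = 1 := Subtype.ext (by
      simp only [SubgroupClass.coe_pow, coe_one, ← eq, ← map_pow, hq1, map_one])
    simp only [SubgroupClass.coe_pow, coe_one, ← em, ← map_pow, hm1, map_one]
  -- the element
  obtain ⟨a, ha⟩ := X.fib_nonempty p0_pt
  obtain ⟨a', ha', u, hu, -, hut⟩ := (X.fib_diff p0_pt ha).2 1
  have hne : a ≠ a' := by
    rintro rfl
    have h0 : tail (D.π u) = 0 := by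
      rw [show u = 1 from Subtype.ext (Subtype.ext (hu.symm.trans (X.DD_sq ha.1))), π_one D]; rfl
    rw [h0, one_smul] at hut
    exact p0_pt.1 hut.symm
  obtain ⟨r, hr, hr1, -⟩ := exists_apart p0_pt p0_pt
  obtain ⟨v, hv⟩ := X.fib_nonempty hr
  have haS := X.fib_S1 p0_pt ha
  have ha'S := X.fib_S1 p0_pt ha'
  have hvS := X.fib_S1 hr hv
  let t : ↥X.Y := ⟨a, subset_closure haS.1⟩ * ⟨a', subset_closure ha'S.1⟩
  have htT : t ∈ closure T := mul_mem (subset_closure (show _ ∈ T from haS)) (subset_closure (show _ ∈ T from ha'S))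
  have htQ : t ∈ (Q.map (Subgroup.subtype HH)).subgroupOf X.Y :=
    mem_subgroupOf.2 (by show a * a' ∈ _; rw [hu]; exact mem_map_of_mem _ u.2)
  have htW : π t ∈ W := hW ▸ mem_map_of_mem π htT
  have hvW : Fischer.qmap X.Om v ∈ W :=
    subset_closure (((Fischer.SIso.qmap X.Om_closed X.Om_noTwins).nb X.z_Om).bij.mapsTo hvS)
  have hcen : (⟨π t, htW⟩ : ↥W) ∈ Subgroup.center ↥W :=
    hle (Solvable.le_pCore 2 hN hp (mem_subgroupOf.2 ⟨t, ⟨htQ, htT⟩, rfl⟩))
  have hcom : Commute (π t) (Fischer.qmap X.Om v) :=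
    (congrArg Subtype.val (mem_center_iff.1 hcen ⟨_, hvW⟩)).symm
  have f := Fischer.SIso.qmap X.Om_closed X.Om_noTwins
  rw [show π t = Fischer.qmap X.Om a * Fischer.qmap X.Om a' by
    rw [Fischer.qmap_eq haS.1, Fischer.qmap_eq ha'S.1, ← map_mul]] at hcom
  have h2 := ((ThreeT.commute_mul_iff X.qimg_fi.cls.1 (f.bij.mapsTo haS.1) (f.bij.mapsTo ha'S.1)
    (f.bij.mapsTo hvS.1) ((f.com a haS.1 a' ha'S.1).2 ((X.fib_comm p0_pt p0_pt ha ha').2 p0_pt.2))
    fun e => hne (f.bij.injOn haS.1 ha'S.1 e)).1 hcom).1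
  exact hr1 (h4_zero_iff.1 ((X.fib_comm p0_pt hr ha hv).1 ((f.com a haS.1 v hvS.1).1 h2)))

/-- The quotient is the six-dimensional unitary group. -/
theorem exists_model : ∃ (K : Type) (_ : Field K) (_ : Fintype K), Fintype.card K = 4 ∧
    Nonempty (Fischer.QG X.Om ≃* Cfsg.PSU 6 K 2) := by
  classical
  have hfi := X.qimg_fi
  have f := Fischer.SIso.qmap X.Om_closed X.Om_noTwins
  set q := Fischer.qmap X.Om z
  have hq : q ∈ Fischer.qimg X.Om := f.bij.mapsTo X.z_Om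
  have hcount : {x | x ∈ Fischer.qimg X.Om ∧ Commute x q}.ncard = 181 := by
    rw [show {x | x ∈ Fischer.qimg X.Om ∧ Commute x q} = insert q (ThreeT.Prod.nb (Fischer.qimg X.Om) q) by
      ext x
      constructor
      · intro h
        by_cases e : x = q
        · exact Or.inl e
        · exact Or.inr ⟨h.1, e, h.2.symm⟩
      · rintro (rfl | h)
        · exact ⟨hq, Commute.refl _⟩
        · exact ⟨h.1, h.2.2.symm⟩]
    rw [Set.ncard_insert_of_notMem (fun h => h.2.1 rfl), X.qnb_card]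
  rcases Fischer.start_tv hfi hq X.qnb_core with ⟨m, -, φ, hφ⟩ | ⟨n, hn, K, _, _, hK, φ, hφ⟩
  · exfalso
    set δ := φ q
    let P : AddSubgroup (Fin m ⊕ Fin m → ZMod 2) := (Fischer.sform m δ).toAddMonoidHom.ker
    have hbij : Set.BijOn φ {x | x ∈ Fischer.qimg X.Om ∧ Commute x q} ((P : Set _) \ {0}) := by
      refine ⟨fun x hx => ⟨?_, hφ.bij.mapsTo hx.1⟩, hφ.bij.injOn.mono fun x hx => hx.1, ?_⟩
      · exact (hφ.commute_iff hfi.closed hq hx.1).1 hx.2.symm
      · rintro v ⟨hv, hv0⟩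
        obtain ⟨x, hx, rfl⟩ := hφ.bij.surjOn (show v ∈ {v | v ≠ 0} from hv0)
        exact ⟨x, ⟨hx, ((hφ.commute_iff hfi.closed hq hx).2 hv).symm⟩, rfl⟩
    have h182 : Nat.card P = 182 := by
      have h : (P : Set (Fin m ⊕ Fin m → ZMod 2)).ncard = 182 := by
        rw [← Set.ncard_diff_singleton_add_one (show (0 : Fin m ⊕ Fin m → ZMod 2) ∈ (P : Set (Fin m ⊕ Fin m → ZMod 2)) from zero_mem P),
          ← hbij.ncard_eq, hcount]
      rw [← h]; exact Nat.card_coe_set_eq _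
    have hd : 182 ∣ 2 ^ (m + m) := by
      have := AddSubgroup.card_addSubgroup_dvd_card P
      rwa [h182, Nat.card_eq_fintype_card, Fintype.card_fun, Fintype.card_sum, ZMod.card, Fintype.card_fin] at this
    have := (Nat.prime_seven).dvd_of_dvd_pow ((show 7 ∣ 182 by norm_num).trans hd)
    norm_num at this
  · obtain ⟨W⟩ := ThreeT.Tv.exists_wt hK
    obtain ⟨m, rfl⟩ : ∃ m, n = m + 2 := ⟨n - 2, by omega⟩
    have h1 := hφ.ncard_perp W (m := m) rfl (hφ.nz q hq) (hφ.iso q hq)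
    rw [show {x | x ∈ Fischer.qimg X.Om ∧ Cfsg.hermForm (m + 2) K 2 (φ x) (φ q) = 0} =
        {x | x ∈ Fischer.qimg X.Om ∧ Commute x q} by
      ext x
      exact and_congr_right fun hx => (hφ.com_iff W hfi.closed hx hq).symm, hcount] at h1
    have h3 := numLen_zero (Fischer.wt_card W) m
    rw [show numLen K 2 m 0 = 136 by omega] at h3
    push_cast at h3
    obtain rfl : m = 4 := by
      rcases Nat.lt_or_ge m 5 with h | h
      · interval_cases m <;> norm_num at h3 <;> rfl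
      · exfalso
        have h5 : (32 : ℤ) ≤ 2 ^ m := by
          have := pow_le_pow_right₀ (one_le_two (α := ℤ)) h
          norm_num at this; exact this
        rcases neg_one_pow_eq_or ℤ m with e | e <;> rw [e] at h3 <;> nlinarith [h3, h5]
    obtain ⟨e, -⟩ := Fischer.uni_model hK (n := 4 + 2) (by norm_num) hfi.cls hfi.center ⟨q, hq⟩ hφ
    exact ⟨K, _, _, hK, ⟨e⟩⟩

end Ctx

end CfsgLib.FiLarge.U62
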