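import Cfsg.Agent.FiLarge.U62.Fibre

/-!
The geometry seen from a member of the class: lines, the transposition property and the one-or-all property.
-/

set_option autoImplicit false
set_option quotPrecheck false
set_option maxRecDepth 100000
set_option linter.style.haveILetI false
set_option linter.unusedSectionVars false

open scoped Matrix

namespace CfsgLib.FiLarge.U62

open CfsgLib Subgroup Matrix CfsgLib.Unitary CfsgLib.FiLarge.Thom
open CfsgLib.FiLarge.Dat (val)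

variable {G : Type*} [Group G] [Finite G] {z : G} {Q : Subgroup (centralizer ({z} : Set G))} [Q.Normal]
  {D : Dat z Q}

namespace Ctx

variable (X : Ctx D)

/-- A member of a line through two members. -/
def Lin (b c w : G) : Prop := w = b ∨ w = c ∨ (¬ IsConj z (b * c * w) ∧ Commute b w ∧ Commute c w)

theorem lin_conj {b c w : G} (g : G) (h : Lin (z := z) b c w) :
    Lin (z := z) (g * b * g⁻¹) (g * c * g⁻¹) (g * w * g⁻¹) := by
  rcases h with rfl | rfl | ⟨h1, h2, h3⟩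
  · exact Or.inl rfl
  · exact Or.inr (Or.inl rfl)
  · refine Or.inr (Or.inr ⟨?_, (CfsgLib.ThreeT.commute_conj_iff g _ _).2 h2,
      (CfsgLib.ThreeT.commute_conj_iff g _ _).2 h3⟩)
    rwa [Thom.conj_mul, Thom.conj_mul, conj_z_conj]

theorem conj_inv_conj (g a : G) : g⁻¹ * (g * a * g⁻¹) * g⁻¹⁻¹ = a := by group

theorem DD_conj_iff {x g : G} (hg : g ∈ X.C) : g * x * g⁻¹ ∈ X.DD ↔ x ∈ X.DD :=
  ⟨fun h => conj_inv_conj g x ▸ X.DD_conj h (inv_mem hg), fun h => X.DD_conj h hg⟩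

theorem KK_mem_conj {g d : G} (hg : g ∈ X.KK) (hd : d ∈ X.KK) : g * d * g⁻¹ ∈ X.KK :=
  mul_mem (mul_mem hg hd) (inv_mem hg)

theorem exists_fib {d : G} (hd : d ∈ X.DD) (hK : d ∈ X.KK) (hne : d ≠ z) : ∃ p, IsPt4 p ∧ d ∈ X.fib p := by
  obtain ⟨p, hp, e⟩ := X.exists_pt hd hK hne
  exact ⟨p, hp, hd, hK, e⟩

theorem conj_ne_z {g d : G} (hg : g ∈ X.KK) (hne : d ≠ z) : g * d * g⁻¹ ≠ z := fun e =>
  hne (by rw [← conj_inv_conj g d, e]; exact X.KK_fix (inv_mem hg))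

/-- Two commuting members commuting with the centre move into the abelian subgroup together. -/
theorem pair_A0 {d d' : G} (hd : d ∈ X.DD) (hK : d ∈ X.KK) (hd' : d' ∈ X.DD) (hK' : d' ∈ X.KK)
    (h : Commute d d') : ∃ g ∈ X.KK, g * d * g⁻¹ ∈ A0 D ∧ g * d' * g⁻¹ ∈ A0 D := by
  by_cases h1 : d = z
  · by_cases h2 : d' = z
    · exact ⟨1, one_mem _, by simpa [h1] using X.z_mem_A0, by simpa [h2] using X.z_mem_A0⟩
    · obtain ⟨p, hp, hf⟩ := X.exists_fib hd' hK' h2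
      obtain ⟨g, hg, hgA⟩ := X.one_A0 hp hf
      exact ⟨g, hg, ((congrArg (fun u => g * u * g⁻¹) h1).trans (X.KK_fix hg)).symm ▸ X.z_mem_A0, hgA⟩
  obtain ⟨p, hp, hf⟩ := X.exists_fib hd hK h1
  by_cases h2 : d' = z
  · obtain ⟨g, hg, hgA⟩ := X.one_A0 hp hf
    exact ⟨g, hg, hgA, ((congrArg (fun u => g * u * g⁻¹) h2).trans (X.KK_fix hg)).symm ▸ X.z_mem_A0⟩
  · obtain ⟨q, hq, hf'⟩ := X.exists_fib hd' hK' h2
    exact X.two_A0 hp hq ((X.fib_comm hp hq hf hf').1 h) hf hf'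

/-- The lines through the centre are the fibres. -/
theorem line_ph {x0 x y : Cfsg.GolayPt} (h0 : IsPoint x0) (hz0 : z = X.dX x0) (hx : IsPoint x) (hy : IsPoint y)
    (hx0 : x0 ≠ x) (hy0 : x0 ≠ y) (hxy : x ≠ y) :
    OnLine x0 x y ↔ X.ph (X.dX x) = X.ph (X.dX y) := by
  rw [← (X.triple_iff h0 hx hy hx0 hy0 hxy).1]
  have hp := X.mul_nS hxy
  have hA : X.dX x * X.dX y ∈ A0 D := mul_mem (X.dX_A0 x) (X.dX_A0 y)
  have e3 : X.dX x0 * X.dX x * X.dX y = X.dX x * X.dX y * z :=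
    calc X.dX x0 * X.dX x * X.dX y = X.dX x0 * (X.dX x * X.dX y) := mul_assoc _ _ _
      _ = z * (X.dX x * X.dX y) := congrArg (· * (X.dX x * X.dX y)) hz0.symm
      _ = _ := (X.comm X.z_mem_A0 hA).eq
  rw [e3]
  have hKx := X.A0_le_KK (X.dX_A0 x)
  have hKy := X.A0_le_KK (X.dX_A0 y)
  constructor
  · intro h
    have hne : X.dX x * X.dX y * z ≠ 1 := fun e => by
      have e' : X.dX x * X.dX y = z := by
        rw [← mul_one (X.dX x * X.dX y), ← z_sq D, ← mul_assoc, e, one_mul]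
      refine ((mem_nS D).1 hp).2.2 ?_
      rw [e']
    have hR := flag_mem D X.hgs X.hsz X.hu hp ((mem_nS D).2 ⟨mul_mem hA X.z_mem_A0, hne, h⟩)
    obtain ⟨a, ha, -⟩ := (mem_R0 D).1 hR
    have h1 := (X.ph_eq_one (X.A0_le_KK hA)).2 ⟨a, ha⟩
    rw [X.ph_mul hKx hKy] at h1
    have hsq : X.ph (X.dX y) * X.ph (X.dX y) = 1 := by rw [← X.ph_mul hKy hKy, X.dX_sq, ph_one]
    rw [← mul_one (X.ph (X.dX x)), ← hsq, ← mul_assoc, h1, one_mul]
  · intro h
    obtain ⟨u, hu⟩ := (X.ph_eq_one (X.A0_le_KK hA)).1 (by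
      rw [X.ph_mul hKx hKy, h, ← X.ph_mul hKy hKy, X.dX_sq, ph_one])
    have hR : X.dX x * X.dX y ∈ R0 D :=
      A0_inf_Q D (c := ⟨_, (X.A0_le_KK hA).2⟩) hA (by
        rw [show (⟨_, (X.A0_le_KK hA).2⟩ : centralizer ({z} : Set G)) = (u : centralizer ({z} : Set G)) from
          Subtype.ext hu.symm]
        exact u.2)
    have hs := R0_small D X.hgs X.hsz hR ((mem_nS D).1 hp).2.1 ((mem_nS D).1 hp).2.2
    rw [← πG_mul_z D hR] at hs
    exact ((mem_nS D).1 (R0_mem_nS D X.hgs X.hsz (mul_mem hR (z_mem_R0 D)) hs)).2.2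

/-- Two neighbours of the centre on a line through it have the same point. -/
theorem same_ph {b c : G} (hb : b ∈ X.DD) (hbK : b ∈ X.KK) (hbz : b ≠ z) (hc : c ∈ X.DD) (hcK : c ∈ X.KK)
    (hcz : c ≠ z) (hbc : b ≠ c) (hcomm : Commute b c) (h : ¬ IsConj z (z * b * c)) : X.ph b = X.ph c := by
  obtain ⟨g, hg, hgb, hgc⟩ := X.pair_A0 hb hbK hc hcK hcomm
  obtain ⟨x0, h0, hz0⟩ := X.exists_x0
  obtain ⟨x, hx, ex⟩ := X.exists_point (X.DD_conj hb hg.1) hgb
  obtain ⟨y, hy, ey⟩ := X.exists_point (X.DD_conj hc hg.1) hgc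
  have hx0 : x0 ≠ x := fun e => X.conj_ne_z hg hbz (by rw [ex, ← e]; exact hz0.symm)
  have hy0 : x0 ≠ y := fun e => X.conj_ne_z hg hcz (by rw [ey, ← e]; exact hz0.symm)
  have hxy : x ≠ y := fun e => hbc (mul_left_cancel (mul_right_cancel (ex.trans ((congrArg X.dX e).trans ey.symm))))
  have hl : OnLine x0 x y := by
    rw [← (X.triple_iff h0 hx hy hx0 hy0 hxy).1]
    intro hz'
    refine h ((conj_z_conj g _).1 ?_)
    rw [← Thom.conj_mul g (z * b) c, ← Thom.conj_mul g z b, X.KK_fix hg, ex, ey]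
    exact (congrArg (fun u => IsConj z (u * X.dX x * X.dX y)) hz0).mpr hz'
  have hl' := (X.line_ph h0 hz0 hx hy hx0 hy0 hxy).1 hl
  rw [← ex, ← ey, X.ph_conj hg hbK, X.ph_conj hg hcK] at hl'
  exact mul_left_cancel (mul_right_cancel hl')

/-- Members with the same point commute with the same neighbours of the centre. -/
theorem comm_of_same {x b c : G} (hx : x ∈ X.DD) (hxK : x ∈ X.KK) (hb : b ∈ X.DD) (hbK : b ∈ X.KK) (hbz : b ≠ z)
    (hc : c ∈ X.DD) (hcK : c ∈ X.KK) (hcz : c ≠ z) (hph : X.ph b = X.ph c) (h : Commute x b) : Commute x c := by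
  by_cases hxz : x = z
  · exact (congrArg (Commute · c) hxz).mpr (X.KK_z hcK).symm
  obtain ⟨p, hp, hfx⟩ := X.exists_fib hx hxK hxz
  obtain ⟨q, hq, hfb⟩ := X.exists_fib hb hbK hbz
  exact (X.fib_comm hp hq hfx ⟨hc, hcK, hph ▸ hfb.2.2⟩).2 ((X.fib_comm hp hq hfx hfb).1 h)

/-- Non-commuting neighbours of the centre have product of order three. -/
theorem cube_z {a b : G} (ha : a ∈ X.DD) (haK : a ∈ X.KK) (hb : b ∈ X.DD) (hbK : b ∈ X.KK)
    (h : ¬ Commute a b) : (a * b) ^ 3 = 1 := by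
  have haz : a ≠ z := fun e => h ((congrArg (Commute · b) e).mpr (X.KK_z hbK).symm)
  have hbz : b ≠ z := fun e => h ((congrArg (Commute a) e).mpr (X.KK_z haK))
  obtain ⟨p, hp, hfa⟩ := X.exists_fib ha haK haz
  obtain ⟨r, hr, hfb⟩ := X.exists_fib hb hbK hbz
  have hpr : h4 p r ≠ 0 := fun e => h ((X.fib_comm hp hr hfa hfb).2 e)
  have hab : a * b ∈ X.KK := mul_mem haK hbK
  have hj : X.ph ((a * b) ^ 3) = 1 := by
    rw [pow_succ, pow_two, X.ph_mul (mul_mem hab hab) hab, X.ph_mul hab hab, X.ph_mul haK hbK, hfa.2.2, hfb.2.2]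
    have e := tvp_cube hp hr hpr
    rwa [pow_succ, pow_two] at e
  obtain ⟨u, hu⟩ := (X.ph_eq_one (pow_mem hab 3)).1 hj
  have hub : D.π u 0 = D.π u 1 := X.val_KK.1 (hu ▸ pow_mem hab 3)
  have ha2 := X.DD_sq ha
  have hb2 := X.DD_sq hb
  set b' := a * b * a * (a * b)⁻¹ with hb'
  set a' := b * a * b * (b * a)⁻¹ with ha'
  have j3 : (a * b) ^ 3 = a * b * (a * b) * (a * b) := by rw [pow_succ, pow_two]
  have eb' : b' = (a * b) ^ 3 * b := by
    rw [hb', j3, _root_.mul_inv_rev, X.DD_inv ha, X.DD_inv hb,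
      show a * b * (a * b) * (a * b) * b = a * b * (a * b) * a * (b * b) by group, hb2, mul_one]
    group
  have ea' : a' = a * (a * b) ^ 3 := by
    rw [ha', j3, _root_.mul_inv_rev, X.DD_inv ha, X.DD_inv hb,
      show a * (a * b * (a * b) * (a * b)) = a * a * b * (a * b) * (a * b) by group, ha2, one_mul]
    group
  have hfb' : b' ∈ X.fib r := by
    refine ⟨X.DD_conj ha hab.1, X.KK_mem_conj hab haK, ?_⟩
    rw [eb', X.ph_mul (pow_mem hab 3) hbK, hj, one_mul, hfb.2.2]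
  have hfa' : a' ∈ X.fib p := by
    refine ⟨X.DD_conj hb (mul_mem hbK haK).1, X.KK_mem_conj (mul_mem hbK haK) hbK, ?_⟩
    rw [ea', X.ph_mul haK (pow_mem hab 3), hj, mul_one, hfa.2.2]
  have key : ∀ {q : V4} (_ : IsPt4 q) {x x' : G}, x ∈ X.fib q → x' ∈ X.fib q → x * x' = val u →
      ∃ α : F4, tail (D.π u) = α • q := by
    intro q hq x x' hx hx' e
    obtain ⟨w, hw, -, α, hα⟩ := (X.fib_diff hq hx).1 x' hx'
    exact ⟨α, (Subtype.ext (Subtype.ext (e.symm.trans hw)) : u = w) ▸ hα⟩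
  have hcb : Commute b b' := (X.fib_comm hr hr hfb hfb').2 hr.2
  have e1 : b * b' = val u := by
    rw [hcb.eq, eb', mul_assoc, hb2, mul_one, hu]
  have e2 : a * a' = val u := by rw [ea', ← mul_assoc, ha2, one_mul, hu]
  obtain ⟨α, hα⟩ := key hr hfb hfb' e1
  obtain ⟨β, hβ⟩ := key hp hfa hfa' e2
  have ht : tail (D.π u) = 0 := by
    have e := congrArg (h4 p) (hα.symm.trans hβ)
    rw [h4_smul_right, h4_smul_right, hp.2, mul_zero] at e
    rcases mul_eq_zero.1 e with e' | e'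
    · rw [hα, mul_self_eq_zero.1 e', zero_smul]
    · exact absurd e' hpr
  have hbb : b' = b := X.coset_unique hr hfb hfb'.1 (u := u)
    (by rw [← e1, ← mul_assoc, hb2, one_mul]) hub ht
  rw [eb'] at hbb
  exact mul_eq_right.1 hbb

/-- A line and a member: some member of the line commutes with it. -/
theorem gamma_z {a b c : G} (ha : a ∈ X.DD) (haK : a ∈ X.KK) (hb : b ∈ X.DD) (hbK : b ∈ X.KK) (hbz : b ≠ z)
    (hc : c ∈ X.DD) (hcK : c ∈ X.KK) (hcz : c ≠ z) (hbc : b ≠ c) (hcomm : Commute b c) (hab : ¬ Commute a b) :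
    ∃ w ∈ X.DD, Commute w a ∧ Lin (z := z) b c w := by
  have haz : a ≠ z := fun e => hab ((congrArg (Commute · b) e).mpr (X.KK_z hbK).symm)
  obtain ⟨g, hg, hgb, hgc⟩ := X.pair_A0 hb hbK hc hcK hcomm
  set a' := g * a * g⁻¹
  suffices H : ∃ w ∈ X.DD, Commute w a' ∧ Lin (z := z) (g * b * g⁻¹) (g * c * g⁻¹) w by
    obtain ⟨w, hw, hwa, hl⟩ := H
    refine ⟨g⁻¹ * w * g⁻¹⁻¹, X.DD_conj hw (inv_mem hg.1), ?_, ?_⟩
    · have := (CfsgLib.ThreeT.commute_conj_iff g⁻¹ _ _).2 hwa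
      rwa [conj_inv_conj] at this
    · have := lin_conj g⁻¹ hl
      rwa [conj_inv_conj, conj_inv_conj] at this
  obtain ⟨x0, h0, hz0⟩ := X.exists_x0
  obtain ⟨x, hx, ex⟩ := X.exists_point (X.DD_conj hb hg.1) hgb
  obtain ⟨y, hy, ey⟩ := X.exists_point (X.DD_conj hc hg.1) hgc
  have hx0 : x0 ≠ x := fun e => X.conj_ne_z hg hbz (by rw [ex, ← e]; exact hz0.symm)
  have hy0 : x0 ≠ y := fun e => X.conj_ne_z hg hcz (by rw [ey, ← e]; exact hz0.symm)
  have hxy : x ≠ y := fun e => hbc (mul_left_cancel (mul_right_cancel (ex.trans ((congrArg X.dX e).trans ey.symm))))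
  have ha'K : a' ∈ X.KK := X.KK_mem_conj hg haK
  rw [ex, ey]
  have lin_of : ∀ w, IsPoint w → OnLine x y w → Lin (z := z) (X.dX x) (X.dX y) (X.dX w) := by
    intro w hw hl
    by_cases h1 : x = w
    · exact Or.inl (by rw [h1])
    by_cases h2 : y = w
    · exact Or.inr (Or.inl (by rw [h2]))
    exact Or.inr (Or.inr ⟨(X.triple_iff hx hy hw hxy h1 h2).1.2 hl, X.dX_comm _ _, X.dX_comm _ _⟩)
  by_cases hcol : OnLine x y x0
  · exact ⟨_, X.dX_mem h0, (congrArg (Commute · a') hz0).mp (X.KK_z ha'K).symm, lin_of x0 h0 hcol⟩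
  have hKx := X.A0_le_KK (X.dX_A0 x)
  have hKy := X.A0_le_KK (X.dX_A0 y)
  have hdx : X.dX x ≠ z := fun e => hx0 (X.dX_inj (hz0.symm.trans e.symm))
  have hdy : X.dX y ≠ z := fun e => hy0 (X.dX_inj (hz0.symm.trans e.symm))
  obtain ⟨p, hp, hfa⟩ := X.exists_fib (X.DD_conj ha hg.1) ha'K (X.conj_ne_z hg haz)
  obtain ⟨r, hr, hfx⟩ := X.exists_fib (X.dX_mem hx) hKx hdx
  obtain ⟨s, hs, hfy⟩ := X.exists_fib (X.dX_mem hy) hKy hdy
  have hrs : h4 r s = 0 := (X.fib_comm hr hs hfx hfy).1 (X.dX_comm x y)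
  have hne : ∀ c : F4, s ≠ c • r := by
    intro k hk
    have hk0 : k ≠ 0 := fun e => hs.1 (by rw [hk, e, zero_smul])
    refine hcol ?_
    obtain ⟨o, ho, hso⟩ := (X.line_ph h0 hz0 hx hy hx0 hy0 hxy).2 (by rw [hfx.2.2, hfy.2.2, hk, tvp_smul hr hk0])
    refine ⟨o, ho, fun v hv => hso ?_⟩
    simp only [Finset.mem_insert, Finset.mem_singleton] at hv ⊢
    tauto
  have hnpr : h4 p r ≠ 0 := fun e => hab (by
    have := (X.fib_comm hp hr hfa hfx).2 e
    rw [← ex] at this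
    exact (CfsgLib.ThreeT.commute_conj_iff g _ _).1 this)
  obtain ⟨k, htpt, htp, -⟩ := exists_on_line hr hs hnpr hrs hne
  set t := s + k • r
  -- the point lies on the standard line
  have inPl : ∀ {u : Cfsg.GolayPt} {q : V4}, IsPt4 q → X.ph (X.dX u) = tvp q → q 0 = q 1 ∧ q 2 = q 3 := by
    intro u q hq e
    have hfix := mk_fix D (c := ⟨X.dX u, A0_le_cz D (X.dX_A0 u)⟩) (X.dX_A0 u)
    obtain ⟨h, hh⟩ := exists_umat D.T X.hinv hfix
    have hov := eq_ovr D.T X.hinv hfix hh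
    have e1 : X.ph (X.dX u) = suElt (umat h) (umat_isU h) := by
      rw [X.ph_def (X.A0_le_KK (X.dX_A0 u)), ← ovr_spec D.T (umat h) (umat_isU h)]
      exact congrArg _ (Subtype.ext hov)
    have hfx : ∀ v, umat h *ᵥ v = v → h4 v q = 0 := by
      intro v hv
      have h2 := tvp_apply hq v
      rw [← e, e1, suElt_mulVec, hv] at h2
      exact (smul_eq_zero.1 (left_eq_add.1 h2)).resolve_right hq.1
    have k1 := hfx _ (umat_fix h).1
    have k2 := hfx _ (umat_fix h).2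
    simp [h4, tv2] at k1
    simp [h4, tv3] at k2
    have hsq : ∀ a b : F4, a * a + b * b = 0 → a = b := by decide +kernel
    exact ⟨hsq _ _ k1, hsq _ _ k2⟩
  have hrP := inPl hr hfx.2.2
  have hsP := inPl hs hfy.2.2
  have htP : InPl t := ⟨htpt, by simp [t, hrP.1, hsP.1], by simp [t, hrP.2, hsP.2]⟩
  obtain ⟨d, hd⟩ := X.fib_nonempty htpt
  obtain ⟨v, hv, rfl⟩ := X.exists_point hd.1 (X.plane_A0 htP hd)
  have hv0 : x0 ≠ v := fun e => X.fib_ne_z htpt hd (by rw [← e]; exact hz0.symm)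
  obtain ⟨w, hw, hw1, hw2⟩ := exists_meet x y x0 v
  refine ⟨_, X.dX_mem hw, ?_, lin_of w hw hw1⟩
  have hw0 : x0 ≠ w := fun e => hcol (e ▸ hw1)
  have hwf : X.dX w ∈ X.fib t := by
    by_cases hvw : v = w
    · exact hvw ▸ hd
    · exact ⟨X.dX_mem hw, X.A0_le_KK (X.dX_A0 w),
        ((X.line_ph h0 hz0 hv hw hv0 hw0 hvw).1 hw2).symm.trans hd.2.2⟩
  exact ((X.fib_comm hp htpt hfa hwf).2 (h4_zero_iff.1 htp)).symm

/-- Everything is seen from every member. -/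
theorem view {v : G} (hv : v ∈ X.DD) : ∃ g ∈ X.C, g * v * g⁻¹ = z := by
  obtain ⟨k, hk, rfl⟩ := hv
  exact ⟨k⁻¹, inv_mem hk, by group⟩

theorem view_mem {v x g : G} (hg : g ∈ X.C) (he : g * v * g⁻¹ = z) (hx : x ∈ X.DD) (h : Commute x v) :
    g * x * g⁻¹ ∈ X.KK :=
  X.KK_DD (X.DD_conj hx hg)
    ((congrArg (Commute (g * x * g⁻¹)) he).mp ((CfsgLib.ThreeT.commute_conj_iff g x v).2 h))

theorem view_ne {v x g : G} (he : g * v * g⁻¹ = z) (h : x ≠ v) : g * x * g⁻¹ ≠ z := fun e =>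
  h (mul_left_cancel (mul_right_cancel (e.trans he.symm)))

/-- Three pairwise commuting members move into the abelian subgroup together. -/
theorem triple_A0 {a b c : G} (ha : a ∈ X.DD) (hb : b ∈ X.DD) (hc : c ∈ X.DD) (hab : Commute a b)
    (hac : Commute a c) (hbc : Commute b c) :
    ∃ g ∈ X.C, g * a * g⁻¹ ∈ A0 D ∧ g * b * g⁻¹ ∈ A0 D ∧ g * c * g⁻¹ ∈ A0 D := by
  obtain ⟨k, hk, he⟩ := X.view ha
  obtain ⟨g, hg, h1, h2⟩ := X.pair_A0 (X.DD_conj hb hk) (X.view_mem hk he hb hab.symm) (X.DD_conj hc hk)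
    (X.view_mem hk he hc hac.symm) ((CfsgLib.ThreeT.commute_conj_iff k _ _).2 hbc)
  refine ⟨g * k, mul_mem hg.1 hk, ?_, ?_, ?_⟩
  · have : g * k * a * (g * k)⁻¹ = z := by
      rw [show g * k * a * (g * k)⁻¹ = g * (k * a * k⁻¹) * g⁻¹ by group]
      exact (congrArg (fun u => g * u * g⁻¹) he).trans (X.KK_fix hg)
    exact this.symm ▸ X.z_mem_A0
  · rwa [show g * k * b * (g * k)⁻¹ = g * (k * b * k⁻¹) * g⁻¹ by group]
  · rwa [show g * k * c * (g * k)⁻¹ = g * (k * c * k⁻¹) * g⁻¹ by group]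

/-- A member commuting with two members of a line commutes with the third. -/
theorem one_or_all {a b c x : G} (ha : a ∈ X.DD) (hb : b ∈ X.DD) (hc : c ∈ X.DD) (hx : x ∈ X.DD)
    (hab : a ≠ b) (hac : a ≠ c) (hbc : b ≠ c) (cab : Commute a b) (cac : Commute a c) (cbc : Commute b c)
    (hl : ¬ IsConj z (a * b * c)) (hxa : Commute x a) (hxb : Commute x b) : Commute x c := by
  obtain ⟨g, hg, he⟩ := X.view ha
  refine (CfsgLib.ThreeT.commute_conj_iff g x c).1 (X.comm_of_same (X.DD_conj hx hg) (X.view_mem hg he hx hxa)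
    (X.DD_conj hb hg) (X.view_mem hg he hb cab.symm) (view_ne he hab.symm) (X.DD_conj hc hg)
    (X.view_mem hg he hc cac.symm) (view_ne he hac.symm) ?_ ((CfsgLib.ThreeT.commute_conj_iff g x b).2 hxb))
  refine X.same_ph (X.DD_conj hb hg) (X.view_mem hg he hb cab.symm) (view_ne he hab.symm) (X.DD_conj hc hg)
    (X.view_mem hg he hc cac.symm) (view_ne he hac.symm) (fun e => hbc (mul_left_cancel (mul_right_cancel e)))
    ((CfsgLib.ThreeT.commute_conj_iff g b c).2 cbc) fun h => hl ((conj_z_conj g _).1 ?_)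
  rw [← Thom.conj_mul g (a * b) c, ← Thom.conj_mul g a b]
  exact (congrArg (fun u => IsConj z (u * (g * b * g⁻¹) * (g * c * g⁻¹))) he).mpr h

theorem lin_commute {a b w x : G} (ha : a ∈ X.DD) (hb : b ∈ X.DD) (hw : w ∈ X.DD) (hx : x ∈ X.DD)
    (hab : a ≠ b) (cab : Commute a b) (hl : Lin (z := z) a b w) (hxa : Commute x a) (hxb : Commute x b) :
    Commute x w := by
  by_cases h1 : w = a
  · rw [h1]; exact hxa
  by_cases h2 : w = b
  · rw [h2]; exact hxb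
  obtain ⟨h, h3, h4⟩ := (hl.resolve_left h1).resolve_left h2
  exact X.one_or_all ha hb hw hx hab (Ne.symm h1) (Ne.symm h2) cab h3 h4 h hxa hxb

/-- The transposition property for members with a common neighbour. -/
theorem cube {v a b : G} (hv : v ∈ X.DD) (ha : a ∈ X.DD) (hb : b ∈ X.DD) (hva : Commute v a)
    (hvb : Commute v b) (h : ¬ Commute a b) : (a * b) ^ 3 = 1 := by
  obtain ⟨g, hg, he⟩ := X.view hv
  have h3 := X.cube_z (X.DD_conj ha hg) (X.view_mem hg he ha hva.symm) (X.DD_conj hb hg)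
    (X.view_mem hg he hb hvb.symm) fun h' => h ((CfsgLib.ThreeT.commute_conj_iff g a b).1 h')
  rw [Thom.conj_mul, conj_pow] at h3
  exact conj_eq_one_iff.1 h3

/-- Some member of a line commutes with a given member sharing a neighbour with it. -/
theorem gamma {w x v y : G} (hw : w ∈ X.DD) (hx : x ∈ X.DD) (hv : v ∈ X.DD) (hy : y ∈ X.DD)
    (cwx : Commute w x) (cwv : Commute w v) (cwy : Commute w y) (cxv : Commute x v) (hxv : x ≠ v)
    (hyx : ¬ Commute y x) : ∃ u ∈ X.DD, Commute u y ∧ Lin (z := z) x v u := by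
  by_cases hvw : v = w
  · exact ⟨v, hv, hvw ▸ cwy, Or.inr (Or.inl rfl)⟩
  have hxw : x ≠ w := fun e => hyx (e ▸ cwy.symm)
  obtain ⟨g, hg, he⟩ := X.view hw
  obtain ⟨u, hu, hua, hl⟩ := X.gamma_z (X.DD_conj hy hg) (X.view_mem hg he hy cwy.symm) (X.DD_conj hx hg)
    (X.view_mem hg he hx cwx.symm) (view_ne he hxw) (X.DD_conj hv hg) (X.view_mem hg he hv cwv.symm)
    (view_ne he hvw) (fun e => hxv (mul_left_cancel (mul_right_cancel e)))
    ((CfsgLib.ThreeT.commute_conj_iff g x v).2 cxv)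
    fun h => hyx ((CfsgLib.ThreeT.commute_conj_iff g y x).1 h)
  refine ⟨g⁻¹ * u * g⁻¹⁻¹, X.DD_conj hu (inv_mem hg), ?_, ?_⟩
  · have := (CfsgLib.ThreeT.commute_conj_iff g⁻¹ _ _).2 hua
    rwa [conj_inv_conj] at this
  · have := lin_conj g⁻¹ hl
    rwa [conj_inv_conj, conj_inv_conj] at this

/-- A member with a point of its own seen from a neighbour. -/
theorem view_fib {v x g : G} (hg : g ∈ X.C) (he : g * v * g⁻¹ = z) (hx : x ∈ X.DD) (h : Commute x v) :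
    ∃ p, IsPt4 p ∧ (x ≠ v → g * x * g⁻¹ ∈ X.fib p) := by
  by_cases hxv : x = v
  · exact ⟨p0, p0_pt, fun h => absurd hxv h⟩
  · obtain ⟨p, hp, hf⟩ := X.exists_fib (X.DD_conj hx hg) (X.view_mem hg he hx h) (view_ne he hxv)
    exact ⟨p, hp, fun _ => hf⟩

theorem fib_back {v g : G} (hg : g ∈ X.C) (he : g * v * g⁻¹ = z) {r : V4} (hr : IsPt4 r) {d : G}
    (hd : d ∈ X.fib r) :
    g⁻¹ * d * g⁻¹⁻¹ ∈ X.DD ∧ g⁻¹ * d * g⁻¹⁻¹ ≠ v ∧ Commute (g⁻¹ * d * g⁻¹⁻¹) v ∧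
      g * (g⁻¹ * d * g⁻¹⁻¹) * g⁻¹ = d := by
  have e : g * (g⁻¹ * d * g⁻¹⁻¹) * g⁻¹ = d := by group
  refine ⟨X.DD_conj hd.1 (inv_mem hg), fun h => X.fib_ne_z hr hd (e.symm.trans (h ▸ he)), ?_, e⟩
  rw [← CfsgLib.ThreeT.commute_conj_iff g, e]
  exact (congrArg (Commute d) he).mpr (X.KK_z hd.2.1)

/-- A common neighbour of two neighbours. -/
theorem common {x w y : G} (hx : x ∈ X.DD) (hw : w ∈ X.DD) (hy : y ∈ X.DD) (cwx : Commute w x)
    (cyx : Commute y x) : ∃ v ∈ X.DD, v ≠ x ∧ Commute v x ∧ Commute v w ∧ Commute v y := by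
  obtain ⟨g, hg, he⟩ := X.view hx
  obtain ⟨p, hp, hfp⟩ := X.view_fib hg he hw cwx
  obtain ⟨q, hq, hfq⟩ := X.view_fib hg he hy cyx
  obtain ⟨r, hr, hrp, hrq⟩ := exists_common hp hq
  obtain ⟨d, hd⟩ := X.fib_nonempty hr
  obtain ⟨h1, h2, h3, e⟩ := X.fib_back hg he hr hd
  refine ⟨_, h1, h2, h3, ?_, ?_⟩
  · by_cases hwx : w = x
    · exact hwx.symm ▸ h3
    · rw [← CfsgLib.ThreeT.commute_conj_iff g, e]; exact (X.fib_comm hr hp hd (hfp hwx)).2 hrp
  · by_cases hyx : y = x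
    · exact hyx.symm ▸ h3
    · rw [← CfsgLib.ThreeT.commute_conj_iff g, e]; exact (X.fib_comm hr hq hd (hfq hyx)).2 hrq

/-- A neighbour commuting with neither of two given ones. -/
theorem apart {x a b : G} (hx : x ∈ X.DD) (ha : a ∈ X.DD) (hb : b ∈ X.DD) (cax : Commute a x)
    (cbx : Commute b x) (hax : a ≠ x) (hbx : b ≠ x) :
    ∃ d ∈ X.DD, Commute d x ∧ ¬ Commute d a ∧ ¬ Commute d b := by
  obtain ⟨g, hg, he⟩ := X.view hx
  obtain ⟨p, hp, hfp⟩ := X.view_fib hg he ha cax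
  obtain ⟨q, hq, hfq⟩ := X.view_fib hg he hb cbx
  obtain ⟨r, hr, hrp, hrq⟩ := exists_apart hp hq
  obtain ⟨d, hd⟩ := X.fib_nonempty hr
  obtain ⟨h1, -, h3, e⟩ := X.fib_back hg he hr hd
  refine ⟨_, h1, h3, fun h => hrp ?_, fun h => hrq ?_⟩ <;>
    rw [← CfsgLib.ThreeT.commute_conj_iff g, e] at h
  exacts [(X.fib_comm hr hp hd (hfp hax)).1 h, (X.fib_comm hr hq hd (hfq hbx)).1 h]

/-- Two commuting members lie on a line with a third. -/
theorem third {a b : G} (ha : a ∈ X.DD) (hb : b ∈ X.DD) (hab : Commute a b) (hne : a ≠ b) :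
    ∃ c ∈ X.DD, a ≠ c ∧ b ≠ c ∧ Commute a c ∧ Commute b c ∧ ¬ IsConj z (a * b * c) := by
  obtain ⟨g, hg, h1, h2, -⟩ := X.triple_A0 ha hb hb hab hab (Commute.refl b)
  obtain ⟨x, hx, ex⟩ := X.exists_point (X.DD_conj ha hg) h1
  obtain ⟨y, hy, ey⟩ := X.exists_point (X.DD_conj hb hg) h2
  have hxy : x ≠ y := fun e => hne (mul_left_cancel (mul_right_cancel (ex.trans ((congrArg X.dX e).trans ey.symm))))
  obtain ⟨w, hw, hxw, hyw, hl⟩ := exists_third hx hy hxy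
  have e : g * (g⁻¹ * X.dX w * g⁻¹⁻¹) * g⁻¹ = X.dX w := by group
  refine ⟨g⁻¹ * X.dX w * g⁻¹⁻¹, X.DD_conj (X.dX_mem hw) (inv_mem hg), fun h => hxw (X.dX_inj ?_),
    fun h => hyw (X.dX_inj ?_), ?_, ?_, ?_⟩
  · rw [← ex, h, e]
  · rw [← ey, h, e]
  · rw [← CfsgLib.ThreeT.commute_conj_iff g, e, ex]; exact X.dX_comm _ _
  · rw [← CfsgLib.ThreeT.commute_conj_iff g, e, ey]; exact X.dX_comm _ _
  · rw [← conj_z_conj g, ← Thom.conj_mul g (a * b), ← Thom.conj_mul g a b, e, ex, ey]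
    exact (X.triple_iff hx hy hw hxy hxw hyw).1.2 hl

end Ctx

end CfsgLib.FiLarge.U62
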