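import Cfsg.Agent.FiLarge.U62.Setting

/-!
The points and lines of the plane of twenty-one points inside the abelian subgroup.
-/

set_option autoImplicit false
set_option quotPrecheck false
set_option maxRecDepth 100000
set_option linter.style.haveILetI false
set_option linter.unusedSectionVars false

namespace CfsgLib.FiLarge.U62

open CfsgLib Subgroup CfsgLib.FiLarge.Thom
open CfsgLib.FiLarge.Dat (val)

/-- The three fixed points. -/
def abc : Finset Cfsg.GolayPt := {ptA, ptB, ptC}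

theorem card_abc : abc.card = 3 := by decide +kernel

/-- A point of the plane. -/
def IsPoint (x : Cfsg.GolayPt) : Prop := x ≠ ptA ∧ x ≠ ptB ∧ x ≠ ptC

instance (x : Cfsg.GolayPt) : Decidable (IsPoint x) := by unfold IsPoint; infer_instance

theorem isPoint_iff {x : Cfsg.GolayPt} : IsPoint x ↔ x ∉ abc := by simp [IsPoint, abc]

theorem card_points : (Finset.univ.filter fun x => IsPoint x).card = 21 := by decide +kernel

/-- The three points lie on a line. -/
def OnLine (x y w : Cfsg.GolayPt) : Prop :=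
  ∃ o ∈ Cfsg.octads, ({ptA, ptB, ptC, x, y, w} : Finset Cfsg.GolayPt) ⊆ o

theorem exists_octad {s : Finset Cfsg.GolayPt} (hs : s.card ≤ 5) : ∃ o ∈ Cfsg.octads, s ⊆ o := by
  obtain ⟨t, hst, -, ht⟩ := Finset.exists_subsuperset_card_eq (Finset.subset_univ s) hs
    (by rw [Finset.card_univ, Golay.card_golayPt]; norm_num)
  obtain ⟨o, ho, -⟩ := Golay.octads_steiner.2 t ht
  exact ⟨o, ho.1, hst.trans ho.2⟩

theorem octad_inter {o o' : Finset Cfsg.GolayPt} (ho : o ∈ Cfsg.octads) (ho' : o' ∈ Cfsg.octads)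
    (h : 3 ≤ (o ∩ o').card) : 4 ≤ (o ∩ o').card := by
  have h1 := Golay.card_symmDiff_add o o'
  rw [Golay.octad_card ho, Golay.octad_card ho'] at h1
  rcases Golay.supports_card (Golay.supports_symmDiff ho.1 ho'.1) with e | e | e | e | e <;> omega

theorem octad_image {o : Finset Cfsg.GolayPt} (ho : o ∈ Cfsg.octads) (g : Cfsg.M24) :
    o.image (g : Equiv.Perm Cfsg.GolayPt) ∈ Cfsg.octads :=
  Steiner.mem_aut_iff.1 (show g.1 ∈ Cfsg.setSystemAut Cfsg.octads from Golay.M24_eq_octAut ▸ g.2) o ho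

theorem move_point {x y : Cfsg.GolayPt} (hx : IsPoint x) (hy : IsPoint y) :
    ∃ g : Cfsg.M24, (g : Equiv.Perm Cfsg.GolayPt) ptA = ptA ∧ (g : Equiv.Perm Cfsg.GolayPt) ptB = ptB ∧
      (g : Equiv.Perm Cfsg.GolayPt) ptC = ptC ∧ (g : Equiv.Perm Cfsg.GolayPt) x = y := by
  haveI := Golay.pretransitive_emb 4 (by norm_num)
  obtain ⟨h1, h2, h3⟩ := abc_ne
  obtain ⟨x1, x2, x3⟩ := hx
  obtain ⟨y1, y2, y3⟩ := hy
  let u : Fin 4 ↪ Cfsg.GolayPt := ⟨![ptA, ptB, ptC, x], by
    intro i j h; fin_cases i <;> fin_cases j <;> simp_all [eq_comm]⟩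
  let v : Fin 4 ↪ Cfsg.GolayPt := ⟨![ptA, ptB, ptC, y], by
    intro i j h; fin_cases i <;> fin_cases j <;> simp_all [eq_comm]⟩
  obtain ⟨g, hg⟩ := MulAction.exists_smul_eq Cfsg.M24 u v
  have h : ∀ i, (g : Equiv.Perm Cfsg.GolayPt) (u i) = v i := fun i => congrArg (fun e : Fin 4 ↪ _ => e i) hg
  exact ⟨g, h 0, h 1, h 2, h 3⟩

theorem exists_octad_two : ∃ o ∈ Cfsg.octads, ptA ∈ o ∧ ptB ∈ o ∧ ptC ∉ o := by
  obtain ⟨o, ho, hs⟩ := exists_octad (s := ({ptA, ptB} : Finset Cfsg.GolayPt))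
    (Finset.card_le_two.trans (by norm_num))
  obtain ⟨w, hw⟩ : ∃ w, w ∉ o := by
    by_contra h
    push Not at h
    have := Golay.octad_card ho
    rw [Finset.eq_univ_of_forall h, Finset.card_univ, Golay.card_golayPt] at this
    norm_num at this
  have hA : ptA ∈ o := hs (by simp)
  have hB : ptB ∈ o := hs (by simp)
  obtain ⟨g, g1, g2, g3⟩ := move_three ptA ptB w abc_ne.1 (fun e => hw (e ▸ hB)) (fun e => hw (e ▸ hA))
  refine ⟨_, octad_image ho g, Finset.mem_image.2 ⟨_, hA, g1⟩, Finset.mem_image.2 ⟨_, hB, g2⟩, ?_⟩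
  rintro h
  obtain ⟨v, hv, e⟩ := Finset.mem_image.1 h
  exact hw ((g : Equiv.Perm Cfsg.GolayPt).injective (e.trans g3.symm) ▸ hv)

theorem card_three {o : Finset Cfsg.GolayPt} (ho : o ∈ Cfsg.octads) {s : Finset Cfsg.GolayPt} (hs : s ⊆ o) :
    (o \ s).card = 8 - s.card := by
  rw [Finset.card_sdiff_of_subset hs, Golay.octad_card ho]

variable {G : Type*} [Group G] [Finite G] {z : G} {Q : Subgroup (centralizer ({z} : Set G))} [Q.Normal]
  {D : Dat z Q}

namespace Ctx

variable (X : Ctx D)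

theorem four_z {p q r t : Cfsg.GolayPt} (h : ({p, q, r, t} : Finset Cfsg.GolayPt).card = 4) :
    IsConj z (X.L.lab p q * X.L.lab r t) := by
  classical
  have hpq : p ≠ q := fun e => by
    subst e
    rw [Finset.insert_eq_of_mem (Finset.mem_insert_self _ _)] at h
    exact absurd (h ▸ Finset.card_le_three : 4 ≤ 3) (by norm_num)
  have hrt : r ≠ t := fun e => by
    subst e
    rw [show ({p, q, r, r} : Finset Cfsg.GolayPt) = {p, q, r} by simp] at h
    exact absurd (h ▸ Finset.card_le_three : 4 ≤ 3) (by norm_num)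
  have hd : Disjoint ({p, q} : Finset Cfsg.GolayPt) {r, t} := by
    rw [Finset.disjoint_iff_inter_eq_empty, ← Finset.card_eq_zero]
    have h1 := Finset.card_union_add_card_inter ({p, q} : Finset Cfsg.GolayPt) {r, t}
    rw [show ({p, q} : Finset Cfsg.GolayPt) ∪ {r, t} = {p, q, r, t} by
      ext u; simp only [Finset.mem_union, Finset.mem_insert, Finset.mem_singleton]; tauto, h,
      Finset.card_pair hpq, Finset.card_pair hrt] at h1
    omega
  rw [← X.L.pair p q hpq, ← X.L.pair r t hrt, ← X.L.ev_add, hd.symmDiff_eq_sup]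
  refine X.L.four _ ?_
  rw [Finset.sup_eq_union, Finset.card_union_of_disjoint hd, Finset.card_pair hpq, Finset.card_pair hrt]

theorem pair_union {p q : Cfsg.GolayPt} (hpq : p ≠ q) {s : Finset Cfsg.GolayPt} (hp : p ∉ s) (hq : q ∉ s) :
    X.L.ev (insert p (insert q s)) = X.L.lab p q * X.L.ev s := by
  have hd : Disjoint ({p, q} : Finset Cfsg.GolayPt) s := by simp [hp, hq]
  rw [← X.L.pair p q hpq, ← X.L.ev_add, hd.symmDiff_eq_sup]
  congr 1
  simp [Finset.insert_union]

/-- The element at a point. -/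
def dX (x : Cfsg.GolayPt) : G := X.L.lab ptA ptB * X.L.lab ptC x

theorem dX_A0 (x : Cfsg.GolayPt) : X.dX x ∈ A0 D := mul_mem (X.lab_A0 _ _) (X.lab_A0 _ _)

theorem dX_z {x : Cfsg.GolayPt} (hx : IsPoint x) : IsConj z (X.dX x) := by
  obtain ⟨h1, h2, h3⟩ := abc_ne
  obtain ⟨x1, x2, x3⟩ := hx
  exact X.four_z (by simp [Finset.card_insert_of_notMem, h1, h2, h3, x1.symm, x2.symm, x3.symm])

theorem dX_mul (x y : Cfsg.GolayPt) : X.dX x * X.dX y = X.L.lab x y := by
  show X.L.lab ptA ptB * X.L.lab ptC x * (X.L.lab ptA ptB * X.L.lab ptC y) = _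
  rw [show X.L.lab ptA ptB * X.L.lab ptC x * (X.L.lab ptA ptB * X.L.lab ptC y) =
      X.L.lab ptA ptB * (X.L.lab ptC x * X.L.lab ptA ptB) * X.L.lab ptC y by group,
    (X.comm (X.lab_A0 ptC x) (X.lab_A0 ptA ptB)).eq, ← mul_assoc, X.lab_mul_self, one_mul,
    X.L.symm ptC x, X.L.trans]

theorem dX_inj {x y : Cfsg.GolayPt} (e : X.dX x = X.dX y) : x = y := by
  by_contra h
  refine ((mem_nS D).1 (X.L.mem x y h)).2.1 ?_
  rw [← X.dX_mul, e, X.sq (X.dX_A0 y)]

theorem dX_sq (x : Cfsg.GolayPt) : X.dX x * X.dX x = 1 := X.sq (X.dX_A0 x)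

theorem dX_comm (x y : Cfsg.GolayPt) : Commute (X.dX x) (X.dX y) := X.comm (X.dX_A0 x) (X.dX_A0 y)

/-- The members of the class in the abelian subgroup are the points. -/
theorem exists_point {d : G} (hd : d ∈ X.DD) (hA : d ∈ A0 D) : ∃ w, IsPoint w ∧ d = X.dX w := by
  classical
  obtain ⟨S, hS, hAS, hev⟩ := X.L.exists_four d hA (X.DD_z hd) ptA
  obtain ⟨h1, h2, h3⟩ := abc_ne
  have key : ∀ q, q ≠ ptA → X.L.lab ptA q ∈ X.E → q ∈ S := by
    intro q hq hE
    by_contra hqS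
    refine X.DD_E hd hE ((mem_nS D).1 (X.L.mem _ _ hq.symm)).2.1 ?_
    rw [← hev, ← X.L.pair _ _ hq.symm, ← X.L.ev_add]
    refine X.L.four _ ?_
    rw [show symmDiff S {ptA, q} = insert q (S.erase ptA) by
      ext x
      simp only [Finset.mem_symmDiff, Finset.mem_insert, Finset.mem_singleton, Finset.mem_erase]
      constructor
      · rintro (⟨hx, hn⟩ | ⟨rfl | rfl, hn⟩)
        exacts [Or.inr ⟨fun e => hn (Or.inl e), hx⟩, absurd hAS hn, Or.inl rfl]
      · rintro (rfl | ⟨hxA, hx⟩)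
        · exact Or.inr ⟨Or.inr rfl, hqS⟩
        · exact Or.inl ⟨hx, fun e => e.elim hxA fun e => hqS (e ▸ hx)⟩]
    rw [Finset.card_insert_of_notMem (fun h => hqS (Finset.mem_of_mem_erase h)), Finset.card_erase_of_mem hAS, hS]
  have hB := key ptB h1.symm X.ab_E
  have hC := key ptC h3.symm X.ac_E
  obtain ⟨w, hw⟩ : ∃ w, S \ abc = {w} := by
    refine Finset.card_eq_one.1 ?_
    rw [Finset.card_sdiff_of_subset (by simp [abc, Finset.insert_subset_iff, hAS, hB, hC]), hS, card_abc]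
  have hw' : w ∈ S \ abc := by rw [hw]; exact Finset.mem_singleton_self w
  have hwp : IsPoint w := isPoint_iff.2 (Finset.mem_sdiff.1 hw').2
  refine ⟨w, hwp, hev.symm.trans ?_⟩
  obtain ⟨w1, w2, w3⟩ := hwp
  rw [show S = insert ptA (insert ptB {ptC, w}) from ?_,
    X.pair_union h1 (by simp [h3, w1.symm]) (by simp [h2, w2.symm]), X.L.pair _ _ w3.symm]
  · rfl
  · refine (Finset.eq_of_subset_of_card_le (by
      simp [Finset.insert_subset_iff, hAS, hB, hC, (Finset.mem_sdiff.1 hw').1]) ?_).symm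
    simp [Finset.card_insert_of_notMem, hS, h1, h2, h3, w1.symm, w2.symm, w3.symm]

/-- A permutation fixing the three points is induced by an element of the centraliser. -/
theorem perm_C {g : Cfsg.M24} (hA : (g : Equiv.Perm Cfsg.GolayPt) ptA = ptA)
    (hB : (g : Equiv.Perm Cfsg.GolayPt) ptB = ptB) (hC : (g : Equiv.Perm Cfsg.GolayPt) ptC = ptC) :
    ∃ m ∈ X.C, m ∈ normalizer (A0 D : Set G) ∧
      ∀ p q, m * X.L.lab p q * m⁻¹ =
        X.L.lab ((g : Equiv.Perm Cfsg.GolayPt) p) ((g : Equiv.Perm Cfsg.GolayPt) q) := by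
  obtain ⟨m, rfl⟩ := X.L.surj g
  refine ⟨m, X.mem_C.2 ⟨?_, ?_⟩, m.2, fun p q => X.L.conj m p q⟩
  · refine mul_inv_eq_iff_eq_mul.1 ?_
    rw [X.L.conj, hA, hB]
  · refine mul_inv_eq_iff_eq_mul.1 ?_
    rw [X.L.conj, hB, hC]

theorem exists_move {x y : Cfsg.GolayPt} (hx : IsPoint x) (hy : IsPoint y) :
    ∃ m ∈ X.C, m ∈ normalizer (A0 D : Set G) ∧ m * X.dX x * m⁻¹ = X.dX y := by
  obtain ⟨g, hA, hB, hC, hg⟩ := move_point hx hy
  obtain ⟨m, hm, hmN, hlab⟩ := X.perm_C hA hB hC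
  refine ⟨m, hm, hmN, ?_⟩
  rw [dX, ← Thom.conj_mul, hlab, hlab, hA, hB, hC, hg]
  rfl

theorem exists_x0 : ∃ x0, IsPoint x0 ∧ z = X.dX x0 := X.exists_point X.z_mem X.z_mem_A0

theorem dX_mem {x : Cfsg.GolayPt} (hx : IsPoint x) : X.dX x ∈ X.DD := by
  obtain ⟨x0, h0, e⟩ := X.exists_x0
  obtain ⟨m, hm, -, he⟩ := X.exists_move h0 hx
  exact ⟨m, hm, (congrArg (fun u => m * u * m⁻¹) e).trans he⟩

theorem mul_nS {x y : Cfsg.GolayPt} (h : x ≠ y) : X.dX x * X.dX y ∈ nS D := by
  rw [X.dX_mul]; exact X.L.mem x y h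

theorem pair_not_z {x y : Cfsg.GolayPt} : ¬ IsConj z (X.dX x * X.dX y) := by
  by_cases h : x = y
  · rw [h, X.dX_sq]; exact not_conj_one D
  · exact ((mem_nS D).1 (X.mul_nS h)).2.2

theorem ev_six {x y w : Cfsg.GolayPt} (hx : IsPoint x) (hy : IsPoint y) (hw : IsPoint w) (hxy : x ≠ y)
    (hxw : x ≠ w) (hyw : y ≠ w) :
    X.dX x * X.dX y * X.dX w = X.L.ev {ptA, ptB, ptC, x, y, w} := by
  obtain ⟨h1, h2, h3⟩ := abc_ne
  obtain ⟨x1, x2, x3⟩ := hx
  obtain ⟨y1, y2, y3⟩ := hy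
  obtain ⟨w1, w2, w3⟩ := hw
  rw [X.pair_union h1 (by simp [h3, x1.symm, y1.symm, w1.symm]) (by simp [h2, x2.symm, y2.symm, w2.symm]),
    X.pair_union x3.symm (by simp [y3.symm, w3.symm]) (by simp [hxy, hxw]), X.L.pair _ _ hyw, ← mul_assoc]
  show _ = X.dX x * X.L.lab y w
  rw [mul_assoc, X.dX_mul]

/-- A triangle or a line. -/
theorem triple_iff {x y w : Cfsg.GolayPt} (hx : IsPoint x) (hy : IsPoint y) (hw : IsPoint w) (hxy : x ≠ y)
    (hxw : x ≠ w) (hyw : y ≠ w) :
    (¬ IsConj z (X.dX x * X.dX y * X.dX w) ↔ OnLine x y w) ∧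
      (OnLine x y w → ∃ r t, IsPoint r ∧ IsPoint t ∧ r ≠ t ∧ X.dX x * X.dX y * X.dX w = X.dX r * X.dX t) := by
  classical
  obtain ⟨h1, h2, h3⟩ := abc_ne
  have hline : OnLine x y w →
      ∃ r t, IsPoint r ∧ IsPoint t ∧ r ≠ t ∧ X.dX x * X.dX y * X.dX w = X.dX r * X.dX t := by
    rintro ⟨o, ho, hs⟩
    have hc : ({ptA, ptB, ptC, x, y, w} : Finset Cfsg.GolayPt).card = 6 := by
      obtain ⟨x1, x2, x3⟩ := hx
      obtain ⟨y1, y2, y3⟩ := hy
      obtain ⟨w1, w2, w3⟩ := hw
      simp [Finset.card_insert_of_notMem, h1, h2, h3, x1.symm, x2.symm, x3.symm, y1.symm, y2.symm, y3.symm,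
        w1.symm, w2.symm, w3.symm, hxy, hxw, hyw]
    obtain ⟨r, t, hrt, e⟩ := Finset.card_eq_two.1 (show (o \ {ptA, ptB, ptC, x, y, w}).card = 2 by
      rw [card_three ho hs, hc])
    have hnot : ∀ p ∈ o \ ({ptA, ptB, ptC, x, y, w} : Finset Cfsg.GolayPt), IsPoint p := by
      intro p hp
      have := (Finset.mem_sdiff.1 hp).2
      simp only [Finset.mem_insert, Finset.mem_singleton, not_or] at this
      exact ⟨this.1, this.2.1, this.2.2.1⟩
    refine ⟨r, t, hnot r (by simp [e]), hnot t (by simp [e]), hrt, ?_⟩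
    rw [X.ev_six hx hy hw hxy hxw hyw, X.dX_mul, ← X.L.pair r t hrt, ← e]
    have h := X.L.octad o ho
    rw [← Finset.union_sdiff_of_subset hs, ← Finset.sup_eq_union, ← disjoint_sdiff_self_right.symmDiff_eq_sup,
      X.L.ev_add] at h
    rw [eq_inv_of_mul_eq_one_left h, inv_eq_of_mul_eq_one_right (X.sq (X.L.ev_mem _))]
  refine ⟨⟨fun hz => ?_, fun h => ?_⟩, hline⟩
  · by_contra hn
    obtain ⟨o, ho, hs⟩ := exists_octad (s := ({ptA, ptB, ptC, x, y} : Finset Cfsg.GolayPt)) (Finset.card_le_five)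
    have hwo : w ∉ o := fun h => hn ⟨o, ho, fun p hp => by
      simp only [Finset.mem_insert, Finset.mem_singleton] at hp
      rcases hp with rfl | rfl | rfl | rfl | rfl | rfl
      exacts [hs (by simp), hs (by simp), hs (by simp), hs (by simp), hs (by simp), h]⟩
    refine hz ?_
    rw [X.ev_six hx hy hw hxy hxw hyw, ← one_mul (X.L.ev _), ← X.L.octad o ho, ← X.L.ev_add]
    refine X.L.four _ ?_
    rw [show symmDiff o {ptA, ptB, ptC, x, y, w} = insert w (o \ {ptA, ptB, ptC, x, y}) by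
      ext p
      simp only [Finset.mem_symmDiff, Finset.mem_insert, Finset.mem_sdiff, Finset.mem_singleton]
      by_cases hp : p ∈ o
      · have : p ≠ w := fun e => hwo (e ▸ hp)
        simp [hp, this]
      · have hns : p ∉ ({ptA, ptB, ptC, x, y} : Finset Cfsg.GolayPt) := fun h' => hp (hs h')
        simp only [Finset.mem_insert, Finset.mem_singleton, not_or] at hns
        simp [hp, hns.1, hns.2.1, hns.2.2.1, hns.2.2.2.1, hns.2.2.2.2]]
    rw [Finset.card_insert_of_notMem (fun h => hwo (Finset.mem_sdiff.1 h).1), card_three ho hs]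
    obtain ⟨x1, x2, x3⟩ := hx
    obtain ⟨y1, y2, y3⟩ := hy
    simp [Finset.card_insert_of_notMem, h1, h2, h3, x1.symm, x2.symm, x3.symm, y1.symm, y2.symm, y3.symm, hxy]
  · obtain ⟨r, t, -, -, -, e⟩ := hline h
    rw [e]
    exact X.pair_not_z

/-- The third point of a line. -/
theorem exists_third {x y : Cfsg.GolayPt} (hx : IsPoint x) (hy : IsPoint y) (hxy : x ≠ y) :
    ∃ w, IsPoint w ∧ x ≠ w ∧ y ≠ w ∧ OnLine x y w := by
  classical
  obtain ⟨o, ho, hs⟩ := exists_octad (s := ({ptA, ptB, ptC, x, y} : Finset Cfsg.GolayPt)) (Finset.card_le_five)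
  obtain ⟨w, hw⟩ := Finset.card_pos.1 (show 0 < (o \ {ptA, ptB, ptC, x, y}).card by
    have := card_three ho hs
    have := Finset.card_le_five (a := ptA) (b := ptB) (c := ptC) (d := x) (e := y)
    omega)
  obtain ⟨hwo, hn⟩ := Finset.mem_sdiff.1 hw
  simp only [Finset.mem_insert, Finset.mem_singleton, not_or] at hn
  refine ⟨w, ⟨hn.1, hn.2.1, hn.2.2.1⟩, Ne.symm hn.2.2.2.1, Ne.symm hn.2.2.2.2, o, ho, fun p hp => ?_⟩
  simp only [Finset.mem_insert, Finset.mem_singleton] at hp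
  rcases hp with rfl | rfl | rfl | rfl | rfl | rfl
  exacts [hs (by simp), hs (by simp), hs (by simp), hs (by simp), hs (by simp), hwo]

/-- Two lines meet. -/
theorem exists_meet (p q r t : Cfsg.GolayPt) :
    ∃ w, IsPoint w ∧ OnLine p q w ∧ OnLine r t w := by
  classical
  obtain ⟨o, ho, hs⟩ := exists_octad (s := ({ptA, ptB, ptC, p, q} : Finset Cfsg.GolayPt)) (Finset.card_le_five)
  obtain ⟨o', ho', hs'⟩ := exists_octad (s := ({ptA, ptB, ptC, r, t} : Finset Cfsg.GolayPt)) (Finset.card_le_five)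
  have habc : abc ⊆ o ∩ o' := by
    intro x hx
    simp only [abc, Finset.mem_insert, Finset.mem_singleton] at hx
    refine Finset.mem_inter.2 ?_
    rcases hx with rfl | rfl | rfl <;> exact ⟨hs (by simp), hs' (by simp)⟩
  have h4 := octad_inter ho ho' (card_abc ▸ Finset.card_le_card habc)
  obtain ⟨w, hw⟩ := Finset.card_pos.1 (show 0 < ((o ∩ o') \ abc).card by
    rw [Finset.card_sdiff_of_subset habc, card_abc]; omega)
  obtain ⟨hwi, hn⟩ := Finset.mem_sdiff.1 hw
  obtain ⟨hwo, hwo'⟩ := Finset.mem_inter.1 hwi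
  refine ⟨w, isPoint_iff.2 hn, ⟨o, ho, fun v hv => ?_⟩, o', ho', fun v hv => ?_⟩ <;>
    simp only [Finset.mem_insert, Finset.mem_singleton] at hv <;>
    rcases hv with rfl | rfl | rfl | rfl | rfl | rfl
  exacts [hs (by simp), hs (by simp), hs (by simp), hs (by simp), hs (by simp), hwo,
    hs' (by simp), hs' (by simp), hs' (by simp), hs' (by simp), hs' (by simp), hwo']

/-- A subgroup of index at most two contains a point. -/
theorem hyper_point {B : Subgroup G} (hB : ∀ p ∈ A0 D, ∀ q ∈ A0 D, p ∉ B → q ∉ B → p * q ∈ B) :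
    ∃ x, IsPoint x ∧ X.dX x ∈ B := by
  classical
  by_contra hno
  push Not at hno
  obtain ⟨o, ho, hs⟩ := exists_octad (s := abc) (by rw [card_abc]; norm_num)
  have hA : ptA ∈ o := hs (by simp [abc])
  have hBo : ptB ∈ o := hs (by simp [abc])
  have hC : ptC ∈ o := hs (by simp [abc])
  obtain ⟨v, hv⟩ : ∃ v : Fin 5 → Cfsg.GolayPt, Function.Injective v ∧ Finset.univ.image v = o \ abc := by
    have hc : (o \ abc).card = 5 := by rw [card_three ho hs, card_abc]
    refine ⟨fun i => ((o \ abc).equivFinOfCardEq hc).symm i,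
      fun i j h => ((o \ abc).equivFinOfCardEq hc).symm.injective (Subtype.ext h), ?_⟩
    ext x
    constructor
    · intro hx
      obtain ⟨i, -, rfl⟩ := Finset.mem_image.1 hx
      exact (((o \ abc).equivFinOfCardEq hc).symm i).2
    · exact fun hx => Finset.mem_image.2 ⟨(o \ abc).equivFinOfCardEq hc ⟨x, hx⟩, Finset.mem_univ _, by simp⟩
  obtain ⟨hvi, hvo⟩ := hv
  have hpt : ∀ i, IsPoint (v i) := fun i => by
    have : v i ∈ o \ abc := hvo ▸ Finset.mem_image_of_mem v (Finset.mem_univ i)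
    exact isPoint_iff.2 (Finset.mem_sdiff.1 this).2
  have hp : ∀ i j, X.L.lab (v i) (v j) ∈ B := fun i j => by
    rw [← X.dX_mul]
    exact hB _ (X.dX_A0 _) _ (X.dX_A0 _) (hno _ (hpt i)) (hno _ (hpt j))
  refine hno _ (hpt 0) ?_
  obtain ⟨h1, h2, h3⟩ := abc_ne
  have ho' : o = insert ptA (insert ptB (insert ptC (insert (v 0) (insert (v 1) (insert (v 2)
      (insert (v 3) {v 4})))))) := by
    have e : (Finset.univ : Finset (Fin 5)) = {0, 1, 2, 3, 4} := by decide
    rw [e] at hvo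
    simp only [Finset.image_insert, Finset.image_singleton] at hvo
    refine (Finset.union_sdiff_of_subset hs).symm.trans ?_
    rw [hvo]
    simp only [abc, Finset.insert_union, Finset.singleton_union]
  have hne : ∀ i j : Fin 5, i ≠ j → v i ≠ v j := fun i j h e => h (hvi e)
  have hev := X.L.octad o ho
  have n := fun i => hpt i
  rw [ho', X.pair_union h1 (by simp [h3, (n _).1.symm]) (by simp [h2, (n _).2.1.symm]),
    X.pair_union (n 0).2.2.symm (by simp [(n _).2.2.symm]) (by simp [hne]),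
    X.pair_union (hne 1 2 (by decide)) (by simp [hne]) (by simp [hne]), X.L.pair _ _ (hne 3 4 (by decide)),
    ← mul_assoc] at hev
  change X.dX (v 0) * _ = 1 at hev
  rw [eq_inv_of_mul_eq_one_left hev]
  exact inv_mem (mul_mem (hp 1 2) (hp 3 4))

theorem lab_E_sub : ∀ p q, p ∈ abc → q ∈ abc → X.L.lab p q ∈ X.E := by
  intro p q hp hq
  simp only [abc, Finset.mem_insert, Finset.mem_singleton] at hp hq
  rcases hp with rfl | rfl | rfl <;> rcases hq with rfl | rfl | rfl <;>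
    first
      | (rw [X.L.self]; exact one_mem _)
      | exact X.ab_E
      | exact X.bc_E
      | exact X.ac_E
      | (rw [X.L.symm]; first | exact X.ab_E | exact X.bc_E | exact X.ac_E)

/-- The abelian subgroup is generated by the four-group and the points. -/
theorem gen_A0 : A0 D ≤ closure ((X.E : Set G) ∪ {d | ∃ x, IsPoint x ∧ X.dX x = d}) := by
  classical
  set K := closure ((X.E : Set G) ∪ {d | ∃ x, IsPoint x ∧ X.dX x = d})
  have hE : ∀ g ∈ X.E, g ∈ K := fun g hg => subset_closure (Or.inl hg)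
  have hC : ∀ p, X.L.lab ptC p ∈ K := by
    intro p
    by_cases hp : IsPoint p
    · have e : X.L.lab ptC p = X.L.lab ptA ptB * X.dX p := by
        rw [dX, ← mul_assoc, X.lab_mul_self, one_mul]
      rw [e]
      exact mul_mem (hE _ X.ab_E) (subset_closure (Or.inr ⟨p, hp, rfl⟩))
    · exact hE _ (X.lab_E_sub _ _ (by simp [abc]) (by rwa [isPoint_iff, not_not] at hp))
  have hlab : ∀ p q, X.L.lab p q ∈ K := fun p q => by
    rw [← X.L.trans p ptC q, X.L.symm p ptC]; exact mul_mem (hC p) (hC q)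
  intro a ha
  by_cases h1 : a = 1
  · rw [h1]; exact one_mem _
  by_cases hz : IsConj z a
  · obtain ⟨s, hs, -, rfl⟩ := X.L.exists_four a ha hz ptA
    obtain ⟨p, q, r, t, hpq, hpr, hpt, hqr, hqt, hrt, rfl⟩ := Finset.card_eq_four.1 hs
    rw [X.pair_union hpq (by simp [hpr, hpt]) (by simp [hqr, hqt]), X.L.pair _ _ hrt]
    exact mul_mem (hlab _ _) (hlab _ _)
  · obtain ⟨p, q, -, rfl⟩ := X.L.exists_pair a ((mem_nS D).2 ⟨ha, h1, hz⟩)
    exact hlab p q

/-- The four-group lies in the subgroup generated by the products of two points. -/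
theorem E_gen {B : Subgroup G} (hB : ∀ x y, IsPoint x → IsPoint y → X.dX x * X.dX y ∈ B) : X.E ≤ B := by
  classical
  obtain ⟨h1, h2, h3⟩ := abc_ne
  obtain ⟨o, ho, hAo, hBo, hCo⟩ := exists_octad_two
  have hc : ((o.erase ptA).erase ptB).card = 6 := by
    rw [Finset.card_erase_of_mem (Finset.mem_erase.2 ⟨h1.symm, hBo⟩), Finset.card_erase_of_mem hAo,
      Golay.octad_card ho]
  let e := ((o.erase ptA).erase ptB).equivFinOfCardEq hc
  let v : Fin 6 → Cfsg.GolayPt := fun i => e.symm i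
  have hv : ∀ i, IsPoint (v i) ∧ v i ∈ o := fun i => by
    have := (e.symm i).2
    simp only [Finset.mem_erase] at this
    exact ⟨⟨this.2.1, this.1, fun e' => hCo (e' ▸ this.2.2)⟩, this.2.2⟩
  have hne : ∀ i j, i ≠ j → v i ≠ v j := fun i j h e' => h (e.symm.injective (Subtype.ext e'))
  have ho' : o = insert ptA (insert ptB (insert (v 0) (insert (v 1) (insert (v 2) (insert (v 3)
      (insert (v 4) {v 5})))))) := by
    refine (Finset.eq_of_subset_of_card_le ?_ ?_).symm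
    · simp [Finset.insert_subset_iff, hAo, hBo, fun i => (hv i).2]
    · simp [Finset.card_insert_of_notMem, Golay.octad_card ho, h1, hne, fun i => (hv i).1.1.symm,
        fun i => (hv i).1.2.1.symm]
  have hev := X.L.octad o ho
  rw [ho', X.pair_union h1 (by simp [fun i => (hv i).1.1.symm]) (by simp [fun i => (hv i).1.2.1.symm]),
    X.pair_union (hne 0 1 (by decide)) (by simp [hne]) (by simp [hne]),
    X.pair_union (hne 2 3 (by decide)) (by simp [hne]) (by simp [hne]),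
    X.L.pair _ _ (hne 4 5 (by decide))] at hev
  have hlab : ∀ i j, X.L.lab (v i) (v j) ∈ B := fun i j => X.dX_mul _ _ ▸ hB _ _ (hv i).1 (hv j).1
  have hAB : X.L.lab ptA ptB ∈ B := by
    rw [eq_inv_of_mul_eq_one_left hev]
    exact inv_mem (mul_mem (hlab _ _) (mul_mem (hlab _ _) (hlab _ _)))
  -- the second generator by a permutation of the three points
  obtain ⟨g', g1', g2', g3'⟩ := move_three ptC ptA ptB h3.symm h1 h2.symm
  have ho2 := octad_image ho (g'⁻¹)
  set o2 := o.image ((g'⁻¹ : Cfsg.M24) : Equiv.Perm Cfsg.GolayPt)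
  have hmem : ∀ p, p ∈ o2 ↔ (g' : Equiv.Perm Cfsg.GolayPt) p ∈ o := by
    intro p
    simp only [o2, Finset.mem_image, Subgroup.coe_inv]
    constructor
    · rintro ⟨q, hq, rfl⟩; simpa using hq
    · intro hp; exact ⟨_, hp, by simp⟩
  have hC2 : ptC ∈ o2 := (hmem _).2 (g1' ▸ hAo)
  have hA2 : ptA ∈ o2 := (hmem _).2 (g2' ▸ hBo)
  have hB2 : ptB ∉ o2 := fun h => hCo (g3' ▸ (hmem _).1 h)
  have hc2 : ((o2.erase ptA).erase ptC).card = 6 := by
    rw [Finset.card_erase_of_mem (Finset.mem_erase.2 ⟨h3.symm, hC2⟩), Finset.card_erase_of_mem hA2,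
      Golay.octad_card ho2]
  let e2 := ((o2.erase ptA).erase ptC).equivFinOfCardEq hc2
  let w : Fin 6 → Cfsg.GolayPt := fun i => e2.symm i
  have hw : ∀ i, IsPoint (w i) ∧ w i ∈ o2 := fun i => by
    have := (e2.symm i).2
    simp only [Finset.mem_erase] at this
    exact ⟨⟨this.2.1, fun e' => hB2 (e' ▸ this.2.2), this.1⟩, this.2.2⟩
  have hnew : ∀ i j, i ≠ j → w i ≠ w j := fun i j h e' => h (e2.symm.injective (Subtype.ext e'))
  have ho2' : o2 = insert ptA (insert ptC (insert (w 0) (insert (w 1) (insert (w 2) (insert (w 3)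
      (insert (w 4) {w 5})))))) := by
    refine (Finset.eq_of_subset_of_card_le ?_ ?_).symm
    · simp [Finset.insert_subset_iff, hA2, hC2, fun i => (hw i).2]
    · simp [Finset.card_insert_of_notMem, Golay.octad_card ho2, h3, hnew, fun i => (hw i).1.1.symm,
        fun i => (hw i).1.2.2.symm]
  have hev2 := X.L.octad o2 ho2
  rw [ho2', X.pair_union h3 (by simp [fun i => (hw i).1.1.symm]) (by simp [fun i => (hw i).1.2.2.symm]),
    X.pair_union (hnew 0 1 (by decide)) (by simp [hnew]) (by simp [hnew]),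
    X.pair_union (hnew 2 3 (by decide)) (by simp [hnew]) (by simp [hnew]),
    X.L.pair _ _ (hnew 4 5 (by decide))] at hev2
  have hlab2 : ∀ i j, X.L.lab (w i) (w j) ∈ B := fun i j => X.dX_mul _ _ ▸ hB _ _ (hw i).1 (hw j).1
  have hAC : X.L.lab ptA ptC ∈ B := by
    rw [eq_inv_of_mul_eq_one_left hev2]
    exact inv_mem (mul_mem (hlab2 _ _) (mul_mem (hlab2 _ _) (hlab2 _ _)))
  rintro _ (rfl | rfl | rfl | rfl)
  exacts [one_mem _, hAB, by rw [← X.L.trans ptB ptA ptC, X.L.symm ptB ptA]; exact mul_mem hAB hAC, hAC]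

end Ctx

end CfsgLib.FiLarge.U62
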