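import Cfsg.Agent.FiLarge.U62.Descent
import Cfsg.Agent.Golay.Quartet

/-!
No subgroup of the abelian group avoids all members and pairs and meets every translate of a pair in a
six-element set: a finite search in the code.
-/

set_option autoImplicit false
set_option quotPrecheck false
set_option maxRecDepth 100000
set_option linter.style.haveILetI false
set_option linter.unusedSectionVars false

namespace CfsgLib.FiLarge.U62

open CfsgLib Subgroup CfsgLib.FiLarge.Thom

/-- The representative of a mask without bits among the lowest twelve. -/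
def syn (m : ℕ) : ℕ := m ^^^ Golay.word (m % 4096)

/-- The masks of the four-group. -/
def eMasks : List ℕ := [0, 3, 6, 5]

/-- The positions of the points. -/
def ptIdx : List ℕ := (List.range 21).map (· + 3)

/-- The masks of the members and pairs. -/
def badMasks : List ℕ :=
  (ptIdx.flatMap fun w => eMasks.map fun s => (7 ^^^ 2 ^ w) ^^^ s) ++
    ptIdx.flatMap fun i => (ptIdx.filter fun j => decide (i < j)).flatMap fun j =>
      eMasks.map fun s => (2 ^ i ^^^ 2 ^ j) ^^^ s

/-- Their syndromes as a set of bits. -/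
def badBits : ℕ := 0x649401460941000009480000020201440840049944148108669009261901261000416091401619014080800000216000421411661001201498406498600699240141401106928100448000201900020002008004810860948801000004008900428690440141401080006408000211060920421002008000620010000040221009404481461401200290100281010000441609461900040619600499221609284014914211016000004042800406800010006491609411086094886610096491669699461861461689684081069609441100441126108909649408460928069491492491669699416096904201296290620498441100441690286091201619660949448962968001461401221101600800041806100002061900040160941100029689621161609009404488401491408000049024100020441609401000649100060022012004040120629800000026004800012010800964040824110044101008408800900048000000268908401002040840002100941100441820101968468689069941600609410001401619040820040860000049441481061001201009416690629291206494014000416091000009201008201408400490421411668909620166921109448600240141401964061906992022129949441964961960448699408960629401414018009211648808669064901969649619641161668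

theorem badBits_eq : (badMasks.map fun m => syn m / 4096).foldr (fun k a => 2 ^ k ||| a) 0 = badBits := by
  decide +kernel

theorem rows_octads : ∀ i < 12, Golay.wt 24 (Golay.word (2 ^ i)) = 8 ∧ Golay.word (2 ^ i) = Golay.rows.getD i 0 := by
  decide +kernel

/-- A member or a pair. -/
def isBad (m : ℕ) : Bool := badBits.testBit (syn m / 4096)

/-- The six-element masks over a pair. -/
def opts (x y : ℕ) : List ℕ :=
  (ptIdx.filter fun e => decide (e ≠ x ∧ e ≠ y)).map fun e => 7 ^^^ 2 ^ x ^^^ 2 ^ y ^^^ 2 ^ e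

/-- The search. -/
def search : List (List ℕ) → List ℕ → Bool
  | [], _ => false
  | os :: rest, acc => os.all fun s =>
      (acc.map (· ^^^ s)).any isBad || search rest (acc ++ acc.map (· ^^^ s))

theorem search_spec : search [opts 3 18, opts 3 20, opts 3 21] [0] = true := by decide +kernel

theorem search_sound {P : ℕ → Prop} (hmul : ∀ a b, P a → P b → P (a ^^^ b))
    (hbad : ∀ a, P a → isBad a = false) :
    ∀ (L : List (List ℕ)) (acc : List ℕ), (∀ os ∈ L, ∃ s ∈ os, P s) → (∀ a ∈ acc, P a) → search L acc = false := by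
  intro L
  induction L with
  | nil => intros; rfl
  | cons os rest ih =>
    intro acc hL hacc
    obtain ⟨s, hs, hPs⟩ := hL os List.mem_cons_self
    have hnew : ∀ a ∈ acc.map (· ^^^ s), P a := by
      intro a ha
      obtain ⟨b, hb, rfl⟩ := List.mem_map.1 ha
      exact hmul _ _ (hacc b hb) hPs
    rw [search, List.all_eq_false]
    refine ⟨s, hs, ?_⟩
    rw [Bool.or_eq_true, not_or, Bool.not_eq_true, Bool.not_eq_true, List.any_eq_false]
    exact ⟨fun a ha => by rw [hbad a (hnew a ha)]; exact Bool.false_ne_true,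
      ih _ (fun o ho => hL o (List.mem_cons_of_mem _ ho)) fun a ha =>
        (List.mem_append.1 ha).elim (hacc a) (hnew a)⟩

theorem exists_of_testBit : ∀ (L : List ℕ) (k : ℕ), (L.foldr (fun j a => 2 ^ j ||| a) 0).testBit k = true → k ∈ L := by
  intro L
  induction L with
  | nil => intro k h; simp at h
  | cons j L ih =>
    intro k h
    rw [List.foldr_cons, Nat.testBit_lor, Bool.or_eq_true, Nat.testBit_two_pow, decide_eq_true_iff] at h
    rcases h with rfl | h
    · exact List.mem_cons_self
    · exact List.mem_cons_of_mem _ (ih k h)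

theorem pts_xor (a b : ℕ) : Golay.pts (a ^^^ b) = symmDiff (Golay.pts a) (Golay.pts b) := by
  ext p
  simp only [Finset.mem_symmDiff, Golay.pts, Finset.mem_filter, Finset.mem_univ, true_and, Nat.testBit_xor]
  cases a.testBit (Golay.idx p) <;> cases b.testBit (Golay.idx p) <;> simp

theorem pts_e : Golay.pts 0 = ∅ ∧ Golay.pts 3 = {ptA, ptB} ∧ Golay.pts 6 = {ptB, ptC} ∧
    Golay.pts 5 = {ptA, ptC} := by
  decide +kernel

theorem pts_member : ∀ w ∈ ptIdx, Golay.pts (7 ^^^ 2 ^ w) = {ptA, ptB, ptC, Golay.pt w} ∧ IsPoint (Golay.pt w) := by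
  unfold IsPoint; decide +kernel

theorem pts_pair : ∀ i ∈ ptIdx, ∀ j ∈ ptIdx, i < j →
    Golay.pts (2 ^ i ^^^ 2 ^ j) = {Golay.pt i, Golay.pt j} ∧ Golay.pt i ≠ Golay.pt j := by
  decide +kernel

theorem pts_six : ∀ y ∈ [18, 20, 21], ∀ e ∈ ptIdx, e ≠ 3 → e ≠ y →
    Golay.pts (7 ^^^ 2 ^ 3 ^^^ 2 ^ y ^^^ 2 ^ e) = {ptA, ptB, ptC, Golay.pt 3, Golay.pt y, Golay.pt e} := by
  decide +kernel

theorem pt_three : IsPoint (Golay.pt 3) ∧ ∀ y ∈ [18, 20, 21], IsPoint (Golay.pt y) ∧ Golay.pt 3 ≠ Golay.pt y := by
  unfold IsPoint; decide +kernel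

theorem point_idx : ∀ p : Cfsg.GolayPt, IsPoint p → Golay.idx p ∈ ptIdx := by
  unfold IsPoint; decide +kernel

variable {G : Type*} [Group G] [Finite G] {z : G} {Q : Subgroup (centralizer ({z} : Set G))} [Q.Normal]
  {D : Dat z Q}

namespace Ctx

variable (X : Ctx D)

/-- The element of a mask. -/
def fm (m : ℕ) : G := X.L.ev (Golay.pts m)

theorem fm_xor (a b : ℕ) : X.fm (a ^^^ b) = X.fm a * X.fm b := by rw [fm, fm, fm, pts_xor, X.L.ev_add]

theorem fm_zero : X.fm 0 = 1 := by
  have h := X.fm_xor 0 0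
  rw [Nat.zero_xor] at h
  exact mul_eq_left.1 h.symm

theorem fm_word (c : ℕ) : X.fm (Golay.word c) = 1 := by
  have hrow : ∀ r ∈ Golay.rows, X.fm r = 1 := by
    intro r hr
    obtain ⟨i, hi, rfl⟩ := List.mem_iff_getElem.1 hr
    have hi' : i < 12 := hi
    obtain ⟨h8, he⟩ := rows_octads i hi'
    rw [← List.getD_eq_getElem Golay.rows 0 hi, ← he]
    exact X.L.octad _ (Golay.Cert.octad_word
      (Nat.pow_lt_pow_right (by norm_num) (show i < 12 from hi') |>.trans_le (by norm_num)) h8)
  have : ∀ (L : List ℕ), (∀ r ∈ L, X.fm r = 1) → ∀ c, X.fm (Golay.comb L c) = 1 := by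
    intro L
    induction L with
    | nil => intro _ c; exact X.fm_zero
    | cons r rs ih =>
      intro h c
      rw [Golay.comb, X.fm_xor, ih (fun x hx => h x (List.mem_cons_of_mem _ hx)), mul_one]
      split
      · exact h r List.mem_cons_self
      · exact X.fm_zero
  exact this _ hrow c

theorem syn_low (m : ℕ) : syn m % 4096 = 0 := by
  have key : ∀ c < 4096, Golay.word c % 4096 = c := by decide +kernel
  have e : ∀ a b : ℕ, (a ^^^ b) % 4096 = (a % 4096) ^^^ (b % 4096) := fun a b => Nat.xor_mod_two_pow (n := 12)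
  rw [syn, e, key _ (Nat.mod_lt _ (by norm_num)), Nat.xor_self]

theorem fm_syn (m : ℕ) : X.fm (syn m) = X.fm m := by rw [syn, X.fm_xor, X.fm_word, mul_one]

theorem fm_e : ∀ s ∈ eMasks, X.fm s ∈ X.E := by
  obtain ⟨e0, e1, e2, e3⟩ := pts_e
  obtain ⟨n1, n2, n3⟩ := abc_ne
  intro s hs
  simp only [eMasks, List.mem_cons, List.not_mem_nil, or_false] at hs
  rcases hs with rfl | rfl | rfl | rfl
  · rw [X.fm_zero]; exact one_mem _
  · rw [fm, e1, X.L.pair _ _ n1]; exact X.ab_E
  · rw [fm, e2, X.L.pair _ _ n2]; exact X.bc_E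
  · rw [fm, e3, X.L.pair _ _ n3]; exact X.ac_E

theorem bad_cases {m : ℕ} (h : isBad m = true) :
    (∃ x, IsPoint x ∧ ∃ s ∈ X.E, X.fm m = X.dX x * s) ∨
      ∃ x y, IsPoint x ∧ IsPoint y ∧ x ≠ y ∧ ∃ s ∈ X.E, X.fm m = X.dX x * X.dX y * s := by
  rw [isBad, ← badBits_eq] at h
  obtain ⟨b, hb, e⟩ := List.mem_map.1 (exists_of_testBit _ _ h)
  have e' : syn b = syn m := by
    have h1 := syn_low b
    have h2 := syn_low m
    omega
  rw [← X.fm_syn m, ← e', X.fm_syn]
  simp only [badMasks, List.mem_append, List.mem_flatMap, List.mem_map] at hb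
  rcases hb with ⟨w, hw, s, hs, rfl⟩ | ⟨i, hi, j, hj, s, hs, rfl⟩
  · obtain ⟨hp, hw'⟩ := pts_member w hw
    refine Or.inl ⟨_, hw', _, X.fm_e s hs, ?_⟩
    rw [X.fm_xor]
    congr 1
    rw [fm, hp, X.pair_union abc_ne.1 (by simp [abc_ne.2.2, hw'.1.symm]) (by simp [abc_ne.2.1, hw'.2.1.symm]),
      X.L.pair _ _ hw'.2.2.symm, dX]
  · obtain ⟨hj1, hj2⟩ := List.mem_filter.1 hj
    obtain ⟨hp, hne⟩ := pts_pair i hi j hj1 (of_decide_eq_true hj2)
    refine Or.inr ⟨_, _, (pts_member i hi).2, (pts_member j hj1).2, hne, _, X.fm_e s hs, ?_⟩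
    rw [X.fm_xor]
    congr 1
    rw [fm, hp, X.L.pair _ _ hne, X.dX_mul]

/-- The family of the descent is empty. -/
theorem no_fam (V : Subgroup G) : ¬ X.Fam V := by
  induction V using WellFoundedGT.induction with | _ V ih => ?_
  intro hV
  obtain ⟨h1, h2⟩ := X.fam_avoid hV
  have hP : ∀ a, X.fm a ∈ V → isBad a = false := by
    intro a ha
    by_contra hb
    rcases X.bad_cases ((Bool.not_eq_false _).mp hb) with ⟨x, hx, s, hs, e⟩ | ⟨x, y, hx, hy, hxy, s, hs, e⟩
    · exact h1 x hx s hs (e ▸ ha)
    · exact h2 x y hx hy hxy s hs (e ▸ ha)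
  have hopt : ∀ y ∈ [18, 20, 21], ∃ s ∈ opts 3 y, X.fm s ∈ V := by
    intro y hy
    obtain ⟨h3, hy'⟩ := pt_three
    obtain ⟨e, he, ne1, ne2, hmem⟩ := X.pair_step hV (fun V' h => ih V' h) h3 (hy' y hy).1 (hy' y hy).2
    have hei := point_idx e he
    have n1 : Golay.idx e ≠ 3 := fun q => ne1 (by rw [← Golay.pt_idx e, q])
    have n2 : Golay.idx e ≠ y := fun q => ne2 (by rw [← Golay.pt_idx e, q])
    refine ⟨_, List.mem_map.2 ⟨Golay.idx e, List.mem_filter.2 ⟨hei, decide_eq_true ⟨n1, n2⟩⟩, rfl⟩, ?_⟩
    rwa [fm, pts_six y hy _ hei n1 n2, Golay.pt_idx, ← X.ev_six h3 (hy' y hy).1 he (hy' y hy).2 ne1.symm ne2.symm]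
  have h := search_sound (P := fun a => X.fm a ∈ V) (fun a b ha hb => X.fm_xor a b ▸ mul_mem ha hb) hP
    [opts 3 18, opts 3 20, opts 3 21] [0]
    (by
      intro os hos
      simp only [List.mem_cons, List.not_mem_nil, or_false] at hos
      rcases hos with rfl | rfl | rfl
      exacts [hopt 18 (by simp), hopt 20 (by simp), hopt 21 (by simp)])
    (by intro a ha; rw [List.mem_singleton.1 ha]; show X.fm 0 ∈ V; rw [X.fm_zero]; exact one_mem _)
  rw [search_spec] at h
  exact Bool.noConfusion h

/-- The component is the whole class. -/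
theorem C_le_N : X.C ≤ X.N := by
  intro g hg
  by_contra hgN
  exact X.no_fam X.E ⟨le_rfl, X.E_le_A0, ⟨g, hg, hgN⟩, Or.inl rfl⟩

theorem C_Om {g : G} (hg : g ∈ X.C) {x : G} (hx : x ∈ X.Om) : g * x * g⁻¹ ∈ X.Om := X.N_stab (X.C_le_N hg) hx

end Ctx

end CfsgLib.FiLarge.U62
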