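import Cfsg.Agent.FiLarge.U62.Group
import Cfsg.Agent.ZStar.Final
import Cfsg.Agent.Signalizer.Basic
import Cfsg.Agent.Invol.Isolated
import Cfsg.Agent.Invol.Dihedral

/-!
The stabiliser of the component contains the centraliser of every product of two commuting members.
-/

set_option autoImplicit false
set_option quotPrecheck false
set_option maxRecDepth 100000
set_option linter.style.haveILetI false
set_option linter.unusedSectionVars false

namespace CfsgLib.FiLarge.U62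

open CfsgLib Subgroup CfsgLib.FiLarge.Thom
open CfsgLib.FiLarge.Dat (val)

variable {G : Type*} [Group G] [Finite G] {z : G} {Q : Subgroup (centralizer ({z} : Set G))} [Q.Normal]
  {D : Dat z Q}

namespace Ctx

variable (X : Ctx D)

theorem conj_Om {g : G} (hg : g ∈ X.C) (h : g * z * g⁻¹ ∈ X.Om) {x : G} (hx : x ∈ X.Om) :
    g * x * g⁻¹ ∈ X.Om := by
  obtain ⟨v, hv, h1, h2⟩ := hx.2
  have hv' : g * v * g⁻¹ ∈ X.Om :=
    X.Om_step h (X.DD_conj hv hg) ((ThreeT.commute_conj_iff g _ _).2 h1.symm)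
  exact X.Om_step hv' (X.DD_conj hx.1 hg) ((ThreeT.commute_conj_iff g _ _).2 h2)

/-- The stabiliser of the component in the centraliser. -/
def N : Subgroup G where
  carrier := {g | g ∈ X.C ∧ g * z * g⁻¹ ∈ X.Om}
  one_mem' := ⟨one_mem _, by simpa using X.z_Om⟩
  mul_mem' := fun {a b} ha hb => ⟨mul_mem ha.1 hb.1, by
    rw [show a * b * z * (a * b)⁻¹ = a * (b * z * b⁻¹) * a⁻¹ by group]
    exact X.conj_Om ha.1 ha.2 hb.2⟩
  inv_mem' := fun {a} ha => ⟨inv_mem ha.1, by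
    obtain ⟨v, hv, h1, h2⟩ := ha.2.2
    have hv' : v ∈ X.Om := X.Om_KK hv h1
    have e : a⁻¹ * (a * z * a⁻¹) * a⁻¹⁻¹ = z := by group
    have c1 : Commute z (a⁻¹ * v * a⁻¹⁻¹) := by
      have := (ThreeT.commute_conj_iff a⁻¹ _ _).2 h2.symm
      rwa [e] at this
    have hw : a⁻¹ * v * a⁻¹⁻¹ ∈ X.Om := X.Om_step X.z_Om (X.DD_conj hv (inv_mem ha.1)) c1
    exact X.Om_step hw (X.DD_conj X.z_mem (inv_mem ha.1)) ((ThreeT.commute_conj_iff a⁻¹ _ _).2 h1)⟩

theorem mem_N {g : G} : g ∈ X.N ↔ g ∈ X.C ∧ g * z * g⁻¹ ∈ X.Om := Iff.rfl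

theorem N_C {g : G} (hg : g ∈ X.N) : g ∈ X.C := hg.1

theorem N_stab {g : G} (hg : g ∈ X.N) {x : G} (hx : x ∈ X.Om) : g * x * g⁻¹ ∈ X.Om := X.conj_Om hg.1 hg.2 hx

/-- An element carrying some member into the component stabilises it. -/
theorem mem_N_of {g w : G} (hg : g ∈ X.C) (hw : w ∈ X.Om) (h : g * w * g⁻¹ ∈ X.Om) : g ∈ X.N := by
  refine ⟨hg, ?_⟩
  obtain ⟨v, hv, h1, h2⟩ := hw.2
  have hv' : g * v * g⁻¹ ∈ X.Om :=
    X.Om_step h (X.DD_conj hv hg) ((ThreeT.commute_conj_iff g _ _).2 h2.symm)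
  exact X.Om_step hv' (X.DD_conj X.z_mem hg) ((ThreeT.commute_conj_iff g _ _).2 h1)

theorem cent_N {g w : G} (hg : g ∈ X.C) (hw : w ∈ X.Om) (h : Commute g w) : g ∈ X.N :=
  X.mem_N_of hg hw (by rwa [h.eq, mul_inv_cancel_right])

theorem KK_N : X.KK ≤ X.N := fun _ hg => X.cent_N hg.1 X.z_Om (X.KK_z hg)

theorem A0_N : A0 D ≤ X.N := X.A0_le_KK.trans X.KK_N

theorem Om_N {x : G} (hx : x ∈ X.Om) : x ∈ X.N := X.cent_N (X.DD_C hx.1) hx (Commute.refl x)

theorem E_N : X.E ≤ X.N := X.E_le_A0.trans X.A0_N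

theorem DD_A0_Om {d : G} (hd : d ∈ X.DD) (hA : d ∈ A0 D) : d ∈ X.Om :=
  X.Om_KK hd (X.comm hA X.z_mem_A0)

theorem dX_Om {x : Cfsg.GolayPt} (hx : IsPoint x) : X.dX x ∈ X.Om := X.DD_A0_Om (X.dX_mem hx) (X.dX_A0 x)

theorem Om_of_N {d : G} (hd : d ∈ X.DD) (hN : d ∈ X.N) : d ∈ X.Om :=
  X.DD_stab hd fun _ hx => X.N_stab hN hx

/-- The stabiliser controls the fusion of the members of the component. -/
theorem mem_N_of_conj {g x : G} (hg : g ∈ X.C) (hx : x ∈ X.Om) (h : g * x * g⁻¹ ∈ X.N) : g ∈ X.N :=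
  X.mem_N_of hg hx (X.Om_of_N (X.DD_conj hx.1 hg) h)

/-- Two-subgroups of the centraliser meeting the component lie in the stabiliser. -/
theorem two_N {P : Subgroup G} (hPC : P ≤ X.C) (hP : IsPGroup 2 P) {x : G} (hx : x ∈ X.Om) (hxP : x ∈ P) :
    P ≤ X.N := by
  haveI : Fact (Nat.Prime 2) := ⟨Nat.prime_two⟩
  haveI := hP.isNilpotent
  rw [← subgroupOf_eq_top]
  by_contra hne
  obtain ⟨g, hg, hgn⟩ :=
    SetLike.exists_of_lt (Group.normalizerCondition_of_isNilpotent _ (lt_top_iff_ne_top.2 hne))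
  refine hgn (mem_subgroupOf.2 (X.mem_N_of_conj (hPC g.2) hx ?_))
  exact mem_subgroupOf.1 ((mem_normalizer_iff.1 hg ⟨x, hxP⟩).1 (mem_subgroupOf.2 (X.Om_N hx)))

theorem triple_point {a b c e : Cfsg.GolayPt} (hab : a ≠ b)
    (h : X.dX a * X.dX b * X.dX c = X.dX e) : c = a ∨ c = b := by
  by_contra hc
  push Not at hc
  obtain ⟨hca, hcb⟩ := hc
  have h2 : X.dX a * X.dX b = X.dX e * X.dX c := by rw [← h, mul_assoc _ (X.dX c), X.dX_sq, mul_one]
  by_cases hea : e = a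
  · rw [hea] at h2
    exact hcb (X.dX_inj (mul_left_cancel h2)).symm
  by_cases heb : e = b
  · rw [heb, (X.dX_comm b c).eq] at h2
    exact hca (X.dX_inj (mul_right_cancel h2)).symm
  have hec : e ≠ c := fun q => by
    rw [q, X.dX_sq] at h2
    exact ((mem_nS D).1 (X.mul_nS hab)).2.1 h2
  have h4 := X.four_z (p := a) (q := b) (r := e) (t := c) (by
    simp [Finset.card_insert_of_notMem, hab, Ne.symm hea, Ne.symm heb, hca.symm, hcb.symm, hec])
  rw [← X.dX_mul, ← X.dX_mul, h2, ← h2, X.sq (mul_mem (X.dX_A0 a) (X.dX_A0 b))] at h4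
  exact not_conj_one D h4

/-- The conjugates of a member of a commuting pair in the centraliser of their product. -/
theorem pair_fusion {x y g : G} (hx : x ∈ X.Om) (hy : y ∈ X.Om) (hxy : x ≠ y) (cxy : Commute x y)
    (hg : g ∈ X.C) (hc : Commute g (x * y)) (hn : g * x * g⁻¹ ∈ X.N) :
    g * x * g⁻¹ = x ∨ g * x * g⁻¹ = y := by
  have hgN := X.mem_N_of_conj hg hx hn
  have hx' := X.N_stab hgN hx
  have hu : g * (x * y) * g⁻¹ = x * y := by rw [hc.eq, mul_inv_cancel_right]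
  have hcu : Commute (x * y) (g * x * g⁻¹) := by
    rw [← hu, ThreeT.commute_conj_iff]
    exact (Commute.refl x).mul_left cxy.symm
  obtain ⟨c1, c2⟩ := (ThreeT.commute_mul_iff X.Om_closed.tts hx hy hx' cxy hxy).1 hcu
  obtain ⟨k, hk, k1, k2, k3⟩ := X.triple_A0 hx.1 hy.1 hx'.1 cxy c1 c2
  obtain ⟨a, -, ea⟩ := X.exists_point (X.DD_conj hx.1 hk) k1
  obtain ⟨b, -, eb⟩ := X.exists_point (X.DD_conj hy.1 hk) k2
  obtain ⟨c, -, ec⟩ := X.exists_point (X.DD_conj hx'.1 hk) k3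
  have hab : a ≠ b := fun e => hxy (mul_left_cancel (mul_right_cancel (ea.trans ((congrArg X.dX e).trans eb.symm))))
  -- the triple product is the conjugate of the second member
  have h3 : x * y * (g * x * g⁻¹) = g * y * g⁻¹ := by
    nth_rw 1 [← hu]
    calc g * (x * y) * g⁻¹ * (g * x * g⁻¹) = g * (x * y * x) * g⁻¹ := by group
      _ = _ := by rw [(X.Om_closed.fix_iff hx y).2 cxy]
  have hd : X.dX a * X.dX b * X.dX c ∈ X.DD := by
    rw [← ea, ← eb, ← ec, Thom.conj_mul, Thom.conj_mul, h3]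
    exact X.DD_conj (X.DD_conj hy.1 hg) hk
  obtain ⟨e, -, he⟩ := X.exists_point hd (mul_mem (mul_mem (X.dX_A0 a) (X.dX_A0 b)) (X.dX_A0 c))
  rcases X.triple_point hab he with q | q
  · exact Or.inl (mul_left_cancel (mul_right_cancel (ec.trans ((congrArg X.dX q).trans ea.symm))))
  · exact Or.inr (mul_left_cancel (mul_right_cancel (ec.trans ((congrArg X.dX q).trans eb.symm))))

theorem pair_cent_A0 {a b : Cfsg.GolayPt} (ha : IsPoint a) (hb : IsPoint b) (hab : a ≠ b) {g : G}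
    (hg : g ∈ X.C) (hgu : Commute g (X.dX a * X.dX b)) : g ∈ X.N := by
  classical
  haveI : Fact (Nat.Prime 2) := ⟨Nat.prime_two⟩
  set x := X.dX a
  set y := X.dX b
  set u := x * y with hudef
  have huA : u ∈ A0 D := mul_mem (X.dX_A0 a) (X.dX_A0 b)
  set L : Subgroup G := X.C ⊓ centralizer ({u} : Set G) with hL
  have memL : ∀ {k}, k ∈ L ↔ k ∈ X.C ∧ Commute k u := fun {k} => by
    rw [hL, mem_inf, mem_centralizer_singleton_iff]; exact Iff.rfl
  have hAL : A0 D ≤ L := fun k hk => memL.2 ⟨X.A0_le_C hk, X.comm hk huA⟩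
  set U : Subgroup ↥L := (zpowers u).subgroupOf L with hU
  have hsq : u * u = 1 := X.sq huA
  have memU : ∀ {k : ↥L}, k ∈ U → (k : G) = 1 ∨ (k : G) = u := fun {k} hk => by
    obtain ⟨i, hi⟩ := mem_zpowers_iff.1 (mem_subgroupOf.1 hk)
    rcases Int.even_or_odd' i with ⟨j, rfl | rfl⟩
    · left; rw [← hi, zpow_mul, zpow_ofNat, pow_two, hsq, one_zpow]
    · right; rw [← hi, zpow_add, zpow_mul, zpow_ofNat, pow_two, hsq, one_zpow, one_mul, zpow_one]
  have hUn : U.Normal := ⟨fun n hn k => by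
    have hkn : Commute (k : G) n := by
      rcases memU hn with e | e <;> rw [e]
      exacts [Commute.one_right _, (memL.1 k.2).2]
    have e : k * n * k⁻¹ = n := Subtype.ext (by simpa using mul_inv_eq_iff_eq_mul.2 hkn.eq)
    rw [e]; exact hn⟩
  set π := QuotientGroup.mk' U
  have hxL : x ∈ L := hAL (X.dX_A0 a)
  have hxO := X.dX_Om ha
  have hyO := X.dX_Om hb
  have hxy : x ≠ y := fun e => hab (X.dX_inj e)
  -- a Sylow subgroup inside the stabiliser
  have hp : IsPGroup 2 ((A0 D).subgroupOf L) := fun k => ⟨1, Subtype.ext (Subtype.ext (by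
    rw [pow_one, SubgroupClass.coe_pow, SubgroupClass.coe_pow, pow_two]
    exact X.sq (mem_subgroupOf.1 k.2)))⟩
  obtain ⟨P, hP⟩ := hp.exists_le_sylow
  have hPN : ∀ k ∈ (P : Subgroup ↥L), (k : G) ∈ X.N := fun k hk =>
    X.two_N (P := (P : Subgroup ↥L).map L.subtype)
      (by rintro _ ⟨m, -, rfl⟩; exact (memL.1 m.2).1) (P.isPGroup'.map _) hxO
      ⟨⟨x, hxL⟩, hP (mem_subgroupOf.2 (X.dX_A0 a)), rfl⟩ ⟨k, hk, rfl⟩
  have hUN : ∀ {k : ↥L}, k ∈ U → (k : G) ∈ X.N := fun {k} hk => by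
    rcases memU hk with e | e <;> rw [e]
    exacts [one_mem _, X.A0_N huA]
  have hπ : ∀ {k m : ↥L}, π k = π m → (m : G) ∈ X.N → (k : G) ∈ X.N := fun {k m} e hm => by
    have := hUN ((QuotientGroup.eq.1 e.symm : m⁻¹ * k ∈ U))
    rw [show (k : G) = m * ((m⁻¹ * k : ↥L) : G) by simp]
    exact mul_mem hm this
  -- the image of the member is isolated
  set xb := π ⟨x, hxL⟩
  have hxb : orderOf xb = 2 := by
    refine Invol.orderOf_eq_two (by rw [← map_mul, show (⟨x, hxL⟩ : ↥L) * ⟨x, hxL⟩ = 1 from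
      Subtype.ext (X.dX_sq a), map_one]) fun e => ?_
    rcases memU ((QuotientGroup.eq_one_iff _).1 e) with q | q
    · exact X.DD_ne hxO.1 q
    · exact X.DD_ne hyO.1 (mul_left_cancel (q.symm.trans (mul_one x).symm))
  have hiso : Cfsg.IsIsolatedInvolution xb := by
    refine Invol.isolated_of_sylow (P.mapSurjective (QuotientGroup.mk'_surjective U)) hxb fun q hq => ?_
    obtain ⟨k, rfl⟩ := QuotientGroup.mk'_surjective U q
    rw [← map_inv, ← map_mul, ← map_mul] at hq ⊢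
    obtain ⟨m, hm, em⟩ := hq
    have hn : (k : G) * x * (k : G)⁻¹ ∈ X.N := hπ em.symm (hPN m hm)
    rcases X.pair_fusion hxO hyO hxy (X.dX_comm a b) (memL.1 k.2).1 (memL.1 k.2).2 hn with e | e
    · exact congrArg π (Subtype.ext (e : ((k * ⟨x, hxL⟩ * k⁻¹ : ↥L) : G) = x))
    · refine QuotientGroup.eq.2 (mem_subgroupOf.2 ?_)
      show ((k : G) * x * (k : G)⁻¹)⁻¹ * x ∈ zpowers u
      rw [e, X.DD_inv hyO.1, (X.dX_comm b a).eq]
      exact mem_zpowers u
  obtain ⟨M, hMn, hModd, hM⟩ := ZStar.zstar hiso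
  -- the odd subgroup lies over the stabiliser
  set A : Subgroup (↥L ⧸ U) := ((A0 D).subgroupOf L).map π
  have hA : Cfsg.IsElementaryAbelian 2 A := by
    refine ⟨⟨⟨?_⟩⟩, ?_⟩
    · rintro ⟨_, k, hk, rfl⟩ ⟨_, m, hm, rfl⟩
      refine Subtype.ext ?_
      show π k * π m = π m * π k
      rw [← map_mul, ← map_mul, show k * m = m * k from
        Subtype.ext (X.comm (mem_subgroupOf.1 hk) (mem_subgroupOf.1 hm)).eq]
    · rintro _ ⟨k, hk, rfl⟩
      rw [← map_pow, show k ^ 2 = 1 from Subtype.ext (by simpa [pow_two] using X.sq (mem_subgroupOf.1 hk)),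
        map_one]
  have hMle : M ≤ (X.N.subgroupOf L).map π := by
    refine Signalizer.le_of_forall_hyperplane hA (fun k _ => mem_normalizer_iff.2 fun m =>
      ⟨fun hm => hMn.conj_mem m hm k, fun hm => by simpa [mul_assoc] using hMn.conj_mem _ hm k⁻¹⟩)
      (Nat.two_dvd_ne_zero.2 (Nat.odd_iff.1 hModd)) fun B hBA hBi => ?_
    set B' : Subgroup G := (B.comap π).map L.subtype
    obtain ⟨w, hw, hwB⟩ := X.hyper_point (B := B') (by
      intro p hp q hq hpB hqB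
      refine ⟨⟨p * q, hAL (mul_mem hp hq)⟩, ?_, rfl⟩
      show π (⟨p, hAL hp⟩ * ⟨q, hAL hq⟩) ∈ B
      rw [map_mul]
      have hpA : π ⟨p, hAL hp⟩ ∈ A := mem_map_of_mem π (mem_subgroupOf.2 hp)
      have hqA : π ⟨q, hAL hq⟩ ∈ A := mem_map_of_mem π (mem_subgroupOf.2 hq)
      have hp' : π ⟨p, hAL hp⟩ ∉ B := fun h => hpB ⟨_, h, rfl⟩
      have hq' : π ⟨q, hAL hq⟩ ∉ B := fun h => hqB ⟨_, h, rfl⟩
      have hne0 : (B.subgroupOf A).index ≠ 0 := index_ne_zero_of_finite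
      change (B.subgroupOf A).index ≤ 2 at hBi
      interval_cases hi : (B.subgroupOf A).index
      · exact absurd rfl hne0
      · exact absurd (mem_subgroupOf.1 ((index_eq_one.1 hi).symm ▸ mem_top (⟨_, hpA⟩ : ↥A))) hp'
      · exact mem_subgroupOf.1 ((mul_mem_iff_of_index_two hi).2
          (show (⟨_, hpA⟩ : ↥A) ∈ B.subgroupOf A ↔ ⟨_, hqA⟩ ∈ B.subgroupOf A from
            iff_of_false (fun h => hp' (mem_subgroupOf.1 h)) fun h => hq' (mem_subgroupOf.1 h))))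
    obtain ⟨w', hw', ew⟩ := hwB
    rintro q ⟨-, hq⟩
    obtain ⟨k, rfl⟩ := QuotientGroup.mk'_surjective U q
    refine mem_map_of_mem π (mem_subgroupOf.2 (X.mem_N_of_conj (memL.1 k.2).1 (X.dX_Om hw) ?_))
    have hwN : (w' : G) ∈ X.N := by
      rw [show (w' : G) = X.dX w from ew]; exact X.Om_N (X.dX_Om hw)
    have e : π (k * w' * k⁻¹) = π w' := by
      rw [map_mul, map_mul, map_inv, ← mem_centralizer_iff.1 hq (π w') hw', mul_inv_cancel_right]
    have h5 := hπ e hwN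
    rwa [show ((k * w' * k⁻¹ : ↥L) : G) = (k : G) * X.dX w * (k : G)⁻¹ by simp [← ew]] at h5
  -- conclusion
  have hgL : g ∈ L := memL.2 ⟨hg, hgu⟩
  obtain ⟨m, hm, em⟩ := hMle (hM (π ⟨g, hgL⟩))
  have hc : x * g * x⁻¹ * g⁻¹ ∈ X.N := hπ (k := ⟨x, hxL⟩ * ⟨g, hgL⟩ * ⟨x, hxL⟩⁻¹ * ⟨g, hgL⟩⁻¹)
    (by rw [em, map_mul, map_mul, map_mul, map_inv, map_inv]) (mem_subgroupOf.1 hm)
  refine X.mem_N_of_conj hg hxO ?_
  have := mul_mem (inv_mem (X.Om_N hxO)) hc
  rw [show x⁻¹ * (x * g * x⁻¹ * g⁻¹) = g * x⁻¹ * g⁻¹ by group, X.DD_inv hxO.1] at this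
  exact this

/-- The centraliser of a product of two commuting members stabilises the component. -/
theorem pair_cent {x y g : G} (hx : x ∈ X.Om) (hy : y ∈ X.Om) (hxy : x ≠ y) (cxy : Commute x y)
    (hg : g ∈ X.C) (hgu : Commute g (x * y)) : g ∈ X.N := by
  obtain ⟨k, hk, k1, k2, -⟩ := X.triple_A0 hx.1 hy.1 hy.1 cxy cxy (Commute.refl y)
  have hkN : k ∈ X.N := X.mem_N_of hk hx (X.DD_A0_Om (X.DD_conj hx.1 hk) k1)
  obtain ⟨a, ha, ea⟩ := X.exists_point (X.DD_conj hx.1 hk) k1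
  obtain ⟨b, hb, eb⟩ := X.exists_point (X.DD_conj hy.1 hk) k2
  have hab : a ≠ b := fun e => hxy (mul_left_cancel (mul_right_cancel (ea.trans ((congrArg X.dX e).trans eb.symm))))
  have h := X.pair_cent_A0 ha hb hab (g := k * g * k⁻¹) (mul_mem (mul_mem hk hg) (inv_mem hk))
    (by rw [← ea, ← eb, Thom.conj_mul]; exact (ThreeT.commute_conj_iff k _ _).2 hgu)
  have e : g = k⁻¹ * (k * g * k⁻¹) * k := by group
  rw [e]
  exact mul_mem (mul_mem (inv_mem hkN) h) hkN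

/-- A conjugate of a product of two commuting members in the stabiliser. -/
theorem pair_conj {x y g : G} (hx : x ∈ X.Om) (hy : y ∈ X.Om) (hxy : x ≠ y) (cxy : Commute x y)
    (hg : g ∈ X.C) (h : g * (x * y) * g⁻¹ ∈ X.N) : g ∈ X.N := by
  have hsq : (g * (x * y) * g⁻¹) * (g * (x * y) * g⁻¹) = 1 := by
    rw [Thom.conj_mul, show x * y * (x * y) = 1 by
      rw [mul_assoc, ← mul_assoc y, cxy.symm.eq, mul_assoc x y y, X.DD_sq hy.1, mul_one, X.DD_sq hx.1],
      mul_one, mul_inv_cancel]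
  obtain ⟨w, hw, hc⟩ := X.exists_fixed_point hsq fun v hv => X.N_stab h hv
  have h2 : g⁻¹ * w * g⁻¹⁻¹ ∈ X.N := by
    refine X.pair_cent hx hy hxy cxy (mul_mem (mul_mem (inv_mem hg) (X.DD_C hw.1)) (inv_mem (inv_mem hg))) ?_
    have := (ThreeT.commute_conj_iff g⁻¹ _ _).2 hc.symm
    rwa [show g⁻¹ * (g * (x * y) * g⁻¹) * g⁻¹⁻¹ = x * y by group] at this
  simpa using inv_mem (X.mem_N_of_conj (inv_mem hg) hw h2)

end Ctx

end CfsgLib.FiLarge.U62
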