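import Cfsg.Agent.FiLarge.U62.Stab

/-!
A member commuting with the product of a triangle lies in the abelian subgroup.
-/

set_option autoImplicit false
set_option quotPrecheck false
set_option maxRecDepth 100000
set_option linter.style.haveILetI false
set_option linter.unusedSectionVars false

open scoped Matrix

namespace CfsgLib.FiLarge.U62

open CfsgLib Subgroup Matrix CfsgLib.Unitary CfsgLib.FiLarge.Thom
open CfsgLib.FiLarge.Dat (val)

theorem plane_two : InPl ![1, 1, 0, 0] ∧ InPl ![0, 0, 1, 1] := by unfold InPl; decide +kernel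

theorem perp_two : ∀ q : V4, h4 q ![1, 1, 0, 0] = 0 → h4 q ![0, 0, 1, 1] = 0 → q 0 = q 1 ∧ q 2 = q 3 := by
  decide +kernel

theorem plane_coeff : ∀ s t b c b' c' : F4, s * (b * b) + t * (c * c) = 0 → s * (b' * b') + t * (c' * c') = 0 →
    b * c' = b' * c ∨ (s = 0 ∧ t = 0) := by
  decide +kernel

theorem plane_multiple : ∀ b c b' c' : F4, ¬ (b = 0 ∧ c = 0) → ¬ (b' = 0 ∧ c' = 0) → b * c' = b' * c →
    ∃ k : F4, k ≠ 0 ∧ b' = k * b ∧ c' = k * c := by
  decide +kernel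

theorem h4_plane {q p : V4} (hp : InPl p) :
    h4 q p = (q 0 + q 1) * (p 0 * p 0) + (q 2 + q 3) * (p 2 * p 2) := by
  rw [h4, ← hp.2.1, ← hp.2.2]; ring

/-- A point orthogonal to two points of the plane lies in it. -/
theorem perp_inPl {q p1 p2 : V4} (hq : IsPt4 q) (h1 : InPl p1) (h2 : InPl p2) (hne : tvp p1 ≠ tvp p2)
    (o1 : h4 q p1 = 0) (o2 : h4 q p2 = 0) : InPl q := by
  rw [h4_plane h1] at o1
  rw [h4_plane h2] at o2
  rcases plane_coeff _ _ _ _ _ _ o1 o2 with h | ⟨h, h'⟩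
  · exfalso
    have nz : ∀ p, InPl p → ¬ (p 0 = 0 ∧ p 2 = 0) := fun p hp hh => hp.1.1 (funext fun i => by
      fin_cases i <;> simp [hh.1, hh.2, ← hp.2.1, ← hp.2.2])
    obtain ⟨k, hk, e1, e2⟩ := plane_multiple _ _ _ _ (nz p1 h1) (nz p2 h2) h
    refine hne ?_
    have e : p2 = k • p1 := funext fun i => by
      fin_cases i <;> simp [← h1.2.1, ← h1.2.2, ← h2.2.1, ← h2.2.2, e1, e2]
    rw [e, tvp_smul h1.1 hk]
  · exact ⟨hq, eq_of_add_F4 _ _ h, eq_of_add_F4 _ _ h'⟩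

variable {G : Type*} [Group G] [Finite G] {z : G} {Q : Subgroup (centralizer ({z} : Set G))} [Q.Normal]
  {D : Dat z Q}

namespace Ctx

variable (X : Ctx D)

/-- The abelian subgroup sees only the points of the plane. -/
theorem A0_fib {q : V4} (hq : IsPt4 q) {d : G} (hd : d ∈ X.fib q) (hA : d ∈ A0 D) : InPl q := by
  obtain ⟨i1, i2⟩ := plane_two
  obtain ⟨a, ha⟩ := X.fib_nonempty i1.1
  obtain ⟨b, hb⟩ := X.fib_nonempty i2.1
  obtain ⟨h1, h2⟩ := perp_two q ((X.fib_comm hq i1.1 hd ha).1 (X.comm hA (X.plane_A0 i1 ha)))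
    ((X.fib_comm hq i2.1 hd hb).1 (X.comm hA (X.plane_A0 i2 hb)))
  exact ⟨hq, h1, h2⟩

/-- A point moves to the centre inside the normaliser of the abelian subgroup. -/
theorem norm_move {p : Cfsg.GolayPt} (hp : IsPoint p) :
    ∃ g ∈ X.C, g ∈ normalizer (A0 D : Set G) ∧ g * X.dX p * g⁻¹ = z := by
  obtain ⟨x0, h0, hz⟩ := X.exists_x0
  obtain ⟨g, hg, hgN, he⟩ := X.exists_move hp h0
  exact ⟨g, hg, hgN, he.trans hz.symm⟩

theorem conj_A0_iff {g a : G} (hg : g ∈ normalizer (A0 D : Set G)) : g * a * g⁻¹ ∈ A0 D ↔ a ∈ A0 D :=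
  (mem_normalizer_iff.1 hg a).symm

/-- The plane is closed under lines. -/
theorem lin_A0 {pa pb : Cfsg.GolayPt} (ha : IsPoint pa) (hb : IsPoint pb) (hab : pa ≠ pb) {w : G} (hw : w ∈ X.DD)
    (hwa : w ≠ X.dX pa) (hwb : w ≠ X.dX pb) (h : Lin (z := z) (X.dX pa) (X.dX pb) w) : w ∈ A0 D := by
  obtain ⟨h1, h2, h3⟩ := (h.resolve_left hwa).resolve_left hwb
  obtain ⟨g, hg, hgN, he⟩ := X.norm_move ha
  have hbK := X.view_mem hg he (X.dX_mem hb) (X.dX_comm pb pa)
  have hwK := X.view_mem hg he hw h2.symm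
  have hbz := view_ne he (fun e => hab (X.dX_inj e).symm)
  have hwz := view_ne he hwa
  have hphEq := X.same_ph (X.DD_conj (X.dX_mem hb) hg) hbK hbz (X.DD_conj hw hg) hwK hwz
    (fun e => hwb (mul_left_cancel (mul_right_cancel e)).symm) ((ThreeT.commute_conj_iff g _ _).2 h3)
    (fun q => h1 ((conj_z_conj g _).1 (by
      rw [← Thom.conj_mul g (X.dX pa * X.dX pb) w, ← Thom.conj_mul g (X.dX pa) (X.dX pb)]
      exact (congrArg (fun u => IsConj z (u * (g * X.dX pb * g⁻¹) * (g * w * g⁻¹))) he).mpr q)))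
  obtain ⟨q, hq, hf⟩ := X.exists_fib (X.DD_conj (X.dX_mem hb) hg) hbK hbz
  have hqP := X.A0_fib hq hf ((conj_A0_iff hgN).2 (X.dX_A0 pb))
  exact (conj_A0_iff hgN).1 (X.plane_A0 hqP ⟨X.DD_conj hw hg, hwK, hphEq.symm.trans hf.2.2⟩)

/-- A member commuting with the product of a triangle commutes with a vertex. -/
theorem tri_commute {pa pb pd : Cfsg.GolayPt} (ha : IsPoint pa) (hb : IsPoint pb) (hd : IsPoint pd)
    (hab : pa ≠ pb) (had : pa ≠ pd) (hbd : pb ≠ pd) (hz : IsConj z (X.dX pa * X.dX pb * X.dX pd)) {e : G}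
    (he : e ∈ X.Om) (hc : Commute e (X.dX pa * X.dX pb * X.dX pd)) : Commute e (X.dX pa) := by
  by_contra hea
  set a := X.dX pa
  set b := X.dX pb
  set d := X.dX pd
  have haO := X.dX_Om ha
  have hbO := X.dX_Om hb
  have hdO := X.dX_Om hd
  have cab : Commute a b := X.dX_comm pa pb
  have cad : Commute a d := X.dX_comm pa pd
  have cbd : Commute b d := X.dX_comm pb pd
  have hab' : a ≠ b := fun q => hab (X.dX_inj q)
  -- a common neighbour
  obtain ⟨v, hv, cva, cve⟩ := X.Om_near haO he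
  obtain ⟨t, ht, hta, cta, ctv, ctb⟩ := X.common haO.1 hv hbO.1 cva cab.symm
  obtain ⟨u, hu, cua, cub, cue⟩ : ∃ u ∈ X.DD, Commute u a ∧ Commute u b ∧ Commute u e := by
    by_cases cte : Commute t e
    · exact ⟨t, ht, cta, ctb, cte⟩
    obtain ⟨u, hu, cue, hl⟩ := X.gamma hv ht haO.1 he.1 ctv.symm cva cve cta hta fun q => cte q.symm
    exact ⟨u, hu, (X.lin_commute ht haO.1 hu haO.1 hta cta hl cta.symm (Commute.refl a)).symm,
      (X.lin_commute ht haO.1 hu hbO.1 hta cta hl ctb.symm cab.symm).symm, cue⟩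
  obtain ⟨w, hw, cwe, hl⟩ := X.gamma hu haO.1 hbO.1 he.1 cua cub cue cab hab' hea
  have key : ∀ p r q : G, p ∈ X.Om → r ∈ X.Om → Commute p r → p ≠ r → p * r = a * b * d * q → Commute e q →
      Commute p e := fun p r q hp hr hpr hne e1 hq =>
    ((ThreeT.commute_mul_iff X.Om_closed.tts hp hr he hpr hne).1 (e1 ▸ (hc.mul_right hq).symm)).1
  have hwa : w ≠ a := fun q => hea (q ▸ cwe.symm)
  have hwb : w ≠ b := fun q => hea (key a d b haO hdO cad (fun q => had (X.dX_inj q))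
    (by rw [mul_assoc, cbd.symm.eq, ← mul_assoc, mul_assoc a b b, X.dX_sq, mul_one]) (q ▸ cwe.symm)).symm
  have hwA := X.lin_A0 ha hb hab hw hwa hwb hl
  obtain ⟨h1, h2, h3⟩ := (hl.resolve_left hwa).resolve_left hwb
  obtain ⟨pw, hpw, ew⟩ := X.exists_point hw hwA
  obtain ⟨g, hg, hgN, hgw⟩ := X.norm_move hpw
  rw [← ew] at hgw
  have hdw : d ≠ w := fun q => h1 (q ▸ hz)
  have hew : e ≠ w := fun q => hea (q.symm ▸ h2.symm)
  have haK := X.view_mem hg hgw haO.1 h2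
  have hbK := X.view_mem hg hgw hbO.1 h3
  have hdK := X.view_mem hg hgw hdO.1 (X.comm (X.dX_A0 pd) hwA)
  have heK := X.view_mem hg hgw he.1 cwe.symm
  have hphEq := X.same_ph (X.DD_conj haO.1 hg) haK (view_ne hgw hwa.symm) (X.DD_conj hbO.1 hg) hbK
    (view_ne hgw hwb.symm) (fun q => hab' (mul_left_cancel (mul_right_cancel q)))
    ((ThreeT.commute_conj_iff g _ _).2 cab) (fun q => h1 ((conj_z_conj g _).1 (by
      rw [show a * b * w = w * a * b by
          rw [mul_assoc, h3.eq, ← mul_assoc, h2.eq],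
        ← Thom.conj_mul g (w * a) b, ← Thom.conj_mul g w a]
      exact (congrArg (fun u => IsConj z (u * (g * a * g⁻¹) * (g * b * g⁻¹))) hgw).mpr q)))
  obtain ⟨r, hr, hfe⟩ := X.exists_fib (X.DD_conj he.1 hg) heK (view_ne hgw hew)
  obtain ⟨q, hq, hfd⟩ := X.exists_fib (X.DD_conj hdO.1 hg) hdK (view_ne hgw hdw)
  have hcK : g * (a * b * d) * g⁻¹ ∈ X.KK := by
    rw [← Thom.conj_mul, ← Thom.conj_mul]; exact mul_mem (mul_mem haK hbK) hdK
  have hphc : X.ph (g * (a * b * d) * g⁻¹) = tvp q := by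
    rw [← Thom.conj_mul, ← Thom.conj_mul, X.ph_mul (mul_mem haK hbK) hdK, X.ph_mul haK hbK, hphEq,
      ← X.ph_mul hbK hbK, X.DD_sq (X.DD_conj hbO.1 hg), X.ph_one, one_mul, hfd.2.2]
  have hh := X.ph_commute heK hcK ((ThreeT.commute_conj_iff g _ _).2 hc)
  rw [hphc, hfe.2.2, tvp_comm_iff hr hq] at hh
  have ced : Commute e d := (ThreeT.commute_conj_iff g _ _).1 ((X.fib_comm hr hq hfe hfd).2 hh)
  exact hea (key a b d haO hbO cab hab' (by rw [mul_assoc (a * b) d d, X.dX_sq, mul_one]) ced).symm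

/-- A member commuting with the product of a triangle lies in the abelian subgroup. -/
theorem tri_A0 {pa pb pd : Cfsg.GolayPt} (ha : IsPoint pa) (hb : IsPoint pb) (hd : IsPoint pd)
    (hab : pa ≠ pb) (had : pa ≠ pd) (hbd : pb ≠ pd) (hz : IsConj z (X.dX pa * X.dX pb * X.dX pd)) {e : G}
    (he : e ∈ X.Om) (hc : Commute e (X.dX pa * X.dX pb * X.dX pd)) : e ∈ A0 D := by
  set a := X.dX pa
  set b := X.dX pb
  set d := X.dX pd
  have p1 : b * a * d = a * b * d := by rw [(X.dX_comm pb pa).eq]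
  have p2 : d * b * a = a * b * d := by
    rw [(X.dX_comm pd pb).eq, (X.comm (mul_mem (X.dX_A0 pb) (X.dX_A0 pd)) (X.dX_A0 pa)).eq, mul_assoc]
  have cea := X.tri_commute ha hb hd hab had hbd hz he hc
  have ceb := X.tri_commute hb ha hd hab.symm hbd had (p1 ▸ hz) he (p1 ▸ hc)
  have ced := X.tri_commute hd hb ha hbd.symm had.symm hab.symm (p2 ▸ hz) he (p2 ▸ hc)
  by_cases hea : e = a
  · exact hea ▸ X.dX_A0 pa
  obtain ⟨g, hg, hgN, hga⟩ := X.norm_move ha
  refine (conj_A0_iff hgN).1 ?_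
  have hbA := (conj_A0_iff hgN).2 (X.dX_A0 pb)
  have hdA := (conj_A0_iff hgN).2 (X.dX_A0 pd)
  have hbD := X.DD_conj (X.dX_mem hb) hg
  have hdD := X.DD_conj (X.dX_mem hd) hg
  have hbz := view_ne hga (fun q => hab (X.dX_inj q).symm)
  have hdz := view_ne hga (fun q => had (X.dX_inj q).symm)
  obtain ⟨q1, hq1, hf1⟩ := X.exists_fib hbD (X.A0_le_KK hbA) hbz
  obtain ⟨q2, hq2, hf2⟩ := X.exists_fib hdD (X.A0_le_KK hdA) hdz
  have heK := X.view_mem hg hga he.1 cea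
  obtain ⟨r, hr, hfe⟩ := X.exists_fib (X.DD_conj he.1 hg) heK (view_ne hga hea)
  have hne : tvp q1 ≠ tvp q2 := by
    intro hq
    obtain ⟨x0, h0, hz0⟩ := X.exists_x0
    obtain ⟨x, hx, ex⟩ := X.exists_point hbD hbA
    obtain ⟨y, hy, ey⟩ := X.exists_point hdD hdA
    have hx0 : x0 ≠ x := fun q => hbz (by rw [ex, ← q]; exact hz0.symm)
    have hy0 : x0 ≠ y := fun q => hdz (by rw [ey, ← q]; exact hz0.symm)
    have hxy : x ≠ y := fun q => hbd (X.dX_inj (mul_left_cancel (mul_right_cancel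
      (ex.trans ((congrArg X.dX q).trans ey.symm)))))
    have hl := (X.line_ph h0 hz0 hx hy hx0 hy0 hxy).2 (by rw [← ex, ← ey, hf1.2.2, hf2.2.2, hq])
    refine (X.triple_iff h0 hx hy hx0 hy0 hxy).1.2 hl ?_
    have := (conj_z_conj g (a * b * d)).2 hz
    rw [← Thom.conj_mul, ← Thom.conj_mul] at this
    have e2 := (congrArg (fun u => IsConj z (u * (g * b * g⁻¹) * (g * d * g⁻¹))) (hga.trans hz0)).mp this
    rwa [ex, ey] at e2
  exact X.plane_A0 (perp_inPl hr (X.A0_fib hq1 hf1 hbA) (X.A0_fib hq2 hf2 hdA) hne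
    ((X.fib_comm hr hq1 hfe hf1).1 ((ThreeT.commute_conj_iff g _ _).2 ceb))
    ((X.fib_comm hr hq2 hfe hf2).1 ((ThreeT.commute_conj_iff g _ _).2 ced))) hfe

end Ctx

end CfsgLib.FiLarge.U62
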