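import Cfsg.Agent.FiLarge.Thom.Stabs
import Cfsg.Agent.Unitary.InvolClass

/-!
Transvections of the four-dimensional unitary group over four elements and the geometry of their points.
-/

set_option autoImplicit false
set_option maxRecDepth 100000
set_option linter.style.haveILetI false
set_option linter.unusedSectionVars false

open scoped Matrix

namespace CfsgLib.FiLarge.U62

open CfsgLib Matrix
open CfsgLib.Unitary CfsgLib.Unitary.Invol CfsgLib.FiLarge.Thom

/-- The four-dimensional space. -/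
abbrev V4 : Type := Fin 4 → F4

/-- The hermitian form. -/
def h4 (u v : V4) : F4 := u 0 * (v 0 * v 0) + u 1 * (v 1 * v 1) + u 2 * (v 2 * v 2) + u 3 * (v 3 * v 3)

theorem h4_eq (u v : V4) : Cfsg.hermForm 4 F4 2 u v = h4 u v := by
  simp [Cfsg.hermForm, h4, Fin.sum_univ_four, pow_two]

/-- An isotropic point. -/
def IsPt4 (p : V4) : Prop := p ≠ 0 ∧ h4 p p = 0

instance (p : V4) : Decidable (IsPt4 p) := by unfold IsPt4; infer_instance

instance f4CharTwo : CharP F4 2 := CharTwo.of_one_ne_zero_of_two_eq_zero one_ne_zero (by decide +kernel)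

theorem f4_inv : ∀ c : F4, c ≠ 0 → c * c * c = 1 := by decide +kernel

theorem f4_sq_add' : ∀ x y : F4, (x + y) * (x + y) = x * x + y * y := by decide +kernel

theorem v4_self (x : V4) : x + x = 0 := funext fun i => add_self_F4 _

theorem h4_add_left (u v w : V4) : h4 (u + v) w = h4 u w + h4 v w := by simp only [h4, Pi.add_apply]; ring

theorem h4_smul_left (c : F4) (u w : V4) : h4 (c • u) w = c * h4 u w := by
  simp only [h4, Pi.smul_apply, smul_eq_mul]; ring

theorem h4_smul_right (c : F4) (u w : V4) : h4 u (c • w) = c * c * h4 u w := by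
  simp only [h4, Pi.smul_apply, smul_eq_mul]; ring

theorem h4_add_right (u v w : V4) : h4 u (v + w) = h4 u v + h4 u w := by
  simp only [h4, Pi.add_apply, f4_sq_add']; ring

theorem h4_swap (u v : V4) : h4 v u = h4 u v * h4 u v := by
  have key : ∀ a b : F4, b * (a * a) = a * (b * b) * (a * (b * b)) := by decide +kernel
  simp only [h4, f4_sq_add']
  rw [← key, ← key, ← key, ← key]

theorem h4_zero_iff {u v : V4} : h4 u v = 0 ↔ h4 v u = 0 := by
  rw [h4_swap u v, mul_self_eq_zero]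

theorem exists_h4_ne {p : V4} (hp : p ≠ 0) : ∃ x, h4 x p ≠ 0 := by
  obtain ⟨i, hi⟩ := Function.ne_iff.1 hp
  refine ⟨Pi.single i 1, ?_⟩
  have hi' : p i ≠ 0 := hi
  fin_cases i <;> simp [h4] <;> simpa using hi'

/-- The matrix of a transvection. -/
def tmat (p : V4) : Matrix (Fin 4) (Fin 4) F4 :=
  Matrix.of fun i j => (if i = j then 1 else 0) + p i * (p j * p j)

theorem tmat_isU : ∀ p : V4, IsPt4 p → IsU (tmat p) := by decide +kernel

/-- The transvection at a point. -/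
noncomputable def tvp (p : V4) : Cfsg.SU 4 F4 2 := if h : IsPt4 p then suElt (tmat p) (tmat_isU p h) else 1

theorem tvp_mat {p : V4} (hp : IsPt4 p) : suMat (tvp p) = tmat p := by
  rw [tvp, dif_pos hp]; rfl

theorem tvp_apply {p : V4} (hp : IsPt4 p) (x : V4) : suMat (tvp p) *ᵥ x = x + h4 x p • p := by
  rw [tvp_mat hp]
  funext i
  simp only [Matrix.mulVec, dotProduct, tmat, Matrix.of_apply, Fin.sum_univ_four, Pi.add_apply, Pi.smul_apply,
    smul_eq_mul, h4]
  fin_cases i <;> simp <;> ring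

theorem tvp_self {p : V4} (hp : IsPt4 p) : suMat (tvp p) *ᵥ p = p := by
  rw [tvp_apply hp, hp.2, zero_smul, add_zero]

theorem tvp_sq {p : V4} (hp : IsPt4 p) : tvp p * tvp p = 1 := su_ext fun x => by
  rw [suMat_mul, ← Matrix.mulVec_mulVec, tvp_apply hp x, Matrix.mulVec_add, Matrix.mulVec_smul, tvp_self hp,
    tvp_apply hp x, suMat_one, Matrix.one_mulVec, add_assoc, v4_self, add_zero]

theorem tvp_inv {p : V4} (hp : IsPt4 p) : (tvp p)⁻¹ = tvp p := inv_eq_of_mul_eq_one_right (tvp_sq hp)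

theorem tvp_ne_one {p : V4} (hp : IsPt4 p) : tvp p ≠ 1 := fun e => by
  obtain ⟨x, hx⟩ := exists_h4_ne hp.1
  have h := congrArg (fun g => suMat g *ᵥ x) e
  simp only [tvp_apply hp, suMat_one, Matrix.one_mulVec, add_eq_left, smul_eq_zero] at h
  exact h.elim hx hp.1

theorem pt_smul {p : V4} (hp : IsPt4 p) {c : F4} (hc : c ≠ 0) : IsPt4 (c • p) :=
  ⟨smul_ne_zero hc hp.1, by rw [h4_smul_left, h4_smul_right, hp.2, mul_zero, mul_zero]⟩

theorem pt_map {p : V4} (hp : IsPt4 p) (g : Cfsg.SU 4 F4 2) : IsPt4 (suMat g *ᵥ p) := by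
  refine ⟨fun e => hp.1 ?_, ?_⟩
  · have h := congrArg (fun y => suMat g⁻¹ *ᵥ y) e
    simpa only [Matrix.mulVec_mulVec, ← suMat_mul, inv_mul_cancel, suMat_one, Matrix.one_mulVec,
      Matrix.mulVec_zero] using h
  · rw [← h4_eq, su_preserves, h4_eq, hp.2]

theorem tvp_smul {p : V4} (hp : IsPt4 p) {c : F4} (hc : c ≠ 0) : tvp (c • p) = tvp p := su_ext fun x => by
  rw [tvp_apply (pt_smul hp hc), tvp_apply hp, h4_smul_right, smul_smul,
    show c * c * h4 x p * c = h4 x p * (c * c * c) by ring, f4_inv c hc, mul_one]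

theorem tvp_conj {p : V4} (hp : IsPt4 p) (g : Cfsg.SU 4 F4 2) : g * tvp p * g⁻¹ = tvp (suMat g *ᵥ p) := by
  refine su_ext fun x => ?_
  rw [suMat_mul, suMat_mul, ← Matrix.mulVec_mulVec, ← Matrix.mulVec_mulVec, tvp_apply hp,
    tvp_apply (pt_map hp g), Matrix.mulVec_add, Matrix.mulVec_smul, Matrix.mulVec_mulVec, ← suMat_mul,
    mul_inv_cancel, suMat_one, Matrix.one_mulVec]
  congr 2
  rw [← h4_eq, ← h4_eq, ← su_preserves g, Matrix.mulVec_mulVec, ← suMat_mul, mul_inv_cancel, suMat_one,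
    Matrix.one_mulVec]

theorem tvp_eq_smul {p q : V4} (hp : IsPt4 p) (hq : IsPt4 q) (e : tvp p = tvp q) : ∃ c : F4, c ≠ 0 ∧ q = c • p := by
  obtain ⟨x, hx⟩ := exists_h4_ne hq.1
  have h := congrArg (fun g => suMat g *ᵥ x) e
  simp only [tvp_apply hp, tvp_apply hq, add_right_inj] at h
  refine ⟨h4 x q * h4 x q * h4 x p, mul_ne_zero (mul_ne_zero hx hx) fun e0 => ?_, ?_⟩
  · rw [e0, zero_smul] at h
    exact (smul_eq_zero.1 h.symm).elim hx hq.1
  · rw [← smul_smul, h, smul_smul, f4_inv _ hx, one_smul]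

theorem tvp_comm_iff {p q : V4} (hp : IsPt4 p) (hq : IsPt4 q) :
    Commute (tvp p) (tvp q) ↔ h4 p q = 0 := by
  constructor
  · intro h
    by_contra h0
    have e : tvp p * tvp q * (tvp p)⁻¹ = tvp q := by rw [h.eq, mul_inv_cancel_right]
    rw [tvp_conj hq, tvp_apply hp] at e
    obtain ⟨c, -, hc⟩ := tvp_eq_smul hq
      (show IsPt4 (q + h4 q p • p) by rw [← tvp_apply hp]; exact pt_map hq _) e.symm
    have h2 := congrArg (fun v => h4 v q) hc
    simp only [h4_add_left, h4_smul_left, hq.2, mul_zero, zero_add, mul_eq_zero] at h2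
    exact h2.elim (fun e' => h0 (h4_zero_iff.1 e')) h0
  · intro h
    have h' := h4_zero_iff.1 h
    refine su_ext fun x => ?_
    simp only [suMat_mul, ← Matrix.mulVec_mulVec, tvp_apply hp, tvp_apply hq, h4_add_left, h4_smul_left, h, h',
      mul_zero, add_zero]
    abel

theorem tvp_braid {p q : V4} (hp : IsPt4 p) (hq : IsPt4 q) (h : h4 p q ≠ 0) :
    tvp p * tvp q * tvp p = tvp q * tvp p * tvp q := by
  have e1 : tvp p * tvp q * tvp p = tvp (q + h4 q p • p) := by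
    conv_lhs => arg 2; rw [← tvp_inv hp]
    rw [tvp_conj hq, tvp_apply hp]
  have e2 : tvp q * tvp p * tvp q = tvp (p + h4 p q • q) := by
    conv_lhs => arg 2; rw [← tvp_inv hq]
    rw [tvp_conj hp, tvp_apply hq]
  have hpt : IsPt4 (p + h4 p q • q) := by rw [← tvp_apply hq]; exact pt_map hp _
  have h' : h4 q p ≠ 0 := fun e => h (h4_zero_iff.1 e)
  rw [e1, e2, ← tvp_smul hpt h']
  congr 1
  rw [smul_add, smul_smul, h4_swap q p, show h4 q p * (h4 q p * h4 q p) = h4 q p * h4 q p * h4 q p by ring,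
    f4_inv _ h', one_smul, add_comm]

theorem tvp_cube {p q : V4} (hp : IsPt4 p) (hq : IsPt4 q) (h : h4 p q ≠ 0) : (tvp p * tvp q) ^ 3 = 1 := by
  rw [pow_succ, pow_succ, pow_one,
    show tvp p * tvp q * (tvp p * tvp q) * (tvp p * tvp q) =
      tvp p * tvp q * tvp p * (tvp q * tvp p * tvp q) by group,
    ← tvp_braid hp hq h,
    show tvp p * tvp q * tvp p * (tvp p * tvp q * tvp p) = tvp p * tvp q * (tvp p * tvp p) * tvp q * tvp p by group,
    tvp_sq hp, mul_one, mul_assoc (tvp p) (tvp q), tvp_sq hq, mul_one, tvp_sq hp]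

/-- The base point. -/
def p0 : V4 := tv2

theorem p0_pt : IsPt4 p0 := by decide +kernel

theorem tvp_rank {p : V4} (hp : IsPt4 p) : (suMat (tvp p) - 1).rank = 1 := by
  have e : suMat (tvp p) - 1 = Matrix.vecMulVec p (fun j => p j * p j) := by
    rw [tvp_mat hp]
    refine Matrix.ext fun i j => ?_
    simp [tmat, Matrix.vecMulVec_apply, Matrix.one_apply]
  refine le_antisymm (e ▸ Matrix.rank_vecMulVec_le _ _) ?_
  rw [Nat.one_le_iff_ne_zero, Matrix.rank]
  intro h0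
  refine tvp_ne_one hp (su_ext fun x => ?_)
  have hx : (suMat (tvp p) - 1) *ᵥ x = 0 := by
    have := Submodule.finrank_eq_zero.1 h0
    exact (Submodule.eq_bot_iff _).1 this _ ⟨x, rfl⟩
  rw [Matrix.sub_mulVec, Matrix.one_mulVec, sub_eq_zero] at hx
  rw [suMat_one, Matrix.one_mulVec, hx]

theorem exists_move {p : V4} (hp : IsPt4 p) :
    ∃ g : Cfsg.SU 4 F4 2, ∃ c : F4, c ≠ 0 ∧ suMat g *ᵥ p = c • p0 := by
  obtain ⟨g, hg⟩ := isConj_iff.1 (isConj_of_rank F4_natcard (by norm_num) (tvp_sq hp) (tvp_sq p0_pt)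
    ((tvp_rank hp).trans (tvp_rank p0_pt).symm))
  rw [tvp_conj hp] at hg
  exact ⟨g, tvp_eq_smul p0_pt (pt_map hp g) hg.symm⟩

/-- The involution of the second class. -/
noncomputable def t2 : Cfsg.SU 4 F4 2 := suElt (umat (1, 0, 1)) (umat_isU _)

theorem t2_facts : umat (1, 0, 1) * umat (1, 0, 1) = 1 ∧
    (!![1, 0, 0, 0; 0, 0, 1, 0] : Matrix (Fin 2) (Fin 4) F4) * (umat (1, 0, 1) - 1) *
        (!![1, 0; 0, 0; 0, 1; 0, 0] : Matrix (Fin 4) (Fin 2) F4) =
      (1 : Matrix (Fin 2) (Fin 2) F4) := by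
  decide +kernel

theorem t2_sq : t2 * t2 = 1 := Subtype.ext (Subtype.ext t2_facts.1)

theorem t2_rank : 2 ≤ (suMat t2 - 1).rank := by
  have h := congrArg Matrix.rank t2_facts.2
  rw [Matrix.rank_one, Fintype.card_fin] at h
  exact h.ge.trans ((Matrix.rank_mul_le_left _ _).trans (Matrix.rank_mul_le_right _ _))

theorem rank_le_two {a : Cfsg.SU 4 F4 2} (ha : a * a = 1) : (suMat a - 1).rank ≤ 2 := by
  have hN := isUDev_of_invol F4_natcard ha
  obtain ⟨e, he⟩ := exists_fam F4_natcard hN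
  have h := (linearIndependent_fam F4_natcard hN he).fintype_card_le_finrank
  simp only [Fintype.card_sum, Fintype.card_fin, Module.finrank_fin_fun] at h
  show Module.finrank F4 (LinearMap.range (suMat a - 1).mulVecLin) ≤ 2
  omega

/-- The two classes of involutions. -/
theorem invol_cases {a : Cfsg.SU 4 F4 2} (ha : a * a = 1) (h1 : a ≠ 1) :
    (∃ p, IsPt4 p ∧ a = tvp p) ∨ ∃ g : Cfsg.SU 4 F4 2, g * a * g⁻¹ = t2 := by
  rcases Nat.lt_or_ge (suMat a - 1).rank 1 with h | h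
  · refine absurd (su_ext fun x => ?_) h1
    have hx : (suMat a - 1) *ᵥ x = 0 := by
      have := Submodule.finrank_eq_zero.1 (Nat.lt_one_iff.1 h)
      exact (Submodule.eq_bot_iff _).1 this _ ⟨x, rfl⟩
    rw [Matrix.sub_mulVec, Matrix.one_mulVec, sub_eq_zero] at hx
    rw [suMat_one, Matrix.one_mulVec, hx]
  have h2 := rank_le_two ha
  have h3 := rank_le_two t2_sq
  have h4 := t2_rank
  rcases Nat.eq_or_lt_of_le h with e | e
  · obtain ⟨g, hg⟩ := isConj_iff.1 (isConj_of_rank F4_natcard (by norm_num) (tvp_sq p0_pt) ha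
      ((tvp_rank p0_pt).trans e))
    exact Or.inl ⟨_, pt_map p0_pt g, by rw [← hg, tvp_conj p0_pt]⟩
  · exact Or.inr (isConj_iff.1 (isConj_of_rank F4_natcard (by norm_num) ha t2_sq (by omega)))

theorem p0_common : ∀ q : V4, IsPt4 q → ∃ r : V4, IsPt4 r ∧ h4 r p0 = 0 ∧ h4 r q = 0 := by decide +kernel

theorem p0_apart : ∀ q : V4, IsPt4 q → ∃ r : V4, IsPt4 r ∧ h4 r p0 ≠ 0 ∧ h4 r q ≠ 0 := by decide +kernel

theorem exists_common {p q : V4} (hp : IsPt4 p) (hq : IsPt4 q) :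
    ∃ r, IsPt4 r ∧ h4 r p = 0 ∧ h4 r q = 0 := by
  obtain ⟨g, c, hc, hg⟩ := exists_move hp
  obtain ⟨r, hr, h1, h2⟩ := p0_common _ (pt_map hq g)
  refine ⟨suMat g⁻¹ *ᵥ r, pt_map hr _, ?_, ?_⟩
  · rw [← h4_eq, ← su_preserves g, Matrix.mulVec_mulVec, ← suMat_mul, mul_inv_cancel, suMat_one,
      Matrix.one_mulVec, hg, h4_eq, h4_smul_right, h1, mul_zero]
  · rw [← h4_eq, ← su_preserves g, Matrix.mulVec_mulVec, ← suMat_mul, mul_inv_cancel, suMat_one,
      Matrix.one_mulVec, h4_eq, h2]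

theorem exists_apart {p q : V4} (hp : IsPt4 p) (hq : IsPt4 q) :
    ∃ r, IsPt4 r ∧ h4 r p ≠ 0 ∧ h4 r q ≠ 0 := by
  obtain ⟨g, c, hc, hg⟩ := exists_move hp
  obtain ⟨r, hr, h1, h2⟩ := p0_apart _ (pt_map hq g)
  refine ⟨suMat g⁻¹ *ᵥ r, pt_map hr _, ?_, ?_⟩
  · rw [← h4_eq, ← su_preserves g, Matrix.mulVec_mulVec, ← suMat_mul, mul_inv_cancel, suMat_one,
      Matrix.one_mulVec, hg, h4_eq, h4_smul_right]
    exact mul_ne_zero (mul_ne_zero hc hc) h1
  · rw [← h4_eq, ← su_preserves g, Matrix.mulVec_mulVec, ← suMat_mul, mul_inv_cancel, suMat_one,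
      Matrix.one_mulVec, h4_eq]
    exact h2

/-- The point on a line orthogonal to a point. -/
theorem exists_on_line {a p q : V4} (hp : IsPt4 p) (hq : IsPt4 q) (hap : h4 a p ≠ 0) (hpq : h4 p q = 0)
    (hne : ∀ c : F4, q ≠ c • p) : ∃ c : F4, IsPt4 (q + c • p) ∧ h4 (q + c • p) a = 0 ∧
      ∀ d : F4, q + c • p ≠ d • p := by
  have hpa : h4 p a ≠ 0 := fun e => hap (h4_zero_iff.1 e)
  refine ⟨h4 q a * (h4 p a * h4 p a), ⟨fun e => ?_, ?_⟩, ?_, fun d e => ?_⟩
  · exact hne _ (funext fun i => eq_of_add_F4 _ _ (congrFun e i))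
  · simp [h4_add_left, h4_add_right, h4_smul_left, h4_smul_right, hp.2, hq.2, hpq, h4_zero_iff.1 hpq]
  · rw [h4_add_left, h4_smul_left,
      show h4 q a * (h4 p a * h4 p a) * h4 p a = h4 q a * (h4 p a * h4 p a * h4 p a) by ring, f4_inv _ hpa,
      mul_one, add_self_F4]
  · refine hne (d + h4 q a * (h4 p a * h4 p a)) ?_
    rw [add_smul, ← e, add_assoc, v4_self, add_zero]

theorem pts_card : (Finset.univ.filter fun p : V4 => IsPt4 p).card = 135 := by decide +kernel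

/-- A point orthogonal to the base point. -/
theorem p0_perp : ∀ q : V4, IsPt4 q → h4 q p0 = 0 →
    q 0 = q 1 ∧ ((q 2 = 0 ∧ q 3 = 0) ∨ (q 2 ≠ 0 ∧ q 3 ≠ 0)) := by decide +kernel

theorem plane_tmat : ∀ b c : F4, IsPt4 ![b, b, c, c] → ∃ h : Hx, umat h = tmat ![b, b, c, c] := by decide +kernel

theorem tvp_p0 : tmat p0 = umat (1, 0, 0) := by decide +kernel

theorem closure_tvp : Subgroup.closure {g : Cfsg.SU 4 F4 2 | ∃ p, IsPt4 p ∧ tvp p = g} = ⊤ := by
  rw [eq_top_iff, ← tvGroup_eq_top F4_natcard (n := 4) (by omega) (by omega), tvGroup, Subgroup.closure_le]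
  rintro A ⟨w, c, hw, hA⟩
  by_cases h1 : A = 1
  · rw [h1]; exact one_mem _
  have hw0 : w ≠ 0 := fun e => h1 (su_ext fun x => by
    rw [hA, utv_mulVec, e, smul_zero, add_zero, suMat_one, Matrix.one_mulVec])
  have hp : IsPt4 w := ⟨hw0, by rw [← h4_eq]; exact hw⟩
  refine Subgroup.subset_closure ⟨w, hp, su_ext fun x => ?_⟩
  rw [hA, tvp_apply hp, utv_mulVec, h4_eq]
  have hd : ∀ a : F4, a ≠ 0 → a + a ^ 2 = 0 → a = 1 := by decide +kernel
  obtain ⟨i, hi⟩ := Function.ne_iff.1 hw0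
  have hc : c = 1 := by
    by_cases hc0 : c = 0
    · refine absurd (su_ext fun x => ?_) h1
      rw [hA, utv_mulVec, hc0, zero_mul, zero_smul, add_zero, suMat_one, Matrix.one_mulVec]
    refine hd c hc0 ?_
    obtain ⟨y, hy⟩ := exists_h4_ne hw0
    have h := su_preserves A y y
    rw [hA, utv_mulVec, h4_eq, h4_eq] at h
    simp only [h4_add_left, h4_add_right, h4_smul_left, h4_smul_right, hp.2, h4_swap y w, mul_zero, add_zero,
      h4_eq] at h
    have key : ∀ c s x : F4, s ≠ 0 → x + c * s * (s * s) + c * s * (c * s) * s = x → c + c ^ 2 = 0 := by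
      decide +kernel
    exact key c (h4 y w) (h4 y y) hy h
  rw [hc, one_mul]

end CfsgLib.FiLarge.U62
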